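import Cfsg.Agent.Lib.Gag.Defs
import Cfsg.Agent.Lib.FT.Main
import Cfsg.Agent.Lib.Block.ZStar
import Cfsg.Agent.Lib.Grp.PSolv

/-!
# Groups with abelian Sylow `2`-subgroups and no odd normal subgroup
-/

set_option autoImplicit false
set_option linter.unusedSectionVars false

namespace GAG

open Cfsg GT FT Subgroup
open scoped Pointwise commutatorElement

variable {Γ : Type*} [Group Γ]

/-- The subgroup generated by the `2`-elements of `H`. -/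
def Y2 (H : Subgroup Γ) : Subgroup Γ := closure {g | g ∈ H ∧ IsPElt 2 g}

theorem Y2_le_iff {H M : Subgroup Γ} : Y2 H ≤ M ↔ ∀ g ∈ H, IsPElt 2 g → g ∈ M := by
  rw [Y2, closure_le]
  exact ⟨fun h g h1 h2 => h ⟨h1, h2⟩, fun h g hg => h g hg.1 hg.2⟩

theorem Y2_le (H : Subgroup Γ) : Y2 H ≤ H := Y2_le_iff.2 fun _ h _ => h

theorem mem_Y2 {H : Subgroup Γ} {g : Γ} (h1 : g ∈ H) (h2 : IsPElt 2 g) : g ∈ Y2 H :=
  subset_closure ⟨h1, h2⟩

theorem le_Y2 {H P : Subgroup Γ} (hP : IsPGroup 2 P) (h : P ≤ H) : P ≤ Y2 H :=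
  fun _ hg => mem_Y2 (h hg) (isPElt_of_mem hP hg)

theorem Y2_mono {H K : Subgroup Γ} (h : H ≤ K) : Y2 H ≤ Y2 K :=
  Y2_le_iff.2 fun _ h1 h2 => mem_Y2 (h h1) h2

theorem conj_Y2_le (g : Γ) (H : Subgroup Γ) : MulAut.conj g • Y2 H ≤ Y2 (MulAut.conj g • H) := by
  rw [conj_smul_le_iff_le_inv, Y2_le_iff]
  intro x h1 h2
  rw [mem_conj_smul, inv_inv]
  exact mem_Y2 (conj_mem_conj_smul.2 h1) (h2.conj g)

theorem comm_elt {P : Subgroup Γ} (h : P ≤ 𝐂(P)) {x y : Γ} (hx : x ∈ P) (hy : y ∈ P) :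
    x * y = y * x := (h hy) x hx

variable [Finite Γ]

theorem norm_of_conj_le {H : Subgroup Γ} {g : Γ} (h : MulAut.conj g • H ≤ H) : g ∈ 𝐍(H) :=
  mem_normalizer_of_conj_mem (conj_smul_le_iff.1 h)

theorem norm_le_norm_Y2 (H : Subgroup Γ) : 𝐍(H) ≤ 𝐍(Y2 H) := fun g hg =>
  norm_of_conj_le ((conj_Y2_le g H).trans (by rw [conj_smul_eq_of_mem_normalizer hg]))

theorem odd_solv {H : Subgroup Γ} (h : ¬ 2 ∣ Nat.card H) : Group.IsSolvable H :=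
  feit_thompson H (Nat.odd_iff.2 (by omega))

theorem two_comm {T : Subgroup Γ} (hT : IsSylowIn 2 T ⊤) (hab : T ≤ 𝐂(T)) {P : Subgroup Γ}
    (hP : IsPGroup 2 P) : P ≤ 𝐂(P) := by
  obtain ⟨g, -, hg⟩ := hT.exists_conj_le hP le_top
  intro x hx y hy
  have := comm_elt hab (conj_smul_le_iff.1 hg y hy) (conj_smul_le_iff.1 hg x hx)
  have h2 : g * (y * x) * g⁻¹ = g * (x * y) * g⁻¹ := by
    calc g * (y * x) * g⁻¹ = g * y * g⁻¹ * (g * x * g⁻¹) := by group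
      _ = g * x * g⁻¹ * (g * y * g⁻¹) := this
      _ = _ := by group
  simpa using h2

/-- a `2`-subgroup is centralized by the `2`-elements normalizing it -/
theorem mem_cent_of_two {T : Subgroup Γ} (hT : IsSylowIn 2 T ⊤) (hab : T ≤ 𝐂(T)) {Q : Subgroup Γ}
    (hQ : IsPGroup 2 Q) {g : Γ} (hg : IsPElt 2 g) (hn : g ∈ 𝐍(Q)) : g ∈ 𝐂(Q) := by
  have h1 : IsPGroup 2 (zpowers g ⊔ Q : Subgroup Γ) :=
    hg.isPGroup_zpowers.to_sup_of_normal_right' hQ (zpowers_le.2 hn)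
  exact centralizer_anti le_sup_right (two_comm hT hab h1 (mem_sup_left (mem_zpowers g)))

theorem burnside_fusion {p : ℕ} [Fact p.Prime] {B P : Subgroup Γ} (hP : IsSylowIn p P B)
    (hab : P ≤ 𝐂(P)) {x u : Γ} (hx : x ∈ P) (hu : u ∈ B) (hy : u * x * u⁻¹ ∈ P) :
    ∃ n ∈ B ⊓ 𝐍(P), n * x * n⁻¹ = u * x * u⁻¹ := by
  have h1 : IsSylowIn p P (B ⊓ 𝐂[u * x * u⁻¹]) :=
    hP.of_le (le_inf hP.le fun a ha => mem_cent1.2 (comm_elt hab ha hy)) inf_le_left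
  have h2 : IsSylowIn p (MulAut.conj u • P) (B ⊓ 𝐂[u * x * u⁻¹]) := by
    refine (hP.conj_of_mem hu).of_le (le_inf (hP.conj_of_mem hu).le ?_) inf_le_left
    rw [← conj_smul_centralizer_singleton]
    exact conj_smul_mono u fun a ha => mem_cent1.2 (comm_elt hab ha hx)
  obtain ⟨c, hc, e⟩ := h2.exists_conj_eq h1
  refine ⟨c * u, ⟨B.mul_mem hc.1 hu, ?_⟩, ?_⟩
  · exact conj_smul_eq_iff_mem_normalizer.1 (by rw [← conj_smul_conj_smul, e])
  · have := mem_cent1.1 hc.2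
    calc c * u * x * (c * u)⁻¹ = c * (u * x * u⁻¹) * c⁻¹ := by group
      _ = _ := by rw [this]; group

theorem exists_compl_norm {p : ℕ} [Fact p.Prime] {B P : Subgroup Γ} (hP : IsSylowIn p P B)
    (hn : B ≤ 𝐍(P)) : ∃ K : Subgroup Γ, K ≤ B ∧ P ⊔ K = B ∧ ¬ p ∣ Nat.card K := by
  obtain ⟨K, h1, h2, -, h4⟩ := exists_complement_in hP.le hn hP.coprime_card_relIndex
  exact ⟨K, h1, h2, h4 ▸ hP.not_dvd⟩

/-- transfer into an abelian Sylow subgroup -/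
theorem der_inf_eq_bot {p : ℕ} [Fact p.Prime] {B P : Subgroup Γ} (hP : IsSylowIn p P B)
    (hab : P ≤ 𝐂(P)) {x : Γ} (h1 : x ∈ ⁅B, B⁆) (h2 : x ∈ P) (h3 : B ⊓ 𝐍(P) ≤ 𝐂[x]) : x = 1 := by
  obtain ⟨K, hK1, hK2, hK3⟩ := exists_compl_norm
    (hP.of_le (le_inf hP.le le_normalizer) inf_le_left) (inf_le_right (a := B))
  have hc : CoprimeAct K P := coprimeAct_of_isPGroup_right (hK1.trans inf_le_right) hP.isPGroup hK3
  have := comm_iff_le_cent.2 hab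
  have h4 : ⁅B, B⁆ ⊓ P ≤ ⁅P, K⁆ := hP.commutator_inf_le fun y hy u hu hyu => by
    obtain ⟨n, hn, e⟩ := burnside_fusion hP hab hy hu hyu
    rw [← hK2] at hn
    obtain ⟨k, hk, s, hs, rfl⟩ := (mem_sup_of_le_normalizer_right (H := K) (N := P)
      (hK1.trans inf_le_right)).1 (by rwa [sup_comm] at hn)
    have h5 : k * s * y * (k * s)⁻¹ = k * y * k⁻¹ := by
      calc k * s * y * (k * s)⁻¹ = k * (s * y) * s⁻¹ * k⁻¹ := by group
        _ = _ := by rw [comm_elt hab hs hy]; group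
    rw [← e, h5]
    have := commutator_mem_commutator hy hk
    rw [commutatorElement_def] at this
    convert this using 1; group
  exact (Subgroup.disjoint_def.1 hc.disjoint_commutator_centralizer) (h4 ⟨h1, h2⟩)
    (le_cent1_iff.1 (hK1.trans h3))

/-- the `Z*`-theorem for abelian Sylow subgroups, internal form -/
theorem le_cent1_of_norm {B P : Subgroup Γ} (hO : Op' 2 B = ⊥) (hP : IsSylowIn 2 P B)
    (hab : P ≤ 𝐂(P)) {t : Γ} (ht : t ∈ P) (hN : B ⊓ 𝐍(P) ≤ 𝐂[t]) : B ≤ 𝐂[t] := by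
  have hO' : pPrimeCore 2 B = ⊥ := by
    rw [Op'_eq_map] at hO
    exact (map_eq_bot_iff_of_injective _ B.subtype_injective).1 hO
  have := BT.mem_center_of_abelian_of_normalizer hO' hP.toSylow
    (fun x hx y hy => Subtype.ext (comm_elt hab hx hy)) (t := ⟨t, hP.le ht⟩) ht fun n hn => by
      rw [hP.coe_toSylow, ← sgOf_norm hP.le] at hn
      have := mem_cent1.1 (hN ⟨n.2, hn⟩)
      exact Subtype.ext (by simp only [coe_mul, coe_inv]; rw [this]; group)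
  intro b hb
  exact mem_cent1.2 (congrArg Subtype.val (mem_center_iff.1 this ⟨b, hb⟩))

theorem exists_Op_ne_bot {N : Subgroup Γ} (h : N ≠ ⊥) [Group.IsSolvable N] :
    ∃ p : ℕ, ∃ _ : Fact p.Prime, Op p N ≠ ⊥ := by
  have := (nontrivial_iff_ne_bot N).2 h
  obtain ⟨p, hp, h1⟩ := exists_pCore_ne_bot (G := N)
  refine ⟨p, ⟨hp⟩, fun h2 => h1 ?_⟩
  have : Fact p.Prime := ⟨hp⟩
  rw [Op_eq_map] at h2
  exact (map_eq_bot_iff_of_injective _ N.subtype_injective).1 h2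

theorem simple_of_forall {K : Subgroup Γ} (h1 : K ≠ ⊥)
    (h : ∀ N : Subgroup Γ, N ≤ K → K ≤ 𝐍(N) → N = ⊥ ∨ N = K) : IsSimpleGroup K := by
  have := (nontrivial_iff_ne_bot K).2 h1
  refine ⟨fun N hN => ?_⟩
  rcases h _ (map_subtype_le N) (le_norm_map_subtype N) with h2 | h2
  · exact Or.inl ((map_eq_bot_iff_of_injective _ K.subtype_injective).1 h2)
  · refine Or.inr ?_
    rw [← sgOf_map_subtype N, h2, subgroupOf_self]

namespace Cmp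

variable {K K' T : Subgroup Γ} (h : Cmp K)
include h

theorem eq_bot_or_eq {N : Subgroup Γ} (hN : N ≤ K) (hn : K ≤ 𝐍(N)) : N = ⊥ ∨ N = K := by
  have := h.simple
  rcases IsSimpleGroup.eq_bot_or_eq_top_of_normal (N.subgroupOf K) (subgroupOf_normal hn) with h1 | h1
  · exact Or.inl ((sgOf_eq_bot_iff hN).1 h1)
  · exact Or.inr (le_antisymm hN (subgroupOf_eq_top.1 h1))

theorem eq_bot_of_solv {N : Subgroup Γ} (hN : N ≤ K) (hn : K ≤ 𝐍(N)) (hs : Group.IsSolvable N) :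
    N = ⊥ := (h.eq_bot_or_eq hN hn).resolve_right fun e => h.ns (e ▸ hs)

theorem ne_bot : K ≠ ⊥ := fun e => h.ns (e ▸ inferInstance)

theorem two_dvd : 2 ∣ Nat.card K := by
  by_contra h1
  exact h.ns (odd_solv h1)

theorem eq_one_of_cent {x : Γ} (h1 : x ∈ K) (h2 : x ∈ 𝐂(K)) : x = 1 := by
  have h3 : Zc K = ⊥ := h.eq_bot_of_solv inf_le_left (le_normalizer.trans (norm_le_norm_Zc K))
    (have := isMulCommutative_Zc K; isSolvable_of_isMulCommutative)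
  exact mem_bot.1 (h3 ▸ (⟨h1, h2⟩ : x ∈ Zc K))

theorem conj (g : Γ) : Cmp (MulAut.conj g • K) where
  simple := have := h.simple; (conjEquiv g K).symm.isSimpleGroup
  ns := fun _ => h.ns (isSolvable_of_mulEquiv (conjEquiv g K).symm)
  norm x hx := by
    rw [← conj_smul_normalizer, mem_conj_smul]
    have := h.norm _ (hx.conj g⁻¹)
    rwa [inv_inv] at this

theorem Y2_le_norm (H : Subgroup Γ) : Y2 H ≤ 𝐍(K) := Y2_le_iff.2 fun g _ hg => h.norm g hg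

theorem le_norm_of_two {P : Subgroup Γ} (hP : IsPGroup 2 P) : P ≤ 𝐍(K) :=
  fun g hg => h.norm g (isPElt_of_mem hP hg)

theorem Y2_eq : Y2 K = K := by
  refine (h.eq_bot_or_eq (Y2_le K) (le_normalizer.trans (norm_le_norm_Y2 K))).resolve_left fun e => ?_
  obtain ⟨P, hP⟩ := exists_isSylowIn 2 K
  exact hP.ne_bot h.two_dvd (le_bot_iff.1 (e ▸ le_Y2 hP.isPGroup hP.le))

theorem le_cent_of_ne (h' : Cmp K') (hne : K ≠ K') : K ≤ 𝐂(K') := by
  have h1 : K ≤ 𝐍(K') := h.Y2_eq ▸ h'.Y2_le_norm K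
  have h2 : K' ≤ 𝐍(K) := h'.Y2_eq ▸ h.Y2_le_norm K'
  refine commute_of_normal_of_disjoint' h2 h1 (disjoint_iff.2 ?_)
  rcases h.eq_bot_or_eq inf_le_left (le_normalizer_inf le_normalizer h1) with h3 | h3
  · exact h3
  rcases h'.eq_bot_or_eq inf_le_right (le_normalizer_inf h2 le_normalizer) with h4 | h4
  · exact h4
  exact (hne (h3.symm.trans h4)).elim

theorem sylow (hT : IsSylowIn 2 T ⊤) : IsSylowIn 2 (T ⊓ K) K :=
  (hT.of_le le_sup_left (le_top (a := T ⊔ K))).inf_of_le_normalizer le_sup_right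
    (sup_le (h.le_norm_of_two hT.isPGroup) le_normalizer)

theorem inf_ne_bot (hT : IsSylowIn 2 T ⊤) : T ⊓ K ≠ ⊥ := (h.sylow hT).ne_bot h.two_dvd

theorem der_le (hT : IsSylowIn 2 T ⊤) : ⁅T, K ⊓ 𝐍(T)⁆ ≤ T ⊓ K :=
  le_inf (le_normalizer_iff_commutator_le_left.1 inf_le_right) ((commutator_mono le_rfl inf_le_left).trans
    (le_normalizer_iff_commutator_le_right.1 (h.le_norm_of_two hT.isPGroup)))

theorem decomp (hT : IsSylowIn 2 T ⊤) (hab : T ≤ 𝐂(T)) : T ≤ ⁅T, K ⊓ 𝐍(T)⁆ ⊔ (T ⊓ 𝐂(K)) := by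
  have hTK := h.le_norm_of_two hT.isPGroup
  have hV : IsSylowIn 2 (T ⊓ K) (K ⊓ 𝐍(T)) :=
    (h.sylow hT).of_le (le_inf inf_le_right (inf_le_left.trans le_normalizer)) inf_le_left
  obtain ⟨N, hN1, hN2, hN3⟩ := exists_compl_norm hV
    (le_normalizer_inf inf_le_right (inf_le_left.trans le_normalizer))
  have hc : CoprimeAct N T := coprimeAct_of_isPGroup_right (hN1.trans inf_le_right) hT.isPGroup hN3
  have hO : Op' 2 (T ⊔ K) = ⊥ := by
    have h1 : Op' 2 (T ⊔ K) ≤ K := by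
      refine le_of_coprime_card_relIndex (piCoreOf_le _ _) (sup_le hTK le_normalizer) ?_
      rw [relIndex_sup_of_le_normalizer hTK]
      obtain ⟨k, hk⟩ := hT.isPGroup.exists_relIndex_eq_pow K
      rw [hk]
      exact Nat.Coprime.pow_right _ ((Nat.Prime.coprime_iff_not_dvd Nat.prime_two).2
        (not_dvd_card_Op' 2 _)).symm
    exact h.eq_bot_of_solv h1 (le_sup_right.trans (le_norm_piCoreOf _ _))
      (odd_solv (not_dvd_card_Op' 2 _))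
  refine hc.commutator_sup_inf_centralizer.symm.le.trans
    (sup_le_sup (commutator_mono le_rfl hN1) fun t ht => ⟨ht.1, ?_⟩)
  refine le_cent1_iff.1 (le_sup_right.trans
    (le_cent1_of_norm hO (hT.of_le le_sup_left le_top) hab ht.1 fun g hg => ?_))
  obtain ⟨s, hs, k, hk, rfl⟩ := (mem_sup_of_le_normalizer_right hTK).1 hg.1
  have h1 : k ∈ K ⊓ 𝐍(T) := ⟨hk, (Subgroup.mul_mem_cancel_left _ (le_normalizer hs)).1 hg.2⟩
  refine Subgroup.mul_mem _ (mem_cent1.2 (comm_elt hab hs ht.1)) ?_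
  rw [← hN2] at h1
  exact (sup_le (fun v hv => mem_cent1.2 (comm_elt hab hv.1 ht.1)) (le_cent1_iff.2 ht.2)) h1

theorem exists_mul (hT : IsSylowIn 2 T ⊤) (hab : T ≤ 𝐂(T)) {t : Γ} (ht : t ∈ T) :
    ∃ v ∈ T ⊓ K, ∃ u ∈ T ⊓ 𝐂(K), v * u = t :=
  (mem_sup_of_le_normalizer_left (inf_le_left.trans
    (le_normalizer_inf le_normalizer (h.le_norm_of_two hT.isPGroup)))).1
    (sup_le_sup_right (h.der_le hT) _ (h.decomp hT hab ht))

theorem le_norm_of_odd (hT : IsSylowIn 2 T ⊤) {D : Subgroup Γ} (hD : ¬ 2 ∣ Nat.card D)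
    (hn : T ≤ 𝐍(D)) : D ≤ 𝐍(K) := by
  intro d hd
  by_contra hne
  have h1 := h.le_cent_of_ne (h.conj d) fun e => hne (conj_smul_eq_iff_mem_normalizer.1 e.symm)
  obtain ⟨v, hv, hv1⟩ := (Subgroup.bot_or_exists_ne_one (T ⊓ K)).resolve_left (h.inf_ne_bot hT)
  have hw : d * v * d⁻¹ ∈ MulAut.conj d • K := conj_mem_conj_smul.2 hv.2
  have hc : Commute (d * v * d⁻¹) v := h1 hv.2 _ hw
  have h2 : IsPElt 2 (d * v * d⁻¹ * v⁻¹) :=
    ((isPElt_of_mem hT.isPGroup hv.1).conj d).mul_of_commute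
      (isPElt_of_mem hT.isPGroup hv.1).inv hc.inv_right
  have h3 : d * v * d⁻¹ * v⁻¹ ∈ D := by
    have := D.mul_mem hd (conj_mem_of_mem_normalizer (hn hv.1) (D.inv_mem hd))
    convert this using 1; group
  have h4 := mul_inv_eq_one.1 (h2.eq_one_of_isPRegular (isPRegular_of_mem hD h3))
  exact hv1 (h.eq_one_of_cent hv.2 (le_cent_comm.1 h1 (h4 ▸ hw)))

end Cmp

/-- The product of the components. -/
def Lay (Γ : Type*) [Group Γ] : Subgroup Γ := sSup {K | Cmp K}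

theorem Cmp.le_Lay {K : Subgroup Γ} (h : Cmp K) : K ≤ Lay Γ := le_sSup h

theorem Lay_le {M : Subgroup Γ} (h : ∀ K, Cmp K → K ≤ M) : Lay Γ ≤ M := sSup_le h

theorem norm_Lay (g : Γ) : g ∈ 𝐍(Lay Γ) := by
  refine norm_of_conj_le (conj_smul_le_iff_le_inv.2 (Lay_le fun K hK => ?_))
  exact conj_smul_le_iff_le_inv.1 (hK.conj g).le_Lay

section Str

variable {T : Subgroup Γ} (hO : Op' 2 (⊤ : Subgroup Γ) = ⊥) (hT : IsSylowIn 2 T ⊤) (hab : T ≤ 𝐂(T))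

include hT hab in
theorem exists_cent_cmp {M : Subgroup Γ} (hM : ∀ K, Cmp K → T ⊓ K ≤ M) {t : Γ} (ht : t ∈ T) :
    ∃ u ∈ T ⊓ 𝐂(Lay Γ), t * u⁻¹ ∈ M := by
  classical
  have key : ∀ s : Finset (Subgroup Γ), (∀ K ∈ s, Cmp K) →
      ∃ u ∈ T, (∀ K ∈ s, u ∈ 𝐂(K)) ∧ t * u⁻¹ ∈ M := by
    intro s
    induction s using Finset.induction_on with
    | empty => exact fun _ => ⟨t, ht, by simp, by simp⟩
    | insert K s hK ih =>
      intro hs
      obtain ⟨u, hu, h1, h2⟩ := ih fun L hL => hs L (Finset.mem_insert_of_mem hL)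
      have hK' := hs K (Finset.mem_insert_self _ _)
      obtain ⟨v, hv, w, hw, rfl⟩ := hK'.exists_mul hT hab hu
      refine ⟨w, hw.1, fun L hL => ?_, ?_⟩
      · rcases Finset.mem_insert.1 hL with rfl | hL'
        · exact hw.2
        · exact (Subgroup.mul_mem_cancel_left _ (hK'.le_cent_of_ne (hs L hL)
            (fun e => hK (e ▸ hL')) hv.2)).1 (h1 L hL')
      · have := M.mul_mem h2 (hM K hK' hv)
        have e : t * (v * w)⁻¹ * v = t * w⁻¹ := by group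
        rwa [e] at this
  obtain ⟨u, hu, h1, h2⟩ := key (Set.toFinite {K : Subgroup Γ | Cmp K}).toFinset
    fun K hK => (Set.Finite.mem_toFinset _).1 hK
  refine ⟨u, ⟨hu, le_cent1_iff.1 (Lay_le fun K hK => le_cent1_iff.2 ?_)⟩, h2⟩
  exact h1 K ((Set.Finite.mem_toFinset _).2 hK)

include hO in
theorem eq_bot_of_odd {N : Subgroup Γ} (h1 : N ≤ Y2 ⊤) (h2 : Y2 ⊤ ≤ 𝐍(N)) (h3 : ¬ 2 ∣ Nat.card N) :
    N = ⊥ :=
  le_bot_iff.1 (hO ▸ (le_Op' h1 h2 h3).trans (piCoreOf_le_of_normal _ le_top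
    (le_normalizer.trans (norm_le_norm_Y2 ⊤))))

include hT hab in
theorem cmp_of_minimal {N : Subgroup Γ} (h1 : Y2 ⊤ ≤ 𝐍(N)) (hns : ¬ Group.IsSolvable N)
    (hmin : ∀ M : Subgroup Γ, M ≤ N → M ≠ ⊥ → Y2 ⊤ ≤ 𝐍(M) → M = N) : Cmp N := by
  refine ⟨simple_of_forall (fun e => hns (e ▸ inferInstance)) fun M hM hn => ?_, hns,
    fun g hg => h1 (mem_Y2 (mem_top g) hg)⟩
  by_cases hM0 : M = ⊥
  · exact Or.inl hM0
  obtain ⟨K, hKM, hK⟩ := (Set.toFinite {K : Subgroup Γ | K ≤ N ∧ K ≠ ⊥ ∧ N ≤ 𝐍(K)}).exists_le_minimal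
    (a := M) ⟨hM, hM0, hn⟩
  obtain ⟨hK1, hK2, hK3⟩ := hK.prop
  have hKs : ¬ Group.IsSolvable K := fun _ => by
    obtain ⟨p, _, hp⟩ := exists_Op_ne_bot hK2
    have h2 : Op p N = N := hmin _ (piCoreOf_le _ _)
      (fun e => hp (le_bot_iff.1 (e ▸ piCoreOf_le_of_normal _ hK1 hK3)))
      (h1.trans (norm_le_norm_piCoreOf _ _))
    exact hns (IsPGroup.isSolvable' (h2 ▸ isPGroup_Op p N))
  refine Or.inr (le_antisymm hM ((hmin K hK1 hK2 (Y2_le_iff.2 fun g _ hg => ?_)).symm.le.trans hKM))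
  obtain ⟨S, hS, hgS⟩ := exists_isSylowIn_ge hg.isPGroup_zpowers (le_top (a := zpowers g))
  have hSN : S ≤ 𝐍(N) := (le_Y2 hS.isPGroup le_top).trans h1
  have h2 : IsSylowIn 2 (S ⊓ N) N := (hS.of_le le_sup_left (le_top (a := S ⊔ N))).inf_of_le_normalizer
    le_sup_right (sup_le hSN le_normalizer)
  have h3 := (h2.inf_of_le_normalizer hK1 hK3).ne_bot (by
    by_contra h4
    exact hKs (odd_solv h4))
  obtain ⟨v, hv, hv1⟩ := (Subgroup.bot_or_exists_ne_one _).resolve_left h3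
  have hgN : g ∈ 𝐍(N) := hSN (hgS (mem_zpowers g))
  have h4 : N ≤ 𝐍(MulAut.conj g • K) := by
    rw [← conj_smul_normalizer, ← conj_smul_eq_of_mem_normalizer hgN]
    exact conj_smul_mono g hK3
  have h5 : v ∈ MulAut.conj g • K := by
    have := comm_elt (two_comm hT hab hS.isPGroup) hv.1.1 (hgS (mem_zpowers g))
    rw [mem_conj_smul, mul_assoc, this, inv_mul_cancel_left]
    exact hv.2
  have h6 := hK.le_of_le (y := K ⊓ MulAut.conj g • K) ⟨inf_le_left.trans hK1,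
    fun e => hv1 (mem_bot.1 (e ▸ (⟨hv.2, h5⟩ : v ∈ K ⊓ MulAut.conj g • K))),
    le_normalizer_inf hK3 h4⟩ inf_le_left
  exact conj_smul_eq_iff_mem_normalizer.1
    (Subgroup.eq_of_le_of_card_ge (h6.trans inf_le_right) (card_conj_smul g K).le).symm

theorem norm_Y0 (g : Γ) : g ∈ 𝐍((Y2 ⊤ ⊓ 𝐂(Lay Γ) : Subgroup Γ)) :=
  le_normalizer_inf (A := ⊤) (le_normalizer.trans (norm_le_norm_Y2 ⊤))
    (le_normalizer_centralizer fun x _ => norm_Lay x) (mem_top g)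

include hO hT hab

theorem Y0_comm : (Y2 ⊤ ⊓ 𝐂(Lay Γ) : Subgroup Γ) ≤ 𝐂((Y2 ⊤ ⊓ 𝐂(Lay Γ) : Subgroup Γ)) := by
  set Y0 : Subgroup Γ := Y2 ⊤ ⊓ 𝐂(Lay Γ) with hY0
  rw [← commutator_eq_bot_iff_le_centralizer]
  by_contra hne
  obtain ⟨N, hN0, hN⟩ := (Set.toFinite {K : Subgroup Γ | K ≠ ⊥ ∧ Y2 ⊤ ≤ 𝐍(K)}).exists_le_minimal
    (a := ⁅Y0, Y0⁆) ⟨hne, fun g _ => norm_le_norm_der _ (norm_Y0 g)⟩
  obtain ⟨hN1, hN2⟩ := hN.prop
  have hNY : N ≤ Y0 := hN0.trans (der_le _)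
  by_cases hs : Group.IsSolvable N
  · obtain ⟨p, _, hp⟩ := exists_Op_ne_bot hN1
    have h1 : Y2 ⊤ ≤ 𝐍(Op p N) := hN2.trans (norm_le_norm_piCoreOf _ _)
    have h2 : Op p N ≤ Y2 ⊤ := (piCoreOf_le _ _).trans (hNY.trans inf_le_left)
    by_cases hp2 : p = 2
    · subst hp2
      obtain ⟨x, hx, hx1⟩ := (Subgroup.bot_or_exists_ne_one _).resolve_left hp
      have hTY : IsSylowIn 2 T (Y2 ⊤) := hT.of_le (le_Y2 hT.isPGroup le_top) le_top
      have h3 : Y2 ⊤ ≤ 𝐂(Op 2 N) := Y2_le_iff.2 fun g _ hg =>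
        mem_cent_of_two hT hab (isPGroup_Op 2 N) hg (h1 (mem_Y2 (mem_top g) hg))
      refine hx1 (der_inf_eq_bot hTY hab (commutator_mono inf_le_left inf_le_left
        (hN0 (piCoreOf_le _ _ hx))) (hT.le_of_normalizes (isPGroup_Op 2 N) le_top
          (hTY.le.trans h1) hx) (inf_le_left.trans (h3.trans (cent_le_cent1 hx))))
    · refine hp (eq_bot_of_odd hO h2 h1 fun h3 => hp2 ?_)
      obtain ⟨k, hk⟩ := IsPGroup.iff_card.1 (isPGroup_Op p N)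
      rw [hk] at h3
      exact ((Nat.prime_dvd_prime_iff_eq Nat.prime_two Fact.out).1
        (Nat.prime_two.dvd_of_dvd_pow h3)).symm
  · have hC := cmp_of_minimal hT hab hN2 hs fun M h1 h2 h3 =>
      le_antisymm h1 (hN.le_of_le ⟨h2, h3⟩ h1)
    refine hN1 (eq_bot_iff.2 fun x hx => mem_bot.2 (hC.eq_one_of_cent hx ?_))
    exact centralizer_anti hC.le_Lay (hNY hx).2

theorem Y0_two : IsPGroup 2 (Y2 ⊤ ⊓ 𝐂(Lay Γ) : Subgroup Γ) := by
  set Y0 : Subgroup Γ := Y2 ⊤ ⊓ 𝐂(Lay Γ) with hY0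
  have h1 : Op' 2 Y0 = ⊥ := le_bot_iff.1 (hO ▸ piCoreOf_le_of_normal _ le_top fun g _ => norm_Y0 g)
  refine isPGroup_iff_forall_isPElt.2 fun x hx => pRegPart_eq_one_iff.1 ?_
  have h2 := pRegPart_mem 2 hx
  have h3 : zpowers (pRegPart 2 x) ≤ Op' 2 Y0 := le_Op' (zpowers_le.2 h2)
    (le_normalizer_of_le_centralizer ((Y0_comm hO hT hab).trans (centralizer_anti (zpowers_le.2 h2))))
    (by rw [Nat.card_zpowers]; exact not_dvd_orderOf_pRegPart 2 x)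
  exact mem_bot.1 (h1 ▸ h3 (mem_zpowers _))

theorem Y0_le : (Y2 ⊤ ⊓ 𝐂(Lay Γ) : Subgroup Γ) ≤ T :=
  hT.le_of_normalizes (Y0_two hO hT hab) le_top fun g _ => norm_Y0 g

theorem Y2_le_cent_Y0 : Y2 ⊤ ≤ 𝐂((Y2 ⊤ ⊓ 𝐂(Lay Γ) : Subgroup Γ)) :=
  Y2_le_iff.2 fun g _ hg => mem_cent_of_two hT hab (Y0_two hO hT hab) hg (norm_Y0 g)

theorem le_of_cmp {M : Subgroup Γ} (hM : ∀ K, Cmp K → T ⊓ K ≤ M)
    (h0 : (Y2 ⊤ ⊓ 𝐂(Lay Γ) : Subgroup Γ) ≤ M) : T ≤ M := fun t ht => by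
  obtain ⟨u, hu, h1⟩ := exists_cent_cmp hT hab hM ht
  exact (Subgroup.mul_mem_cancel_right _ (M.inv_mem (h0 ⟨le_Y2 hT.isPGroup le_top hu.1, hu.2⟩))).1 h1

/-- (f) -/
theorem mem_cent_of_cmp {f : Γ} (hf : f ∈ Y2 (⊤ : Subgroup Γ)) (h : ∀ K, Cmp K → f ∈ 𝐂(T ⊓ K)) :
    f ∈ 𝐂(T) :=
  le_cent1_iff.1 (le_of_cmp hO hT hab (fun K hK => le_cent1_iff.2 (h K hK))
    (le_cent1_iff.2 (Y2_le_cent_Y0 hO hT hab hf)))

theorem le_lay_sup : T ≤ Lay Γ ⊔ (Y2 ⊤ ⊓ 𝐂(Lay Γ)) :=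
  le_of_cmp hO hT hab (fun _ hK => inf_le_right.trans (hK.le_Lay.trans le_sup_left)) le_sup_right

omit hO hT hab in
theorem norm_lay_sup : (⊤ : Subgroup Γ) ≤ 𝐍((Lay Γ ⊔ (Y2 ⊤ ⊓ 𝐂(Lay Γ)) : Subgroup Γ)) :=
  le_normalizer_sup (fun g _ => norm_Lay g) fun g _ => norm_Y0 g

/-- (e) -/
theorem eq_top_of_cmp {M : Subgroup Γ} (h : ∀ K, Cmp K → K ≤ M) (hN : 𝐍(T) ≤ M) : M = ⊤ := by
  have := (hT.of_le (le_lay_sup hO hT hab) le_top).frattini_sup le_top norm_lay_sup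
  rw [eq_top_iff, ← this]
  exact sup_le (sup_le (Lay_le h) ((Y0_le hO hT hab).trans (le_normalizer.trans hN)))
    (inf_le_left.trans hN)

/-- (c) -/
theorem eq_bot_of_cmp {D : Subgroup Γ} (hD : ¬ 2 ∣ Nat.card D) (hn : T ≤ 𝐍(D))
    (h : ∀ K, Cmp K → D ≤ 𝐂(K)) : D = ⊥ := by
  set M0 : Subgroup Γ := Lay Γ ⊔ (Y2 ⊤ ⊓ 𝐂(Lay Γ)) with hM0
  have h1 : D ≤ 𝐂(M0) := by
    refine le_cent_comm.1 (sup_le (Lay_le fun K hK => le_cent_comm.1 (h K hK)) ?_)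
    refine commute_of_normal_of_disjoint' (fun g _ => norm_Y0 g) ((Y0_le hO hT hab).trans hn) ?_
    exact disjoint_iff.2 (eq_bot_of_isPGroup_of_not_dvd (Y0_two hO hT hab).to_inf_left
      fun h2 => hD (h2.trans (card_dvd_of_le inf_le_right)))
  have h2 : (⊤ : Subgroup Γ) ≤ 𝐍(𝐂(M0)) := le_normalizer_centralizer norm_lay_sup
  have h3 := hT.inf_of_le_normalizer le_top h2
  obtain ⟨K, hK1, hK2, hK3, k, hk⟩ := hasNormalPComplement_subgroup_iff.1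
    (h3.hasNormalPComplement_of_le_centralizer (inf_le_left.trans
      (centralizer_anti (inf_le_left.trans (le_lay_sup hO hT hab)))))
  have h4 : D ≤ K := le_of_coprime_card_relIndex h1 hK2 (by
    rw [hk]
    exact Nat.Coprime.pow_right _ ((Nat.Prime.coprime_iff_not_dvd Nat.prime_two).2 hD).symm)
  exact le_bot_iff.1 (hO ▸ h4.trans ((le_Op' hK1 hK2 hK3).trans (piCoreOf_le_of_normal _ le_top h2)))

end Str

end GAG
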