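import Cfsg.Agent.Lib.Gag.Defs
import Cfsg.Agent.Lib.Block.DihedralB
import Cfsg.Agent.Lib.Block.Klein

/-!
# Order bounds for groups with a Klein four Sylow subgroup and one class of involutions
-/

set_option autoImplicit false
set_option linter.unusedSectionVars false

namespace GAG
open Cfsg CT GT BT FT Subgroup
open scoped Pointwise commutatorElement ComplexConjugate

theorem sig_arith {x y z a b c : ℤ} (hx : 0 < x) (hy : 0 < y) (hz : 0 < z) (ox : Odd x)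
    (oy : Odd y) (oz : Odd z) (ha : a = 1 ∨ a = -1) (hb : b = 1 ∨ b = -1) (hc : c = 1 ∨ c = -1)
    (h : 1 + a * x + b * y + c * z = 0) :
    3 * (x * y * z + a * (y * z) + b * (x * z) + c * (x * y)) ≤ 8 * (x * y * z) ∧
      (x ≠ 1 → y ≠ 1 → z ≠ 1 →
        3 * (x * y * z + a * (y * z) + b * (x * z) + c * (x * y)) < 8 * (x * y * z) ∧
        8 * (x * y * z) ≤ 15 * (x * y * z + a * (y * z) + b * (x * z) + c * (x * y))) := by
  refine ⟨?_, fun h1 h2 h3 => ?_⟩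
  · obtain ⟨u, rfl⟩ : ∃ u : ℕ, x = u + 1 := ⟨(x - 1).toNat, by omega⟩
    obtain ⟨v, rfl⟩ : ∃ u : ℕ, y = u + 1 := ⟨(y - 1).toNat, by omega⟩
    obtain ⟨w, rfl⟩ : ∃ u : ℕ, z = u + 1 := ⟨(z - 1).toNat, by omega⟩
    have hu : (0 : ℤ) ≤ u := by positivity
    have hv : (0 : ℤ) ≤ v := by positivity
    have hw : (0 : ℤ) ≤ w := by positivity
    have := mul_nonneg hu hv
    have := mul_nonneg hu hw
    have := mul_nonneg hv hw
    have := mul_nonneg (mul_nonneg hu hv) hw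
    rcases ha with rfl | rfl <;> rcases hb with rfl | rfl <;> rcases hc with rfl | rfl <;>
      nlinarith
  · obtain ⟨u, rfl⟩ : ∃ u : ℕ, x = u + 3 := ⟨(x - 3).toNat, by obtain ⟨k, hk⟩ := ox; omega⟩
    obtain ⟨v, rfl⟩ : ∃ u : ℕ, y = u + 3 := ⟨(y - 3).toNat, by obtain ⟨k, hk⟩ := oy; omega⟩
    obtain ⟨w, rfl⟩ : ∃ u : ℕ, z = u + 3 := ⟨(z - 3).toNat, by obtain ⟨k, hk⟩ := oz; omega⟩
    have hu : (0 : ℤ) ≤ u := by positivity
    have hv : (0 : ℤ) ≤ v := by positivity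
    have hw : (0 : ℤ) ≤ w := by positivity
    have := mul_nonneg hu hv
    have := mul_nonneg hu hw
    have := mul_nonneg hv hw
    have := mul_nonneg (mul_nonneg hu hv) hw
    rcases ha with rfl | rfl <;> rcases hb with rfl | rfl <;> rcases hc with rfl | rfl <;>
      constructor <;> nlinarith

variable {L : Type*} [Group L] [Finite L]

theorem not_isCyclic_of_four {V : Subgroup L} (h4 : Nat.card V = 4) (h2 : ∀ v ∈ V, v * v = 1) :
    ¬ IsCyclic V := fun h => by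
  obtain ⟨g, hg⟩ := h.exists_ofOrder_eq_natCard
  have h1 : g ^ 2 = 1 := Subtype.ext (by rw [sq]; exact h2 g g.2)
  have := Nat.le_of_dvd two_pos (orderOf_dvd_of_pow_eq_one h1)
  omega

theorem _root_.GT.DihSyl.exists_klein' {M : Ideal AlgInt} (hM : IsPModular 2 M) {P : Subgroup L}
    {τ J : L} (D : DihSyl P J τ J 0) : ∃ χ₁ χ₂ χ₃ : IrrCharacter L,
      principalBlock M L = {χ | χ.1 = (fun _ => 1) ∨ χ = χ₁ ∨ χ = χ₂ ∨ χ = χ₃} ∧
      (χ₁ ≠ irrOne L ∧ χ₂ ≠ irrOne L ∧ χ₃ ≠ irrOne L ∧ χ₁ ≠ χ₂ ∧ χ₁ ≠ χ₃ ∧ χ₂ ≠ χ₃) ∧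
      ∀ χ ∈ principalBlock M L, ∃ ε : ℤ, (ε = 1 ∨ ε = -1) ∧ χ.1 J = ε := by
  classical
  choose e he using fun χ : IrrCharacter L => exists_int_apply_of_sq (irr_isCharacter χ) D.J_sq
  have h3 := D.bker_eq hM D.J_mem D.J_ne_one D.J_mem
  rw [if_pos rfl, if_pos D.J_inv, D.card_S, bker_def] at h3
  have h1 : irrOne L ∈ bset (principalBlock M L) := mem_bset.2 (irrOne_mem_principalBlock hM)
  have h6 : ∑ χ ∈ bset (principalBlock M L), e χ * e χ = (4 : ℕ) := by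
    simp only [he, map_intCast] at h3
    refine Int.cast_injective (α := ℂ) ?_
    push_cast
    rw [h3]; norm_num
  have h7 : e (irrOne L) = 1 := by
    have := he (irrOne L)
    rw [irrOne_apply] at this
    exact_mod_cast this.symm
  obtain ⟨h4, h5⟩ := sign_of_sum_mul_self (s := bset (principalBlock M L)) (f := e) (q := 4)
    (fun χ hχ h => D.apply_J_ne_zero hM (mem_bset.1 hχ) (by rw [he, h, Int.cast_zero])) h6 (by
      by_contra h8
      obtain ⟨a, ha⟩ := Finset.card_eq_one.1 (show (bset (principalBlock M L)).card = 1 by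
        have := Finset.card_pos.2 ⟨_, h1⟩
        omega)
      rw [ha] at h1 h6
      rw [Finset.sum_singleton, ← Finset.mem_singleton.1 h1, h7] at h6
      norm_num at h6)
  obtain ⟨χ₁, χ₂, χ₃, n12, n13, n23, h8⟩ := Finset.card_eq_three.1
    (show ((bset (principalBlock M L)).erase (irrOne L)).card = 3 by
      rw [Finset.card_erase_of_mem h1, h4])
  have h9 : ∀ χ, (χ ≠ irrOne L ∧ χ ∈ principalBlock M L) ↔ χ = χ₁ ∨ χ = χ₂ ∨ χ = χ₃ := fun χ => by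
    rw [← mem_bset, ← Finset.mem_erase, h8]; simp
  refine ⟨χ₁, χ₂, χ₃, Set.ext fun χ => ⟨fun h => ?_, ?_⟩, ⟨((h9 _).2 (by simp)).1,
    ((h9 _).2 (by simp)).1, ((h9 _).2 (by simp)).1, n12, n13, n23⟩,
    fun χ hχ => ⟨e χ, h5 χ (mem_bset.2 hχ), he χ⟩⟩
  · by_cases h10 : χ = irrOne L
    · exact Or.inl (h10 ▸ rfl)
    · exact Or.inr ((h9 χ).1 ⟨h10, h⟩)
  · rintro (h | h)
    exacts [(Subtype.ext h : χ = irrOne L) ▸ irrOne_mem_principalBlock hM, ((h9 χ).2 h).2]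

theorem sigma_le' {V : Subgroup L} (hV : IsSylowIn 2 V ⊤) (h4 : Nat.card V = 4) {t : L} (ht : t ∈ V)
    (ht1 : t ≠ 1) (ht2 : t * t = 1) (hc : ∀ v ∈ V, v ≠ 1 → IsConj t v) :
    3 * Nat.card 𝐂[t] ^ 3 ≤ Nat.card L * Nat.card 𝐂(V) ^ 2 ∧
      (commutator L ⊔ pPrimeCore 2 L = ⊤ → 3 * Nat.card 𝐂[t] ^ 3 < Nat.card L * Nat.card 𝐂(V) ^ 2 ∧
        Nat.card L * Nat.card 𝐂(V) ^ 2 ≤ 15 * Nat.card 𝐂[t] ^ 3) := by
  have h2 : ∀ v ∈ V, v * v = 1 := fun v hv => by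
    by_cases h1 : v = 1
    · rw [h1, one_mul]
    · obtain ⟨g, rfl⟩ := isConj_iff.1 (hc v hv h1)
      rw [show g * t * g⁻¹ * (g * t * g⁻¹) = g * (t * t) * g⁻¹ by group, ht2]; group
  obtain ⟨τ, D⟩ := exists_dihSyl_of_card_eq_four hV h4 (not_isCyclic_of_four h4 h2) ht
    (orderOf_eq_prime (by rwa [sq]) ht1)
  have hτ := hc τ D.τ_mem fun h => D.not_mem (h ▸ one_mem _)
  have hσ := hc (t * τ) (mul_mem ht D.τ_mem) fun h =>
    D.mul_τ_not_mem (mem_zpowers t) (h ▸ one_mem _)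
  obtain ⟨M, hM⟩ := exists_isPModular Nat.prime_two
  obtain ⟨χ₁, χ₂, χ₃, hB, hd, hv⟩ := D.exists_klein' hM
  obtain ⟨a, sa, va⟩ := hv χ₁ (by simp [hB])
  obtain ⟨b, sb, vb⟩ := hv χ₂ (by simp [hB])
  obtain ⟨c, sc, vc⟩ := hv χ₃ (by simp [hB])
  have hd' : χ₁.1 ≠ (fun _ => 1) ∧ χ₂.1 ≠ (fun _ => 1) ∧ χ₃.1 ≠ (fun _ => 1) ∧ χ₁ ≠ χ₂ ∧
      χ₁ ≠ χ₃ ∧ χ₂ ≠ χ₃ := ⟨fun h => hd.1 (Subtype.ext h), fun h => hd.2.1 (Subtype.ext h),
    fun h => hd.2.2.1 (Subtype.ext h), hd.2.2.2⟩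
  have h5 := D.klein_degree hM hB hd' ⟨va, vb, vc⟩
  have h6 := D.klein_order hM hB hd' ⟨va, vb, vc⟩ hτ hσ
  have ho : ∀ (χ : IrrCharacter L) (e : ℤ), (e = 1 ∨ e = -1) → χ.1 t = e →
      Odd (charDegree χ.1 : ℤ) := fun χ e he h => by
    have h1 := (irr_isCharacter χ).isGen.int_modEq_of_commute Nat.prime_two (Commute.one_right t)
      (k := 1) (by rw [pow_one, sq, ht2]) (a := e) (b := charDegree χ.1)
      (by rw [mul_one, h]) (by rw [irr_apply_one, Int.cast_natCast])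
    refine Int.odd_iff.2 ((show (charDegree χ.1 : ℤ) % 2 = e % 2 from h1.symm).trans ?_)
    rcases he with rfl | rfl <;> rfl
  have hp : ∀ χ : IrrCharacter L, (0 : ℤ) < charDegree χ.1 := fun χ =>
    Int.natCast_pos.2 (irr_degree_pos χ)
  have h7 := sig_arith (hp χ₁) (hp χ₂) (hp χ₃) (ho _ _ sa va) (ho _ _ sb vb) (ho _ _ sc vc)
    sa sb sc h5
  have hF : ((Nat.card L * Nat.card 𝐂(V) ^ 2 : ℕ) : ℤ) *
      (charDegree χ₁.1 * charDegree χ₂.1 * charDegree χ₃.1 +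
        a * (charDegree χ₂.1 * charDegree χ₃.1) + b * (charDegree χ₁.1 * charDegree χ₃.1) +
        c * (charDegree χ₁.1 * charDegree χ₂.1)) =
      ((Nat.card 𝐂[t] ^ 3 : ℕ) : ℤ) * (8 * (charDegree χ₁.1 * charDegree χ₂.1 * charDegree χ₃.1)) := by
    have hx : (charDegree χ₁.1 : ℚ) ≠ 0 := Nat.cast_ne_zero.2 (irr_degree_pos _).ne'
    have hy : (charDegree χ₂.1 : ℚ) ≠ 0 := Nat.cast_ne_zero.2 (irr_degree_pos _).ne'
    have hz : (charDegree χ₃.1 : ℚ) ≠ 0 := Nat.cast_ne_zero.2 (irr_degree_pos _).ne'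
    have hc' : (Nat.card 𝐂(V) : ℚ) ≠ 0 := Nat.cast_ne_zero.2 Nat.card_pos.ne'
    field_simp at h6
    refine Int.cast_injective (α := ℚ) ?_
    push_cast
    rcases sa with rfl | rfl <;> rcases sb with rfl | rfl <;> rcases sc with rfl | rfl <;>
      push_cast at h6 ⊢ <;> linear_combination h6
  have hpos : (0 : ℤ) < charDegree χ₁.1 * charDegree χ₂.1 * charDegree χ₃.1 :=
    mul_pos (mul_pos (hp _) (hp _)) (hp _)
  have hN : (0 : ℤ) < ((Nat.card L * Nat.card 𝐂(V) ^ 2 : ℕ) : ℤ) :=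
    Int.natCast_pos.2 (mul_pos Nat.card_pos (pow_pos Nat.card_pos 2))
  generalize Nat.card L * Nat.card 𝐂(V) ^ 2 = N at hF hN ⊢
  generalize Nat.card 𝐂[t] ^ 3 = C at hF ⊢
  refine ⟨?_, fun hL => ?_⟩
  · have := mul_le_mul_of_nonneg_left h7.1 hN.le
    have h8 : (3 * C : ℤ) ≤ N := by nlinarith
    exact_mod_cast h8
  · have hn : ∀ χ ∈ principalBlock M L, χ ≠ irrOne L → (charDegree χ.1 : ℤ) ≠ 1 :=
      fun χ hχ h h1 => by
        have h1' : charDegree χ.1 = 1 := by exact_mod_cast h1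
        have h3 := sup_le ((irr_degree_eq_one_iff_commutator_le_ker χ).1 h1')
          (pPrimeCore_le_ker_of_mem_principal hM hχ)
        exact h ((irr_ker_eq_top_iff χ).1 (top_le_iff.1 (hL ▸ h3)))
    obtain ⟨h8, h9⟩ := h7.2 (hn _ (by simp [hB]) hd.1) (hn _ (by simp [hB]) hd.2.1)
      (hn _ (by simp [hB]) hd.2.2.1)
    have h10 := mul_lt_mul_of_pos_left h8 hN
    have h11 := mul_le_mul_of_nonneg_left h9 hN.le
    have h12 : (3 * C : ℤ) < N := by nlinarith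
    have h13 : (N : ℤ) ≤ 15 * C := by nlinarith
    exact ⟨by exact_mod_cast h12, by exact_mod_cast h13⟩

theorem sigma_le {V : Subgroup L} (hV : IsSylowIn 2 V ⊤) (h4 : Nat.card V = 4) {t : L} (ht : t ∈ V)
    (ht1 : t ≠ 1) (ht2 : t * t = 1) (hc : ∀ v ∈ V, v ≠ 1 → IsConj t v) :
    3 * Nat.card 𝐂[t] ^ 3 ≤ Nat.card L * Nat.card 𝐂(V) ^ 2 ∧
      (commutator L = ⊤ → 3 * Nat.card 𝐂[t] ^ 3 < Nat.card L * Nat.card 𝐂(V) ^ 2 ∧
        Nat.card L * Nat.card 𝐂(V) ^ 2 ≤ 15 * Nat.card 𝐂[t] ^ 3) :=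
  ⟨(sigma_le' hV h4 ht ht1 ht2 hc).1, fun h => (sigma_le' hV h4 ht ht1 ht2 hc).2 (by
    rw [h, top_sup_eq])⟩

theorem sigma_le_in {X V : Subgroup L} (hV : IsSylowIn 2 V X) (h4 : Nat.card V = 4) {t : L}
    (ht : t ∈ V) (ht1 : t ≠ 1) (ht2 : t * t = 1)
    (hc : ∀ v ∈ V, v ≠ 1 → ∃ g ∈ X, g * t * g⁻¹ = v) :
    3 * Nat.card ↥(𝐂[t] ⊓ X) ^ 3 ≤ Nat.card X * Nat.card ↥(𝐂(V) ⊓ X) ^ 2 ∧
      (commutator X = ⊤ →
        Nat.card X * Nat.card ↥(𝐂(V) ⊓ X) ^ 2 ≤ 15 * Nat.card ↥(𝐂[t] ⊓ X) ^ 3) := by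
  have := sigma_le (L := X) (V := V.subgroupOf X) (t := ⟨t, hV.le ht⟩)
    ((isSylowIn_subgroupOf_top_iff hV.le).2 hV) ((card_subgroupOf_of_le hV.le).trans h4) ht
    (fun h => ht1 (congrArg Subtype.val h)) (Subtype.ext ht2) fun v hv h1 => by
      obtain ⟨g, hg, e⟩ := hc v hv fun h => h1 (Subtype.ext h)
      exact isConj_iff.2 ⟨⟨g, hg⟩, Subtype.ext e⟩
  rw [← sgOf_cent hV.le, ← sgOf_cent1, ← inf_subgroupOf_right, ← inf_subgroupOf_right 𝐂(V),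
    card_subgroupOf_of_le inf_le_right, card_subgroupOf_of_le inf_le_right] at this
  exact ⟨this.1, fun h => (this.2 h).2⟩

theorem not_hasNormalPComplement_of_simple {K : Type*} [Group K] [Finite K] [IsSimpleGroup K]
    (hns : ¬ Group.IsSolvable K) {p : ℕ} [Fact p.Prime] (hd : p ∣ Nat.card K) :
    ¬ HasNormalPComplement p K := fun h => by
  have h1 := index_pPrimeCore_of_hasNormalPComplement h
  rcases (inferInstance : (pPrimeCore p K).Normal).eq_bot_or_eq_top with h2 | h2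
  · rw [h2, index_bot] at h1
    haveI := (IsPGroup.of_card h1).isNilpotent
    exact hns inferInstance
  · exact not_dvd_card_pPrimeCore p K (by rwa [h2, card_top])

theorem commutator_eq_top_of_simple {K : Type*} [Group K] [IsSimpleGroup K]
    (hns : ¬ Group.IsSolvable K) : commutator K = ⊤ :=
  (inferInstance : (commutator K).Normal).eq_bot_or_eq_top.resolve_left fun h =>
    hns ⟨1, by rw [derivedSeries_one, h]⟩

/-- a Sylow subgroup of order four without normal complement is a fused four-group -/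
theorem klein_of_four {X V : Subgroup L} (hV : IsSylowIn 2 V X) (h4 : Nat.card V = 4)
    (hn : ¬ HasNormalPComplement 2 X) :
    (∀ v ∈ V, v * v = 1) ∧ ∀ t ∈ V, t ≠ 1 → ∀ v ∈ V, v ≠ 1 → ∃ g ∈ X ⊓ 𝐍(V), g * t * g⁻¹ = v := by
  have hc : Nat.card (V.subgroupOf X) = 4 := (card_subgroupOf_of_le hV.le).trans h4
  have hnc : ¬ IsCyclic (V.subgroupOf X) := fun h =>
    hn (@hasNormalPComplement_two_of_isCyclic _ _ _ hV.toSylow h)
  have h2 : ∀ v ∈ V, v * v = 1 := fun v hv => by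
    haveI : Fact (Nat.Prime 2) := Nat.fact_prime_two
    have h5 : orderOf (⟨⟨v, hV.le hv⟩, hv⟩ : V.subgroupOf X) ∣ 2 ^ 2 := by
      rw [show 2 ^ 2 = 4 from rfl, ← hc]; exact orderOf_dvd_natCard _
    obtain ⟨k, hk, e⟩ := (Nat.dvd_prime_pow Nat.prime_two).1 h5
    have h6 : k ≠ 2 := by
      rintro rfl
      exact hnc (isCyclic_of_orderOf_eq_card _ (e.trans hc.symm))
    have h7 : orderOf (⟨⟨v, hV.le hv⟩, hv⟩ : V.subgroupOf X) ∣ 2 := by
      rw [e]; interval_cases k <;> simp at h6 ⊢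
    have := orderOf_dvd_iff_pow_eq_one.1 h7
    rw [sq] at this
    exact congrArg (fun x : V.subgroupOf X => ((x : X) : L)) this
  have hab : ∀ a ∈ V, ∀ b ∈ V, a * b = b * a := fun a ha b hb => by
    have h1 : ∀ c ∈ V, c⁻¹ = c := fun c hc => inv_eq_of_mul_eq_one_left (h2 c hc)
    rw [← h1 _ (mul_mem ha hb), mul_inv_rev, h1 a ha, h1 b hb]
  refine ⟨h2, fun t ht ht1 v hv hv1 => ?_⟩
  obtain ⟨τ, D⟩ := exists_dihSyl_of_card_eq_four (J := (⟨t, hV.le ht⟩ : X))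
    ((isSylowIn_subgroupOf_top_iff hV.le).2 hV) hc hnc ht
    (orderOf_eq_prime (Subtype.ext (by rw [sq]; exact h2 t ht))
      fun h => ht1 (congrArg Subtype.val h))
  have h3 := D.isConj_of_zero hn
  have h5 : IsConj (⟨t, hV.le ht⟩ : X) ⟨v, hV.le hv⟩ := by
    rcases D.cases_of_zero (x := ⟨v, hV.le hv⟩) hv (fun h => hv1 (congrArg Subtype.val h))
      with h | h | h <;> rw [h]
    exacts [h3.1, h3.2]
  obtain ⟨g, hg⟩ := isConj_iff.1 h5
  have e : (g : L) * t * (g : L)⁻¹ = v := congrArg Subtype.val hg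
  have h6 : ∀ a ∈ V, IsSylowIn 2 V (X ⊓ 𝐂[a]) := fun a ha =>
    hV.of_le (le_inf hV.le fun b hb => mem_cent1.2 (hab b hb a ha)) inf_le_left
  obtain ⟨n, hn, e'⟩ := exists_mem_normalizer_conj_eq g.2 (h6 t ht) (by rw [e]; exact h6 v hv)
  exact ⟨n, hn, e'.trans e⟩

theorem a5type {K V M : Subgroup L} [IsSimpleGroup K] (hns : ¬ Group.IsSolvable K)
    (hV : IsSylowIn 2 V K) (h4 : Nat.card V = 4) {v : L} (hv : v ∈ V) (hv1 : v ≠ 1)
    (hC : K ⊓ 𝐂[v] ≤ M) (hN : K ⊓ 𝐍(V) ≤ M) (hK : ¬ K ≤ M) {d : L} (hd : Odd (orderOf d))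
    (hdK : d ∈ 𝐍(K)) (hdM : d ∈ M) (hdv : d * v = v * d) : d ∈ 𝐂(K) := by
  have h2K : 2 ∣ Nat.card K := (show 2 ∣ 4 by norm_num).trans (h4 ▸ card_dvd_of_le hV.le)
  obtain ⟨h2, hc⟩ := klein_of_four hV h4 (not_hasNormalPComplement_of_simple hns h2K)
  have hVM : V ≤ K ⊓ M := le_inf hV.le ((le_inf hV.le le_normalizer).trans hN)
  have hV' : IsSylowIn 2 V (K ⊓ M) := hV.of_le hVM inf_le_left
  have h5 := (sigma_le_in hV h4 hv hv1 (h2 v hv) fun w hw h1 =>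
    let ⟨g, hg, e⟩ := hc v hv hv1 w hw h1; ⟨g, hg.1, e⟩).2 (commutator_eq_top_of_simple hns)
  have h6 := (sigma_le_in hV' h4 hv hv1 (h2 v hv) fun w hw h1 =>
    let ⟨g, hg, e⟩ := hc v hv hv1 w hw h1; ⟨g, ⟨hg.1, hN hg⟩, e⟩).1
  have e1 : 𝐂[v] ⊓ (K ⊓ M) = 𝐂[v] ⊓ K := le_antisymm (inf_le_inf_left _ inf_le_left)
    fun x hx => ⟨hx.1, hx.2, hC ⟨hx.2, hx.1⟩⟩
  have e2 : 𝐂(V) ⊓ (K ⊓ M) = 𝐂(V) ⊓ K := le_antisymm (inf_le_inf_left _ inf_le_left)
    fun x hx => ⟨hx.1, hx.2, hN ⟨hx.2, centralizer_le_normalizer _ hx.1⟩⟩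
  rw [e1, e2] at h6
  have h7 : M.relIndex K ≤ 5 := by
    have h8 := card_mul_relIndex (inf_le_left : K ⊓ M ≤ K)
    rw [inf_comm K M, inf_relIndex_right, inf_comm M K] at h8
    have h9 : 0 < Nat.card ↥(K ⊓ M) * Nat.card ↥(𝐂(V) ⊓ K) ^ 2 :=
      mul_pos Nat.card_pos (pow_pos Nat.card_pos 2)
    rw [← h8] at h5
    refine Nat.le_of_mul_le_mul_left ?_ h9
    nlinarith
  set b : L ⧸ M := ((1 : L) : L ⧸ M) with hb
  have hsb : ∀ g : L, g • b = b ↔ g ∈ M := fun g => by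
    rw [← MulAction.mem_stabilizer_iff, hb, MulAction.stabilizer_quotient]
  have hΩ : (MulAction.orbit K b).ncard ≤ 5 := by
    rw [← MulAction.index_stabilizer,
      show MulAction.stabilizer K b = M.subgroupOf K from Subgroup.ext fun x => hsb x]
    exact h7
  have hmem : ∀ g ∈ 𝐍(K), g ∈ M → ∀ ω ∈ MulAction.orbit K b, g • ω ∈ MulAction.orbit K b := by
    rintro g hg hgM _ ⟨k, rfl⟩
    refine ⟨⟨g * k * g⁻¹, (mem_normalizer_iff.1 hg k).1 k.2⟩, ?_⟩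
    change (g * k * g⁻¹) • b = g • (k : L) • b
    rw [mul_smul, mul_smul, (hsb _).2 (inv_mem hgM)]
  have hfix : ∀ ω ∈ MulAction.orbit K b, v • ω = ω → ω = b := by
    rintro _ ⟨k, rfl⟩ h
    change v • (k : L) • b = (k : L) • b at h
    change (k : L) • b = b
    have h8 : (k : L)⁻¹ * v * (k : L)⁻¹⁻¹ ∈ K ⊓ M := ⟨K.mul_mem (K.mul_mem (K.inv_mem k.2)
      (hV.le hv)) (K.inv_mem (K.inv_mem k.2)), (hsb _).1 (by
        rw [inv_inv, mul_smul, mul_smul, h, inv_smul_smul])⟩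
    obtain ⟨g, hg, h9⟩ := hV'.exists_conj_mem ((isPElt_of_mem hV.isPGroup hv).conj _) h8
    obtain ⟨n, hn, h10⟩ := hc _ h9 (fun h => hv1 (by
      rw [← mul_assoc, ← mul_assoc, mul_assoc, ← mul_inv_rev] at h
      exact conj_eq_one_iff.1 h)) v hv hv1
    have h11 : n * g * (k : L)⁻¹ ∈ M := hC ⟨K.mul_mem (K.mul_mem hn.1 hg.1) (K.inv_mem k.2),
      mem_cent1.2 (mul_inv_eq_iff_eq_mul.1 (by rw [← h10]; nth_rewrite 2 [← h10]; group))⟩
    rw [hsb]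
    have := M.inv_mem (M.mul_mem (M.inv_mem (M.mul_mem (hN hn) hg.2)) h11)
    rwa [inv_mul_cancel_left, inv_inv] at this
  have hd1 : ∀ ω ∈ MulAction.orbit K b, d • ω = ω := fun ω hω => by
    by_cases h0 : ω = b
    · rw [h0, hsb]; exact hdM
    have hT : MulAction.orbit (zpowers d) ω ⊆ MulAction.orbit K b := by
      rintro _ ⟨g, rfl⟩
      exact hmem g (zpowers_le.2 hdK g.2) (zpowers_le.2 hdM g.2) ω hω
    have hvT : v • MulAction.orbit (zpowers d) ω ⊆ MulAction.orbit K b := by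
      rintro _ ⟨x, hx, rfl⟩
      exact hmem v (le_normalizer (hV.le hv)) (hVM hv).2 x (hT hx)
    have hcv : ∀ g ∈ zpowers d, Commute v g := fun g hg => by
      obtain ⟨i, rfl⟩ := mem_zpowers_iff.1 hg
      exact (show Commute v d from hdv.symm).zpow_right i
    have hdis : Disjoint (MulAction.orbit (zpowers d) ω) (v • MulAction.orbit (zpowers d) ω) := by
      rw [Set.disjoint_left]
      rintro _ ⟨g, rfl⟩ ⟨_, ⟨g', rfl⟩, h⟩
      change v • (g' : L) • ω = (g : L) • ω at h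
      have h8 : v • ω = ((g'⁻¹ * g : zpowers d) : L) • ω := by
        rw [← mul_smul, (hcv _ g'.2).eq, mul_smul] at h
        rw [coe_mul, mul_smul, ← h, coe_inv, inv_smul_smul]
      generalize g'⁻¹ * g = x at h8
      have h9 : ((x : L) ^ 2) • ω = ω := by
        rw [sq, mul_smul, ← h8, ← mul_smul, ← (hcv _ x.2).eq, mul_smul, ← h8, ← mul_smul,
          h2 v hv, one_smul]
      have h10 : Odd (orderOf (x : L)) := hd.of_dvd_nat (orderOf_dvd_of_mem_zpowers x.2)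
      obtain ⟨j, hj⟩ := h10
      have h11 : (x : L) ∈ MulAction.stabilizer L ω := by
        have h12 : (x : L) = ((x : L) ^ 2) ^ (j + 1) := by
          rw [← pow_mul, show 2 * (j + 1) = orderOf (x : L) + 1 by omega, pow_succ,
            pow_orderOf_eq_one, one_mul]
        rw [h12]
        exact pow_mem h9 _
      exact h0 (hfix ω hω (h8.trans h11))
    have h8 := Set.ncard_le_ncard (Set.union_subset hT hvT)
    rw [Set.ncard_union_eq hdis, Set.ncard_smul_set] at h8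
    have h9 : Odd (MulAction.orbit (zpowers d) ω).ncard := by
      rw [← MulAction.index_stabilizer]
      exact hd.of_dvd_nat (by rw [← Nat.card_zpowers]; exact index_dvd_card _)
    obtain ⟨a, ha⟩ := Set.ncard_eq_one.1 (show (MulAction.orbit (zpowers d) ω).ncard = 1 by
      obtain ⟨j, hj⟩ := h9; omega)
    have h10 : ω ∈ ({a} : Set _) := ha ▸ MulAction.mem_orbit_self ω
    have h11 : d • ω ∈ ({a} : Set _) := ha ▸ ⟨⟨d, mem_zpowers d⟩, rfl⟩
    exact h11.trans h10.symm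
  have hcore : (M.subgroupOf K).normalCore = ⊥ :=
    (normalCore_normal _).eq_bot_or_eq_top.resolve_right fun h => hK fun x hx =>
      (normalCore_le (M.subgroupOf K) (h ▸ mem_top (⟨x, hx⟩ : K)))
  intro k hk
  have hx : d * k * d⁻¹ * k⁻¹ ∈ K := K.mul_mem ((mem_normalizer_iff.1 hdK k).1 hk) (K.inv_mem hk)
  have h8 : (⟨_, hx⟩ : K) ∈ (M.subgroupOf K).normalCore := fun g => by
    change (g : L) * (d * k * d⁻¹ * k⁻¹) * (g : L)⁻¹ ∈ M
    have h9 : ∀ x ∈ K, d • x • b = x • b := fun x hx => hd1 _ ⟨⟨x, hx⟩, rfl⟩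
    have h10 : ∀ x ∈ K, d⁻¹ • x • b = x • b := fun x hx => by
      rw [inv_smul_eq_iff, h9 x hx]
    rw [← hsb]
    calc ((g : L) * (d * k * d⁻¹ * k⁻¹) * (g : L)⁻¹) • b
        = (g : L) • d • k • d⁻¹ • (k⁻¹ * (g : L)⁻¹) • b := by simp only [mul_smul]
      _ = (g : L) • d • (k * (k⁻¹ * (g : L)⁻¹)) • b := by
        rw [h10 _ (K.mul_mem (K.inv_mem hk) (K.inv_mem g.2)), ← mul_smul k]
      _ = b := by
        rw [h9 _ (K.mul_mem hk (K.mul_mem (K.inv_mem hk) (K.inv_mem g.2))), mul_inv_cancel_left,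
          smul_inv_smul]
  rw [hcore, mem_bot] at h8
  have h9 : d * k * d⁻¹ * k⁻¹ = 1 := congrArg Subtype.val h8
  rw [mul_inv_eq_one, mul_inv_eq_iff_eq_mul] at h9
  exact h9.symm

end GAG
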