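import Cfsg.Agent.Lib.Gag.K

/-!
# General lemmas for the dihedral case
-/

set_option autoImplicit false
set_option linter.unusedSectionVars false
set_option linter.style.haveILetI false

namespace GAG.E8
open Cfsg CT GT FT Subgroup
open scoped Pointwise commutatorElement ComplexConjugate

section Num

theorem exists_sq_or {n q : ℕ} (hn : n ≠ 0)
    (h : ∀ p, p.Prime → p ≠ q → Even (n.factorization p)) : ∃ s, n = s ^ 2 ∨ n = q * s ^ 2 := by
  obtain ⟨a, b, hab, ha⟩ := Nat.sq_mul_squarefree n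
  have hb0 : b ≠ 0 := fun e => hn (by rw [← hab, e]; simp)
  have key : ∀ p, p.Prime → p ∣ a → p = q := fun p hp hd => by
    by_contra hne
    have h1 := h p hp hne
    rw [← hab, Nat.factorization_mul (pow_ne_zero 2 hb0) ha.ne_zero, Nat.factorization_pow,
      Finsupp.add_apply, Finsupp.smul_apply, smul_eq_mul,
      Nat.factorization_eq_one_of_squarefree ha hp hd] at h1
    obtain ⟨r, hr⟩ := h1
    omega
  refine ⟨b, ?_⟩
  by_cases h1 : a = 1
  · exact Or.inl (by rw [← hab, h1, mul_one])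
  · obtain ⟨p, hp, hd⟩ := Nat.exists_prime_and_dvd h1
    obtain rfl := key p hp hd
    obtain ⟨c, rfl⟩ := hd
    have h2 : c = 1 := by
      by_contra h2
      obtain ⟨r, hr, hd⟩ := Nat.exists_prime_and_dvd h2
      obtain rfl := key r hr (hd.mul_left _)
      exact hp.not_isUnit (ha r (mul_dvd_mul_left r hd))
    exact Or.inr (by rw [← hab, h2, mul_one, mul_comm])

theorem sum_eight {ι : Type*} [Fintype ι] (d : ι → ℕ) (h0 : ∀ i, 0 < d i) (h : ∑ i, d i ^ 2 = 8) :
    Fintype.card ι = 2 ∨ Fintype.card ι = 5 ∨ (Fintype.card ι = 8 ∧ ∀ i, d i = 1) := by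
  classical
  have h1 : ∀ i, d i ^ 2 = 1 + 3 * (d i - 1) := fun i => by
    have h2 : d i ^ 2 ≤ 8 := h ▸ Finset.single_le_sum (f := fun i => d i ^ 2)
      (fun _ _ => Nat.zero_le _) (Finset.mem_univ i)
    have h3 : d i < 3 := by nlinarith
    have := h0 i
    interval_cases (d i) <;> rfl
  simp_rw [h1] at h
  rw [Finset.sum_add_distrib, ← Finset.mul_sum, Finset.sum_const, smul_eq_mul, mul_one,
    Finset.card_univ] at h
  by_cases h2 : ∑ i, (d i - 1) = 0
  · refine Or.inr (Or.inr ⟨by omega, fun i => ?_⟩)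
    have := Finset.sum_eq_zero_iff.1 h2 i (Finset.mem_univ i)
    have := h0 i
    omega
  · omega

theorem sum_odd_sq {ι : Type*} (s : Finset ι) (d : ι → ℕ) (h : ∀ i, Odd (d i)) :
    (∑ i ∈ s, d i ^ 2) % 8 = s.card % 8 := by
  classical
  induction s using Finset.induction_on with
  | empty => rfl
  | insert a s ha ih =>
    rw [Finset.sum_insert ha, Finset.card_insert_of_notMem ha]
    obtain ⟨k, hk⟩ := h a
    obtain ⟨r, hr⟩ := Nat.even_mul_succ_self k
    have : d a ^ 2 = 8 * r + 1 := by rw [hk]; nlinarith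
    omega

/-- a sum of fourth roots of unity with odd total multiplicity has absolute value `≥ 1` -/
theorem one_le_of_roots {ι : Type*} (s : Finset ι) (n : ι → ℕ) (ω : ι → ℂ)
    (hω : ∀ i ∈ s, ω i ^ 4 = 1) (hn : Odd (∑ i ∈ s, n i)) :
    1 ≤ Complex.normSq (∑ i ∈ s, (n i : ℂ) * ω i) := by
  classical
  have key : ∃ a b : ℤ, ∑ i ∈ s, (n i : ℂ) * ω i = a + b * Complex.I ∧
      Even (a + b + ∑ i ∈ s, (n i : ℤ)) := by
    clear hn
    induction s using Finset.induction_on with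
    | empty => exact ⟨0, 0, by simp, by simp⟩
    | insert i s hi ih =>
      obtain ⟨a, b, e, c, hc⟩ := ih fun j hj => hω j (Finset.mem_insert_of_mem hj)
      rw [Finset.sum_insert hi, Finset.sum_insert hi, e]
      have h1 : (ω i - 1) * (ω i + 1) * ((ω i - Complex.I) * (ω i + Complex.I)) = 0 := by
        have := hω i (Finset.mem_insert_self i s)
        linear_combination this - (ω i ^ 2 - 1) * Complex.I_sq
      rcases mul_eq_zero.1 h1 with h2 | h2 <;> rcases mul_eq_zero.1 h2 with h3 | h3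
      · exact ⟨a + n i, b, by rw [sub_eq_zero.1 h3]; push_cast; ring, c + n i, by omega⟩
      · exact ⟨a - n i, b, by rw [eq_neg_of_add_eq_zero_left h3]; push_cast; ring, c, by omega⟩
      · exact ⟨a, b + n i, by rw [sub_eq_zero.1 h3]; push_cast; ring, c + n i, by omega⟩
      · exact ⟨a, b - n i, by rw [eq_neg_of_add_eq_zero_left h3]; push_cast; ring, c, by omega⟩
  obtain ⟨a, b, e, c, hc⟩ := key
  obtain ⟨k, hk⟩ := hn
  have h1 : (∑ i ∈ s, (n i : ℤ)) = 2 * k + 1 := by exact_mod_cast hk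
  have h2 : (1 : ℤ) ≤ a ^ 2 + b ^ 2 := by
    by_contra h3
    have ha : a = 0 := by nlinarith
    have hb : b = 0 := by nlinarith
    omega
  rw [e, show (a : ℂ) + b * Complex.I = ((a : ℝ) : ℂ) + ((b : ℝ) : ℂ) * Complex.I by simp,
    Complex.normSq_add_mul_I]
  exact_mod_cast h2

end Num

section Grp
variable {G : Type*} [Group G] [Finite G]

/-- Thompson's transfer lemma -/
theorem exists_conj_mem_of_index {R : Subgroup G} {m : ℕ} (hm : Odd m) (hR : R.index = 2 * m)
    {a : G} (ha : a * a = 1) (hc : a ∈ commutator G) : ∃ g, g * a * g⁻¹ ∈ R := by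
  classical
  by_contra h
  push Not at h
  haveI := Fintype.ofFinite (G ⧸ R)
  let φ := Equiv.Perm.sign.comp (MulAction.toPermHom G (G ⧸ R))
  have h1 : φ a = 1 := Abelianization.commutator_subset_ker φ hc
  have h2 : (MulAction.toPermHom G (G ⧸ R) a) ^ 2 = 1 := by rw [← map_pow, sq, ha, map_one]
  have h3 : Fintype.card (Function.fixedPoints (MulAction.toPermHom G (G ⧸ R) a)) = 0 := by
    rw [Fintype.card_eq_zero_iff]
    refine ⟨fun ⟨q, hq⟩ => ?_⟩
    induction q using QuotientGroup.induction_on with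
    | H g =>
      have h4 : ((a * g : G) : G ⧸ R) = g := hq
      have h5 := QuotientGroup.eq.1 h4.symm
      exact h g⁻¹ (by rwa [inv_inv, mul_assoc])
  have h4 := Equiv.Perm.sign_of_pow_two_eq_one h2
  rw [h3, ← Nat.card_eq_fintype_card, ← index, hR, Nat.sub_zero,
    Nat.mul_div_cancel_left _ two_pos, hm.neg_one_pow] at h4
  exact absurd (h1.symm.trans h4) (by decide)

theorem conj_eq_of_small {p : ℕ} [hp : Fact p.Prime] {g : G} (hg : IsPElt p g) {X : Set G}
    (hX : ∀ x ∈ X, g * x * g⁻¹ ∈ X) (hc : X.ncard < p) {x : G} (hx : x ∈ X) :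
    g * x * g⁻¹ = x := by
  classical
  have h1 : ∀ n : ℕ, g ^ n * x * (g ^ n)⁻¹ ∈ X := fun n => by
    induction n with
    | zero => simpa
    | succ n ih =>
      have := hX _ ih
      rwa [show g * (g ^ n * x * (g ^ n)⁻¹) * g⁻¹ = g ^ (n + 1) * x * (g ^ (n + 1))⁻¹ by
        rw [pow_succ']; group] at this
  have key : ∀ i j : ℕ, i < j → j < p → g ^ i * x * (g ^ i)⁻¹ = g ^ j * x * (g ^ j)⁻¹ →
      g * x * g⁻¹ = x := fun i j hij hj e => by
    obtain ⟨k, rfl⟩ := Nat.exists_eq_add_of_lt hij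
    have h2 : g ^ (k + 1) ∈ 𝐂[x] := by
      rw [mem_centralizer_singleton_iff]
      calc g ^ (k + 1) * x = (g ^ i)⁻¹ * (g ^ (i + k + 1) * x * (g ^ (i + k + 1))⁻¹) *
            g ^ (i + k + 1) := by group
        _ = _ := by rw [← e]; group
    have h3 : g ∈ zpowers (g ^ (k + 1)) := mem_zpowers_pow_iff.2
      (hg.coprime_orderOf (Nat.coprime_of_lt_prime (by omega) (by omega) hp.out)).symm
    have h4 := mem_centralizer_singleton_iff.1 (zpowers_le.2 h2 h3)
    rw [h4, mul_inv_cancel_right]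
  obtain ⟨i, hi, j, hj, hne, e⟩ := Finset.exists_ne_map_eq_of_card_lt_of_maps_to
    (s := Finset.range p) (t := (Set.toFinite X).toFinset) (f := fun n => g ^ n * x * (g ^ n)⁻¹)
    (by rwa [Finset.card_range, ← Set.ncard_eq_toFinset_card]) fun n _ => by simpa using h1 n
  rcases lt_or_gt_of_ne hne with h | h
  · exact key i j h (Finset.mem_range.1 hj) e
  · exact key j i h (Finset.mem_range.1 hi) e.symm

theorem exists_reg {p : ℕ} [Fact p.Prime] {C : Subgroup G} (h : HasNormalPComplement p C) :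
    ∃ O : Subgroup G, ∀ y, y ∈ O ↔ y ∈ C ∧ IsPRegular p y :=
  ⟨{ carrier := {y | y ∈ C ∧ IsPRegular p y}
     one_mem' := ⟨C.one_mem, isPRegular_one⟩
     mul_mem' := fun {a b} ha hb => ⟨mul_mem ha.1 hb.1, (isPRegular_mk (mul_mem ha.1 hb.1)).1
       (hasNormalPComplement_iff_forall_mul.1 h ⟨a, ha.1⟩ ⟨b, hb.1⟩ ((isPRegular_mk _).2 ha.2)
         ((isPRegular_mk _).2 hb.2))⟩
     inv_mem' := fun ha => ⟨inv_mem ha.1, ha.2.inv⟩ }, fun _ => Iff.rfl⟩

theorem card_eq_of_reg {p : ℕ} [hp : Fact p.Prime] {D O R : Subgroup G}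
    (hO : ∀ y ∈ D, y ∈ O ↔ IsPRegular p y) (hR : IsSylowIn p R D) :
    Nat.card D = Nat.card R * Nat.card ↥(O ⊓ D) := by
  obtain ⟨k, hk⟩ := (exists_relIndex_eq_pow_iff_forall (p := p) (C := O ⊓ D) (N := D)
    fun g hg => mem_normalizer_of_conj_mem fun x hx => by
      have h1 : g * x * g⁻¹ ∈ D := mul_mem (mul_mem hg hx.2) (inv_mem hg)
      exact ⟨(hO _ h1).2 (((hO x hx.2).1 hx.1).conj g), h1⟩).2
    fun g hg h => ⟨(hO g hg).2 h, hg⟩
  have h1 : ¬ p ∣ Nat.card ↥(O ⊓ D) :=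
    not_dvd_card_iff_forall_isPRegular.2 fun g hg => (hO g hg.2).1 hg.1
  have h2 := card_mul_relIndex (inf_le_right : O ⊓ D ≤ D)
  rw [hR.card_eq, ← h2, hk, Nat.factorization_mul Nat.card_pos.ne' (pow_pos hp.out.pos k).ne',
    Finsupp.add_apply, Nat.factorization_eq_zero_of_not_dvd h1, zero_add,
    Nat.factorization_pow_self hp.out, mul_comm]

open Classical in
theorem sum_section [Fintype G] {p : ℕ} [Fact p.Prime] {v : G} (hv : IsPElt p v)
    [Fintype 𝐂[v]] {F : G → ℂ} (hF : IsClassFunction G F) :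
    (Nat.card 𝐂[v] : ℂ) * ∑ x, (if IsConj v (pPart p x) then F x else 0) =
      Nat.card G * ∑ y : 𝐂[v], if IsPRegular p y then F (v * y) else 0 := by
  rw [← sum_pPart_eq hv F]
  calc _ = ∑ x, ∑ g : G, (if g⁻¹ * v * g = pPart p x then F x else 0) := by
        rw [Finset.mul_sum]
        refine Finset.sum_congr rfl fun x _ => ?_
        rw [← Finset.sum_filter, Finset.sum_const, nsmul_eq_mul]
        have := card_filter_conj_eq v (pPart p x)
        rw [this]
        split_ifs <;> simp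
    _ = ∑ _g : G, ∑ x, (if pPart p x = v then F x else 0) := by
        rw [Finset.sum_comm]
        refine Finset.sum_congr rfl fun g _ => ?_
        refine Fintype.sum_equiv (MulAut.conj g).toEquiv _ _ fun x => ?_
        change _ = if pPart p (g * x * g⁻¹) = v then F (g * x * g⁻¹) else 0
        rw [pPart_conj, hF]
        congr 1
        exact propext ⟨fun e => by rw [← e]; group, fun e => by rw [← e]; group⟩
    _ = _ := by rw [Finset.sum_const, Finset.card_univ, ← Nat.card_eq_fintype_card, nsmul_eq_mul]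

theorem centralizer_part {p : ℕ} [Fact p.Prime] {v y : G} (hc : Commute v y) (hv : IsPElt p v)
    (hy : IsPRegular p y) : 𝐂[v * y] = 𝐂[v] ⊓ 𝐂[y] := by
  rw [centralizer_eq_inf_pPart p, pPart_mul_eq hc hv hy, pRegPart_mul_eq hc hv hy]

variable {Z U : Subgroup G}

theorem comm_of_commute {v y g : G} (hc : Commute v y) (hg : g ∈ 𝐂[v]) : ⁅v * y, g⁆ = ⁅y, g⁆ := by
  have h1 : Commute v g := (mem_centralizer_singleton_iff.1 hg).symm
  have h2 : Commute v (y * g * y⁻¹) := (hc.mul_right h1).mul_right hc.inv_right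
  calc ⁅v * y, g⁆ = v * (y * g * y⁻¹) * v⁻¹ * g⁻¹ := by simp only [commutatorElement_def]; group
    _ = _ := by rw [h2.eq, commutatorElement_def]; group

theorem mem_of_comm_mem (hZ : Z ≤ center G) {p : ℕ} [Fact p.Prime] (ho : ¬ p ∣ Nat.card Z)
    {v y g : G} (hc : Commute v y) (hv : IsPElt p v) (hy : IsPRegular p y) (h : ⁅v * y, g⁆ ∈ Z) :
    g ∈ 𝐂[v] := by
  have h1 : g * (v * y) * g⁻¹ = ⁅v * y, g⁆⁻¹ * (v * y) := by
    rw [commutatorElement_def]; group
  have h2 := congrArg (pPart p) h1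
  rw [pPart_conj, pPart_mul_of_isPRegular (isPRegular_of_mem ho (inv_mem h))
    (mem_center_iff.1 (hZ (inv_mem h)) _).symm, pPart_mul_eq hc hv hy] at h2
  rw [mem_centralizer_singleton_iff, ← mul_inv_eq_iff_eq_mul, h2]

theorem good_part_iff (hZ : Z ≤ center G) {p : ℕ} [Fact p.Prime] (ho : ¬ p ∣ Nat.card Z)
    {v y : G} (hc : Commute v y) (hv : IsPElt p v) (hy : IsPRegular p y) :
    Good Z ⊤ (v * y) ↔ Good Z 𝐂[v] y :=
  ⟨fun h g hg hz => by
    rw [← comm_of_commute hc hg] at hz ⊢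
    exact h g trivial hz, fun h g _ hz => by
    have hg := mem_of_comm_mem hZ ho hc hv hy hz
    rw [comm_of_commute hc hg] at hz ⊢
    exact h g hg hz⟩

/-- commutators with a `p`-regular element only see the `p`-regular part -/
theorem comm_eq_one_of_reg (hZ : Z ≤ center G) {p : ℕ} [Fact p.Prime] {y g : G}
    (hy : IsPRegular p y) (hg : IsPElt p g) (h : ⁅y, g⁆ ∈ Z) : ⁅y, g⁆ = 1 := by
  obtain ⟨k, hk⟩ := hg.exists_pow_eq_one
  refine (isPElt_of_pow_eq_one (p := p) (k := k) ?_).eq_one_of_isPRegular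
    (isPRegular_of_pow_eq_one (n := orderOf y) hy ?_)
  · rw [← comm_pow_right hZ h, hk, commutatorElement_one_right]
  · rw [← comm_pow_left hZ h, pow_orderOf_eq_one, commutatorElement_one_left]

theorem comm_eq_one_of_pElt (hZ : Z ≤ center G) {p : ℕ} [Fact p.Prime] {y g : G}
    (hy : IsPElt p y) (hg : IsPRegular p g) (h : ⁅y, g⁆ ∈ Z) : ⁅y, g⁆ = 1 := by
  rw [← commutatorElement_inv, inv_eq_one]
  exact comm_eq_one_of_reg hZ hg hy (by rw [← commutatorElement_inv]; exact inv_mem h)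

theorem comm_mem_of_zpowers (hZ : Z ≤ center G) {y g x : G} (h : ⁅y, g⁆ ∈ Z)
    (hx : x ∈ zpowers g) : ⁅y, x⁆ ∈ Z := by
  obtain ⟨n, rfl⟩ := (Submonoid.mem_powers_iff _ _).1 (mem_powers_iff_mem_zpowers.2 hx)
  rw [comm_pow_right hZ h]
  exact pow_mem h n

theorem comm_eq_pRegPart (hZ : Z ≤ center G) {p : ℕ} [Fact p.Prime] {y g : G}
    (hy : IsPRegular p y) (h : ⁅y, g⁆ ∈ Z) : ⁅y, g⁆ = ⁅y, pRegPart p g⁆ := by
  conv_lhs => rw [← pPart_mul_pRegPart p g]
  rw [comm_mul_right hZ y (comm_mem_of_zpowers hZ h (pRegPart_mem_zpowers p g)),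
    comm_eq_one_of_reg hZ hy (isPElt_pPart p g)
      (comm_mem_of_zpowers hZ h (pPart_mem_zpowers p g)), one_mul]

theorem comm_eq_pPart (hZ : Z ≤ center G) {p : ℕ} [Fact p.Prime] {y g : G}
    (hy : IsPElt p y) (h : ⁅y, g⁆ ∈ Z) : ⁅y, g⁆ = ⁅y, pPart p g⁆ := by
  conv_lhs => rw [← pRegPart_mul_pPart p g]
  rw [comm_mul_right hZ y (comm_mem_of_zpowers hZ h (pPart_mem_zpowers p g)),
    comm_eq_one_of_pElt hZ hy (isPRegular_pRegPart p g)
      (comm_mem_of_zpowers hZ h (pRegPart_mem_zpowers p g)), one_mul]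

theorem good_of_reg (hZ : Z ≤ center G) {p : ℕ} [Fact p.Prime] {C O : Subgroup G}
    (hO : ∀ y ∈ C, IsPRegular p y → y ∈ O) {y : G} (hy : IsPRegular p y) (h : Good Z O y) :
    Good Z C y := fun g hg hz => by
  rw [comm_eq_pRegPart hZ hy hz]
  exact h _ (hO _ (pRegPart_mem p hg) (isPRegular_pRegPart p g))
    (comm_mem_of_zpowers hZ hz (pRegPart_mem_zpowers p g))

theorem relIndex_eq_card {p : ℕ} [Fact p.Prime] (ho : ¬ p ∣ Nat.card Z) {S : Subgroup G}
    (hS : IsPGroup p S) : Z.relIndex S = Nat.card S := by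
  have h1 : Z ⊓ S = ⊥ := eq_bot_iff.2 fun x hx =>
    (isPElt_of_mem hS hx.2).eq_one_of_isPRegular (isPRegular_of_mem ho hx.1)
  rw [← inf_relIndex_right, h1, relIndex_bot_left]

theorem factorization_relIndex (hZ : Z ≤ center G) (h : Z ≤ U) {p : ℕ} [hp : Fact p.Prime]
    {S : Subgroup G} (hS : IsSylowIn p S U) {a : ℕ} (ha : Z.relIndex S = p ^ a) :
    (Z.relIndex U).factorization p = a := by
  obtain ⟨m, hm, hU⟩ := relIndex_eq_mul hZ h hS
  have hm0 : m ≠ 0 := fun h0 => hm (h0 ▸ dvd_zero p)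
  rw [hU, ha, Nat.factorization_mul (pow_pos hp.out.pos a).ne' hm0, Finsupp.add_apply,
    Nat.factorization_eq_zero_of_not_dvd hm, add_zero, Nat.factorization_pow_self hp.out]

theorem exists_odd_dvd (hZ : Z ≤ center G) (h : Z ≤ U) (ho : ¬ 2 ∣ Nat.card Z)
    {lam : IrrCharacter Z} (hf : ∀ z : Z, lam.1 z = 1 → z = 1) {S : Subgroup G}
    (hS : IsSylowIn 2 S U) (hb : ∀ y ∈ U, IsPRegular 2 y → Good Z U y → y ∈ Z) :
    ∃ f, Odd f ∧ Z.relIndex U = Nat.card S * f ^ 2 ∧ ∀ χ : Over h lam, f ∣ charDegree χ.1.1 := by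
  obtain ⟨m, hm, hU⟩ := relIndex_eq_mul hZ h hS
  rw [relIndex_eq_card ho hS.isPGroup] at hU
  have hm0 : m ≠ 0 := fun h0 => hm (h0 ▸ dvd_zero 2)
  obtain ⟨s, hs⟩ := IsPGroup.iff_card.1 hS.isPGroup
  have key : ∀ p, p.Prime → p ≠ 2 → ∃ a, m.factorization p = 2 * a ∧
      ∀ χ : Over h lam, p ^ a ∣ charDegree χ.1.1 := fun p hp h2 => by
    haveI := Fact.mk hp
    obtain ⟨R, hR⟩ := exists_isSylowIn p U
    obtain ⟨-, a, ha, hd⟩ := sylow_cty hZ h hf hR fun x hx hxp hg =>
      hb x hx (hxp.isPRegular_of_ne (Ne.symm h2)) hg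
    refine ⟨a, ?_, hd⟩
    have := factorization_relIndex hZ h hR ha
    rwa [hU, hs, Nat.factorization_mul (pow_pos two_pos s).ne' hm0, Finsupp.add_apply,
      Nat.factorization_eq_zero_of_not_dvd (fun hd => h2
        ((Nat.prime_dvd_prime_iff_eq hp Nat.prime_two).1 (hp.dvd_of_dvd_pow hd))), zero_add] at this
  obtain ⟨f, hf'⟩ := exists_sq_or (q := 2) hm0 fun p hp h2 =>
    let ⟨a, ha, _⟩ := key p hp h2
    ⟨a, by omega⟩
  have h1 : m = f ^ 2 := hf'.resolve_right fun e => hm ⟨_, e⟩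
  refine ⟨f, Nat.not_even_iff_odd.1 fun h2 => hm (h1 ▸ dvd_pow h2.two_dvd two_ne_zero),
    by rw [hU, h1], fun χ => (Nat.pow_dvd_pow_iff two_ne_zero).1 ?_⟩
  have h0 := (pow_pos (irr_degree_pos χ.1) 2).ne'
  rw [← h1]
  refine (Nat.factorization_prime_le_iff_dvd hm0 h0).1 fun p hp => ?_
  by_cases h2 : p = 2
  · rw [h2, Nat.factorization_eq_zero_of_not_dvd hm]; exact Nat.zero_le _
  · obtain ⟨a, ha, hd⟩ := key p hp h2
    rw [ha, ← hp.pow_dvd_iff_le_factorization h0, mul_comm, pow_mul]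
    exact pow_dvd_pow_of_dvd (hd χ) 2

theorem card_le_card_over (hZ : Z ≤ center G) (h : Z ≤ U) (lam : IrrCharacter Z) {ι : Type*}
    [Fintype ι] (x : ι → U) (hg : ∀ i, Good Z U (x i))
    (hx : ∀ i j, i ≠ j → ∀ z : Z, ¬ IsConj (inclusion h z * x i) (x j)) :
    Fintype.card ι ≤ Nat.card (Over h lam) := by
  classical
  haveI := Fintype.ofFinite (Over h lam)
  have h1 : LinearIndependent ℂ fun (i : ι) (χ : Over h lam) => χ.1.1 (x i) := by
    rw [Fintype.linearIndependent_iff]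
    intro c hc j
    have h2 : ∑ χ : Over h lam, (∑ i, c i * χ.1.1 (x i)) * conj (χ.1.1 (x j)) = 0 :=
      Finset.sum_eq_zero fun χ _ => by
        have := congrFun hc χ
        rw [Finset.sum_apply] at this
        change ∑ i, c i * χ.1.1 (x i) = 0 at this
        rw [this, zero_mul]
    simp_rw [Finset.sum_mul, mul_assoc] at h2
    rw [Finset.sum_comm] at h2
    simp_rw [← Finset.mul_sum] at h2
    rw [Finset.sum_eq_single j (fun i _ hi => by rw [sum_over_eq_zero hZ h lam (hx i j hi),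
      mul_zero]) (fun hj => (hj (Finset.mem_univ _)).elim)] at h2
    refine (mul_eq_zero.1 h2).resolve_right fun h3 => ?_
    have := sum_over_good hZ h lam (hg j)
    rw [h3, mul_zero] at this
    exact card_cast_ne_zero this.symm
  have := h1.fintype_card_le_finrank
  rwa [Module.finrank_fintype_fun_eq_card, ← Nat.card_eq_fintype_card (α := Over h lam)] at this

end Grp

end GAG.E8
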