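import Cfsg.Agent.Lib.Gag.W1
import Cfsg.Agent.Lib.Gag.Sig
import Cfsg.Agent.Lib.Block.AbPrimeFT
import Cfsg.Agent.Lib.Grp.CycAb

/-!
# Simple groups with an abelian Sylow `2`-subgroup of rank at most two
-/

set_option autoImplicit false
set_option linter.unusedSectionVars false

namespace GAG

open Cfsg GT FT Subgroup
open scoped Pointwise commutatorElement

variable {G : Type*} [Group G] [Finite G] {T : Subgroup G}

theorem rank_two [IsSimpleGroup G] (hns : ¬ Group.IsSolvable G) (hT : IsSylowIn 2 T ⊤)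
    (hab : T ≤ 𝐂(T)) (h8 : ¬ 8 ∣ Nat.card (omegaOne 2 T)) : Nat.card T = 4 := by
  haveI : IsMulCommutative T := ⟨⟨fun a b => Subtype.ext (comm_elt hab a.2 b.2)⟩⟩
  have h2 : 2 ∣ Nat.card G := by
    by_contra h
    exact hns (feit_thompson G (Nat.not_even_iff_odd.1 fun e => h e.two_dvd))
  have hTN := hT.of_le le_normalizer le_top
  obtain ⟨E, hE, hTE, hE2⟩ := exists_compl_norm hTN le_rfl
  rw [omegaOne_eq_powKer] at h8
  set V := powKer T 2 with hV
  have hNV : 𝐍(T) ≤ 𝐍(V) := normalizer_le_normalizer_powKer T 2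
  have hC : 𝐂(V) ⊓ 𝐍(T) = 𝐂(T) ⊓ 𝐍(T) := by
    refine le_antisymm (fun n hn => ⟨?_, hn.2⟩) (inf_le_inf_right _ (centralizer_le (powKer_le T 2)))
    have hn2 := hn.2
    rw [← hTE] at hn2
    obtain ⟨t, ht, g, hg, rfl⟩ := (mem_sup_of_le_normalizer_left hE).1 hn2
    have hg' : g ∈ 𝐂(V) := by
      simpa using mul_mem (inv_mem (centralizer_le (powKer_le T 2) (hab ht))) hn.1
    have := le_centralizer_of_powKer_le (A := zpowers g) hT.isPGroup (zpowers_le.2 (hE hg))
      (fun h => hE2 (h.trans (card_dvd_of_le (zpowers_le.2 hg))))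
      (le_centralizer_iff.1 (zpowers_le.2 hg'))
    exact mul_mem (hab ht) (le_centralizer_iff.1 this (mem_zpowers g))
  set e := (𝐂(T)).relIndex 𝐍(T) with he
  have hV4 : Nat.card V ∣ 4 := by
    obtain ⟨k, hk⟩ := IsPGroup.iff_card.1 (hT.isPGroup.to_le (powKer_le T 2))
    rw [hk] at h8 ⊢
    exact pow_dvd_pow 2 (show k ≤ 2 by
      by_contra h
      exact h8 (pow_dvd_pow 2 (show 3 ≤ k by omega)))
  have he6 : e ∣ 6 := by
    rw [he, ← inf_relIndex_right, ← hC, inf_relIndex_right, ← relIndex_subgroupOf hNV]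
    haveI := subgroupOf_normal (norm_le_norm_cent V)
    refine ((relIndex_dvd_index_of_normal _ _).trans (relIndex_centralizer_dvd_card_mulAut V)).trans
      ((card_mulAut_dvd_factorial V).trans ?_)
    exact Nat.factorial_dvd_factorial (n := 3) (by have := Nat.le_of_dvd (by norm_num) hV4; omega)
  have he2 : ¬ 2 ∣ e := hTN.not_dvd_relIndex_of_le hab
  have he1 : e ≠ 1 := fun h => not_hasNormalPComplement_of_simple hns h2
    (hasNormalPComplement_of_normalizer_le_centralizer hT.toSylowTop (relIndex_eq_one.1 h))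
  have he3 : e = 3 := by
    have := Nat.le_of_dvd (by norm_num) he6
    clear_value e
    interval_cases e <;> omega
  obtain ⟨M, hM⟩ := BT.exists_isPModular Nat.prime_two
  rw [BT.card_eq_of_prime_of_not_isSolvable hM (fun H _ _ h => feit_thompson H h) hT hab
    (by rw [← he, he3]; norm_num) hns, ← he, he3]
  suffices h : T ⊓ 𝐂(𝐍(T)) = ⊥ by rw [h, card_bot]
  have hO : pPrimeCore 2 G = ⊥ := (Normal.eq_bot_or_eq_top inferInstance).resolve_right fun h =>
    not_dvd_card_pPrimeCore (p := 2) (G := G) (by rwa [h, card_top])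
  have hZ : center G = ⊥ := (Normal.eq_bot_or_eq_top inferInstance).resolve_right fun h =>
    hns (Group.isSolvable_of_comm fun a b => (mem_center_iff.1 (h ▸ mem_top b : b ∈ center G) a))
  refine eq_bot_iff.2 fun t ht => ?_
  rw [← hZ]
  exact BT.mem_center_of_abelian_of_normalizer hO hT.toSylowTop
    (fun a ha b hb => comm_elt hab ha hb) ht.1 fun n hn => by
      rw [ht.2 n hn, mul_inv_cancel_right]

end GAG
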