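import Cfsg.Agent.Lib.Gag.D8A

/-!
# Non-abelian Sylow `2`-subgroups of order `8`
-/

set_option autoImplicit false
set_option linter.unusedSectionVars false
set_option linter.style.haveILetI false

namespace GAG.E8
open Cfsg CT GT FT Subgroup
open scoped Pointwise commutatorElement ComplexConjugate

variable {G : Type*} [Group G] [Finite G]

theorem mul_mem_of_relIndex_two {K C : Subgroup G} (h : K.relIndex C = 2) {x y : G} (hx : x ∈ C)
    (hy : y ∈ C) : x * y ∈ K ↔ (x ∈ K ↔ y ∈ K) :=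
  mul_mem_iff_of_index_two (H := K.subgroupOf C) h (a := ⟨x, hx⟩) (b := ⟨y, hy⟩)

theorem le_of_relIndex_two {K C D R : Subgroup G} (h : K.relIndex C = 2) (hD : D ≤ C)
    (hR : IsSylowIn 2 R D) (hRK : R ≤ K) : D ≤ K := by
  have h1 := hR.not_dvd_relIndex_of_le hRK
  have h2 := relIndex_le_of_le_right (H := K) hD (by omega)
  have h3 := relIndex_pos K D
  exact relIndex_eq_one.1 (by omega)

theorem orderOf_eq_four {x : G} (h1 : x * x ≠ 1) (h2 : x ^ 4 = 1) : orderOf x = 4 := by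
  have := orderOf_eq_prime_pow (p := 2) (n := 1) (x := x) (by simpa [sq] using h1) h2
  simpa using this

/-- `T` is a non-abelian Sylow `2`-subgroup of order `8` and `u ∈ T` has order `4`. -/
structure Oct (T : Subgroup G) (u : G) : Prop where
  syl : IsSylowIn 2 T ⊤
  card : Nat.card T = 8
  mem : u ∈ T
  ord : orderOf u = 4
  na : ¬ T ≤ 𝐂[u]

theorem exists_oct {T : Subgroup G} (hT : IsSylowIn 2 T ⊤) (hc : Nat.card T = 8)
    (hn : ¬ ∀ x ∈ T, ∀ y ∈ T, x * y = y * x) : ∃ u, Oct T u := by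
  obtain ⟨u, hu, h1⟩ : ∃ u ∈ T, u * u ≠ 1 := by
    by_contra h
    push Not at h
    refine hn fun x hx y hy => ?_
    have e := fun z hz => eq_inv_of_mul_eq_one_left (h z hz)
    rw [e _ (mul_mem hx hy), mul_inv_rev, ← e x hx, ← e y hy]
  have h2 : u ^ 4 = 1 := by
    by_contra h2
    have h3 : u ^ 8 = 1 := by
      have := pow_card_eq_one' (x := (⟨u, hu⟩ : T))
      rw [hc] at this
      exact congrArg Subtype.val this
    have h4 := orderOf_eq_prime_pow (p := 2) (n := 2) (x := u) h2 h3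
    have h5 : zpowers u = T := eq_of_le_of_card_ge (zpowers_le.2 hu) (by
      rw [hc, Nat.card_zpowers, h4]; rfl)
    refine hn fun x hx y hy => ?_
    rw [← h5] at hx hy
    obtain ⟨i, rfl⟩ := hx
    obtain ⟨j, rfl⟩ := hy
    exact zpow_mul_comm u i j
  have h3 := orderOf_eq_four h1 h2
  have h4 : (zpowers u).relIndex T = 2 := by
    have := card_mul_relIndex (zpowers_le.2 hu)
    rw [Nat.card_zpowers, h3, hc] at this
    omega
  refine ⟨u, hT, hc, hu, h3, fun h => hn fun x hx y hy => ?_⟩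
  have key : ∀ a ∈ zpowers u, ∀ b ∈ T, Commute a b := fun a ha b hb =>
    commute_of_mem_zpowers ha (mem_centralizer_singleton_iff.1 (h hb)).symm
  by_cases h5 : x ∈ zpowers u
  · exact key x h5 y hy
  by_cases h6 : y ∈ zpowers u
  · exact (key y h6 x hx).symm
  have h7 := key _ ((mul_mem_of_relIndex_two h4 hx hy).2 (by tauto)) y hy
  exact mul_right_cancel (h7.eq.trans (mul_assoc _ _ _).symm)

namespace Oct
variable {T : Subgroup G} {u : G} (h : Oct T u)
include h

theorem pow_four : u ^ 4 = 1 := by rw [← h.ord, pow_orderOf_eq_one]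

theorem t_sq : u * u * (u * u) = 1 := by
  rw [← h.pow_four, ← sq, ← sq, ← pow_mul]

theorem t_ne_one : u * u ≠ 1 := fun e => by
  have := orderOf_dvd_of_pow_eq_one (x := u) (n := 2) (by rw [sq, e])
  rw [h.ord] at this
  omega

theorem ord_t : orderOf (u * u) = 2 := orderOf_eq_prime (by rw [sq, h.t_sq]) h.t_ne_one

theorem isPElt {x : G} (hx : x ∈ T) : IsPElt 2 x := isPElt_of_mem h.syl.isPGroup hx

theorem t_mem : u * u ∈ T := mul_mem h.mem h.mem

theorem le : zpowers u ≤ T := zpowers_le.2 h.mem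

theorem card_S : Nat.card (zpowers u) = 4 := by rw [Nat.card_zpowers, h.ord]

theorem relIndex_S : (zpowers u).relIndex T = 2 := by
  have := card_mul_relIndex h.le
  rw [h.card_S, h.card] at this
  omega

theorem cases {x : G} (hx : x ∈ zpowers u) : x = 1 ∨ x = u ∨ x = u * u ∨ x = u⁻¹ := by
  classical
  obtain ⟨i, hi, rfl⟩ := Finset.mem_image.1 (mem_zpowers_iff_mem_range_orderOf.1 hx)
  rw [h.ord, Finset.mem_range] at hi
  have e : u ^ 3 = u⁻¹ := eq_inv_of_mul_eq_one_left (by rw [← pow_succ, h.pow_four])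
  interval_cases i <;> simp [e, sq]

theorem cases_of_sq {x : G} (hx : x ∈ zpowers u) (h1 : x * x ≠ 1) : x = u ∨ x = u⁻¹ := by
  rcases h.cases hx with e | e | e | e
  · exact absurd (by rw [e, mul_one]) h1
  · exact Or.inl e
  · exact absurd (by rw [e, h.t_sq]) h1
  · exact Or.inr e

theorem cases_of_sq' {x : G} (hx : x ∈ zpowers u) (h1 : x * x = 1) : x = 1 ∨ x = u * u := by
  rcases h.cases hx with e | e | e | e
  · exact Or.inl e
  · exact absurd (e ▸ h1) h.t_ne_one
  · exact Or.inr e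
  · rw [e, ← mul_inv_rev, inv_eq_one] at h1
    exact absurd h1 h.t_ne_one

theorem not_comm {x : G} (hx : x ∈ T) (hn : x ∉ zpowers u) : x ∉ 𝐂[u] := fun hc =>
  h.na fun y hy => by
    have h1 : zpowers u ≤ 𝐂[u] := zpowers_le.2 (mem_centralizer_singleton_iff.2 rfl)
    by_cases h2 : y ∈ zpowers u
    · exact h1 h2
    · exact (mul_mem_cancel_left hc).1 (h1 ((mul_mem_of_relIndex_two h.relIndex_S hx hy).2
        (by tauto)))

theorem conj_mem {x y : G} (hx : x ∈ T) (hy : y ∈ zpowers u) : x * y * x⁻¹ ∈ zpowers u := by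
  rw [mul_mem_of_relIndex_two h.relIndex_S (mul_mem hx (h.le hy)) (inv_mem hx),
    mul_mem_cancel_right hy, inv_mem_iff]

theorem conj_eq_inv {x : G} (hx : x ∈ T) (hn : x ∉ zpowers u) : x * u * x⁻¹ = u⁻¹ :=
  (h.cases_of_sq (h.conj_mem hx (mem_zpowers u)) fun e => h.t_ne_one (by
    rw [show u * u = x⁻¹ * (x * u * x⁻¹ * (x * u * x⁻¹)) * x by group, e]; group)).resolve_left
    fun e => h.not_comm hx hn (by rw [mem_centralizer_singleton_iff, ← mul_inv_eq_iff_eq_mul, e])

theorem le_C : T ≤ 𝐂[u * u] := fun x hx => by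
  rw [mem_centralizer_singleton_iff, ← mul_inv_eq_iff_eq_mul]
  by_cases h1 : x ∈ zpowers u
  · rw [((commute_of_mem_zpowers h1 (Commute.refl u)).mul_right
      (commute_of_mem_zpowers h1 (Commute.refl u))).eq, mul_inv_cancel_right]
  · rw [show x * (u * u) * x⁻¹ = x * u * x⁻¹ * (x * u * x⁻¹) by group, h.conj_eq_inv hx h1,
      ← mul_inv_rev, inv_eq_iff_mul_eq_one, h.t_sq]

theorem syl_C : IsSylowIn 2 T 𝐂[u * u] := h.syl.of_le h.le_C le_top

theorem C_le : 𝐂[u] ≤ 𝐂[u * u] := fun x hx => by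
  rw [mem_centralizer_singleton_iff] at hx ⊢
  rw [← mul_assoc, hx, mul_assoc, hx, mul_assoc]

theorem sq_cases {x : G} (hx : x ∈ T) (hn : x ∉ zpowers u) : x * x = 1 ∨ x * x = u * u := by
  have h1 := (mul_mem_of_relIndex_two h.relIndex_S hx hx).2 Iff.rfl
  refine h.cases_of_sq' h1 (by_contra fun h2 => h.not_comm hx hn ?_)
  rw [mem_centralizer_singleton_iff]
  rcases h.cases_of_sq h1 h2 with e | e
  · rw [← e, mul_assoc]
  · rw [← inv_inv u, ← e]; group

theorem exists_not_mem : ∃ x ∈ T, x ∉ zpowers u := by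
  by_contra h1
  push Not at h1
  exact h.na fun x hx => zpowers_le.2 (mem_centralizer_singleton_iff.2 rfl) (h1 x hx)

theorem isConj_inv : IsConj u u⁻¹ := by
  obtain ⟨x, hx, hn⟩ := h.exists_not_mem
  exact isConj_iff.2 ⟨x, h.conj_eq_inv hx hn⟩

theorem syl_S : IsSylowIn 2 (zpowers u) 𝐂[u] := by
  obtain ⟨R, hR, hle⟩ := exists_isSylowIn_ge (p := 2) (h.isPElt h.mem).isPGroup_zpowers
    (zpowers_le.2 (mem_centralizer_singleton_iff.2 rfl) : zpowers u ≤ 𝐂[u])
  by_contra hne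
  have h1 : Nat.card R ∣ 8 := h.card ▸ h.syl.card_dvd hR.isPGroup le_top
  have h2 : 4 ∣ Nat.card R := h.card_S ▸ card_dvd_of_le hle
  have h3 : Nat.card R ≠ 4 := fun e =>
    hne ((eq_of_le_of_card_ge hle (by rw [e, h.card_S])) ▸ hR)
  have h4 : Nat.card R = 8 := by
    have := Nat.le_of_dvd (by omega) h1
    have := Nat.card_pos (α := R)
    omega
  obtain ⟨g, -, e⟩ := (h.syl.of_card_ge hR.isPGroup le_top (by rw [h4, h.card])).exists_conj_eq
    h.syl
  have h5 : g * u * g⁻¹ ∈ T := e ▸ conj_mem_conj_smul.2 (hle (mem_zpowers u))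
  have h6 : T ≤ 𝐂[g * u * g⁻¹] := by
    rw [← e, ← conj_smul_centralizer_singleton]
    exact conj_smul_le_iff.2 fun x hx => conj_mem_conj_smul.2 (hR.le hx)
  by_cases h7 : g * u * g⁻¹ ∈ zpowers u
  · rcases h.cases_of_sq h7 fun e => h.t_ne_one (by
      rw [show u * u = g⁻¹ * (g * u * g⁻¹ * (g * u * g⁻¹)) * g by group, e]; group) with e' | e'
    · exact h.na (e' ▸ h6)
    · refine h.na fun x hx => ?_
      have := h6 hx
      rw [e', mem_centralizer_singleton_iff] at this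
      exact mem_centralizer_singleton_iff.2 (Commute.inv_right_iff.1 this)
  · exact h.not_comm h5 h7
      (mem_centralizer_singleton_iff.2 (mem_centralizer_singleton_iff.1 (h6 h.mem)).symm)

theorem mem_of_isPElt {g : G} (hg : g ∈ 𝐂[u]) (hp : IsPElt 2 g) : g ∈ zpowers u :=
  h.syl_S.mem_of_mem_normalizer hp hg (mem_normalizer_of_conj_mem fun x hx => by
    rw [← (commute_of_mem_zpowers hx (mem_centralizer_singleton_iff.1 hg).symm).eq,
      mul_inv_cancel_right]
    exact hx)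

/-- `p`-elements, `p ≥ 5`, normalizing a `2`-subgroup centralize it -/
theorem conj_eq (hd : ∀ x ∈ T, x ∉ zpowers u → x * x = 1) {p : ℕ} [Fact p.Prime] (hp : 5 ≤ p)
    {R : Subgroup G} (hR : IsPGroup 2 R) {g : G} (hg : IsPElt p g) (hn : g ∈ 𝐍(R)) {x : G}
    (hx : x ∈ R) : g * x * g⁻¹ = x := by
  have h1 : Nat.card R ∣ 8 := h.card ▸ h.syl.card_dvd hR le_top
  by_cases h2 : Nat.card R = 8
  swap
  · refine conj_eq_of_small hg (X := R) (fun y hy => (mem_normalizer_iff.1 hn y).1 hy) ?_ hx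
    have h3 := Nat.le_of_dvd (by omega) h1
    rw [← Nat.card_coe_set_eq]
    change Nat.card R < p
    generalize Nat.card R = n at *
    interval_cases n <;> omega
  obtain ⟨c, -, e⟩ := (h.syl.of_card_ge hR le_top (by rw [h2, h.card])).exists_conj_eq h.syl
  have h3 : ∀ y ∈ T, c * g * c⁻¹ * y * (c * g * c⁻¹)⁻¹ ∈ T := fun y hy => by
    rw [← e] at hy ⊢
    obtain ⟨z, hz, rfl⟩ := mem_conj_smul'.1 hy
    rw [show c * g * c⁻¹ * (c * z * c⁻¹) * (c * g * c⁻¹)⁻¹ = c * (g * z * g⁻¹) * c⁻¹ by group]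
    exact conj_mem_conj_smul.2 ((mem_normalizer_iff.1 hn z).1 hz)
  suffices ∀ y ∈ T, c * g * c⁻¹ * y * (c * g * c⁻¹)⁻¹ = y by
    have := this (c * x * c⁻¹) (e ▸ conj_mem_conj_smul.2 hx)
    rw [show c * g * c⁻¹ * (c * x * c⁻¹) * (c * g * c⁻¹)⁻¹ = c * (g * x * g⁻¹) * c⁻¹ by group]
      at this
    simpa using this
  have h4 := hg.conj c
  generalize c * g * c⁻¹ = k at h3 h4
  have h5 : k * u * k⁻¹ ∈ zpowers u := by_contra fun h5 => h.t_ne_one (by
    rw [show u * u = k⁻¹ * (k * u * k⁻¹ * (k * u * k⁻¹)) * k by group, hd _ (h3 u h.mem) h5]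
    group)
  have h6 : k ∈ 𝐍(zpowers u) := mem_normalizer_of_conj_mem fun y hy => by
    obtain ⟨n, rfl⟩ := mem_zpowers_iff.1 hy
    rw [← conj_zpow]
    exact zpow_mem h5 n
  have h7 : (zpowers u : Set G).ncard = 4 := by rw [← Nat.card_coe_set_eq]; exact h.card_S
  intro y hy
  by_cases h8 : y ∈ zpowers u
  · exact conj_eq_of_small h4 (X := zpowers u) (fun z hz => (mem_normalizer_iff.1 h6 z).1 hz)
      (by omega) h8
  · refine conj_eq_of_small h4 (X := (T : Set G) \ zpowers u)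
      (fun z hz => ⟨h3 z hz.1, fun h9 => hz.2 ((mem_normalizer_iff.1 h6 z).2 h9)⟩) ?_ ⟨hy, h8⟩
    rw [Set.ncard_sdiff h.le, h7, ← Nat.card_coe_set_eq]
    change Nat.card T - 4 < p
    rw [h.card]; omega

end Oct

end GAG.E8
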