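import Cfsg.Agent.Lib.FT.Quo

/-!
# Vocabulary for groups of central type with small non-abelian Sylow subgroups (namespace `GAG`)
-/

set_option autoImplicit false

namespace GAG

open Cfsg GT FT Subgroup
open scoped Pointwise commutatorElement

variable {H : Type*} [Group H]

/-- `x` is good in `U` over the central subgroup `Z`. -/
def Good (Z U : Subgroup H) (x : H) : Prop := ∀ y ∈ U, ⁅x, y⁆ ∈ Z → ⁅x, y⁆ = 1

/-- `U` is of central type over `Z`: only the elements of `Z` are good. -/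
def CTy (Z U : Subgroup H) : Prop := ∀ x ∈ U, Good Z U x → x ∈ Z

/-- An `N(T)`-invariant nondegenerate alternating form on `T`. -/
structure Symp (T : Subgroup H) (ω : H → H → ℂˣ) : Prop where
  mul_left : ∀ x ∈ T, ∀ y ∈ T, ∀ z ∈ T, ω (x * y) z = ω x z * ω y z
  mul_right : ∀ x ∈ T, ∀ y ∈ T, ∀ z ∈ T, ω x (y * z) = ω x y * ω x z
  self : ∀ x ∈ T, ω x x = 1
  nondeg : ∀ x ∈ T, (∀ y ∈ T, ω x y = 1) → x = 1
  conj : ∀ n ∈ 𝐍(T), ∀ x ∈ T, ∀ y ∈ T, ω (n * x * n⁻¹) (n * y * n⁻¹) = ω x y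

/-- A simple nonsolvable subgroup normalized by all `2`-elements. -/
structure Cmp (K : Subgroup H) : Prop where
  simple : IsSimpleGroup K
  ns : ¬ Group.IsSolvable K
  norm : ∀ g : H, IsPElt 2 g → g ∈ 𝐍(K)

theorem Good.mono {Z U V : Subgroup H} {x : H} (h : Good Z U x) (hV : V ≤ U) : Good Z V x :=
  fun y hy => h y (hV hy)

namespace Symp

variable {T : Subgroup H} {ω : H → H → ℂˣ} (h : Symp T ω)
include h

theorem one_left {y : H} (hy : y ∈ T) : ω 1 y = 1 := by
  have := h.mul_left 1 T.one_mem 1 T.one_mem y hy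
  rw [one_mul] at this
  exact (left_eq_mul.1 this)

theorem one_right {x : H} (hx : x ∈ T) : ω x 1 = 1 := by
  have := h.mul_right x hx 1 T.one_mem 1 T.one_mem
  rw [one_mul] at this
  exact (left_eq_mul.1 this)

theorem inv_left {x y : H} (hx : x ∈ T) (hy : y ∈ T) : ω x⁻¹ y = (ω x y)⁻¹ := by
  have := h.mul_left x hx x⁻¹ (T.inv_mem hx) y hy
  rw [mul_inv_cancel, h.one_left hy] at this
  exact eq_inv_of_mul_eq_one_right this.symm

theorem inv_right {x y : H} (hx : x ∈ T) (hy : y ∈ T) : ω x y⁻¹ = (ω x y)⁻¹ := by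
  have := h.mul_right x hx y hy y⁻¹ (T.inv_mem hy)
  rw [mul_inv_cancel, h.one_right hx] at this
  exact eq_inv_of_mul_eq_one_right this.symm

theorem swap {x y : H} (hx : x ∈ T) (hy : y ∈ T) : ω y x = (ω x y)⁻¹ := by
  have h1 := h.self (x * y) (T.mul_mem hx hy)
  rw [h.mul_left x hx y hy _ (T.mul_mem hx hy), h.mul_right x hx x hx y hy,
    h.mul_right y hy x hx y hy, h.self x hx, h.self y hy, one_mul, mul_one] at h1
  exact eq_inv_of_mul_eq_one_right h1

theorem pow_left {x y : H} (hx : x ∈ T) (hy : y ∈ T) (n : ℕ) : ω (x ^ n) y = ω x y ^ n := by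
  induction n with
  | zero => rw [pow_zero, pow_zero, h.one_left hy]
  | succ n ih => rw [pow_succ, h.mul_left _ (T.pow_mem hx n) x hx y hy, ih, pow_succ]

theorem pow_right {x y : H} (hx : x ∈ T) (hy : y ∈ T) (n : ℕ) : ω x (y ^ n) = ω x y ^ n := by
  induction n with
  | zero => rw [pow_zero, pow_zero, h.one_right hx]
  | succ n ih => rw [pow_succ, h.mul_right x hx _ (T.pow_mem hy n) y hy, ih, pow_succ]

theorem eq_one_comm {x y : H} (hx : x ∈ T) (hy : y ∈ T) : ω x y = 1 ↔ ω y x = 1 := by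
  rw [h.swap hx hy, inv_eq_one]

/-- values at an involution are signs -/
theorem eq_one_or_neg {x y : H} (hx : x ∈ T) (hy : y ∈ T) (h2 : x * x = 1) :
    ω x y = 1 ∨ ω x y = -1 := by
  have h1 := h.mul_left x hx x hx y hy
  rw [h2, h.one_left hy] at h1
  have h3 : ((ω x y : ℂˣ) : ℂ) * (ω x y : ℂˣ) = 1 := by rw [← Units.val_mul, ← h1, Units.val_one]
  rcases mul_self_eq_one_iff.1 h3 with h4 | h4
  · exact Or.inl (Units.ext h4)
  · exact Or.inr (Units.ext (by rw [h4]; rfl))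

end Symp

end GAG
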