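import Cfsg.Agent.Lib.Gag.Defs
import Cfsg.Agent.Lib.Char.GallCount

/-!
# Good elements and characters over a faithful central character
-/

set_option autoImplicit false
set_option linter.unusedSectionVars false
set_option linter.style.haveILetI false

namespace GAG
open Cfsg CT GT FT Subgroup
open scoped Pointwise commutatorElement ComplexConjugate

section Good
variable {H : Type*} [Group H] {Z U V : Subgroup H}

theorem good_of_mem (hZ : Z ≤ center H) {z : H} (hz : z ∈ Z) : Good Z U z := fun y _ _ =>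
  commutatorElement_eq_one_iff_mul_comm.2 (mem_center_iff.1 (hZ hz) y).symm

theorem comm_mul_central (hZ : Z ≤ center H) (x y : H) {z : H} (hz : z ∈ Z) :
    ⁅x * z, y⁆ = ⁅x, y⁆ := by
  have h1 := mem_center_iff.1 (hZ hz)
  calc ⁅x * z, y⁆ = x * (z * y) * (z⁻¹ * x⁻¹ * y⁻¹) := by
        simp only [commutatorElement_def]; group
    _ = _ := by rw [← h1 y, commutatorElement_def]; group

theorem central_mul_comm (hZ : Z ≤ center H) (x y : H) {z : H} (hz : z ∈ Z) :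
    ⁅z * x, y⁆ = ⁅x, y⁆ := by
  rw [← mem_center_iff.1 (hZ hz) x, comm_mul_central hZ x y hz]

theorem good_mul_iff (hZ : Z ≤ center H) {x z : H} (hz : z ∈ Z) :
    Good Z U (x * z) ↔ Good Z U x := by
  unfold Good
  simp_rw [comm_mul_central hZ x _ hz]

theorem good_mul_iff' (hZ : Z ≤ center H) {x z : H} (hz : z ∈ Z) :
    Good Z U (z * x) ↔ Good Z U x := by
  unfold Good
  simp_rw [central_mul_comm hZ x _ hz]

theorem conj_eq_of_mem (hZ : Z ≤ center H) (g : H) {z : H} (hz : z ∈ Z) : g * z * g⁻¹ = z := by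
  rw [mem_center_iff.1 (hZ hz) g, mul_inv_cancel_right]

theorem conj_mem_iff (hZ : Z ≤ center H) (g : H) {x : H} : g * x * g⁻¹ ∈ Z ↔ x ∈ Z :=
  ⟨fun h => by
    have := conj_eq_of_mem hZ g⁻¹ h
    rw [show g⁻¹ * (g * x * g⁻¹) * g⁻¹⁻¹ = x by group] at this
    rw [this]; exact h, fun h => by rw [conj_eq_of_mem hZ g h]; exact h⟩

theorem Good.conj (hZ : Z ≤ center H) {x g : H} (h : Good Z U x) (hg : g ∈ 𝐍(U)) :
    Good Z U (g * x * g⁻¹) := fun y hy hc => by
  have e : ⁅g * x * g⁻¹, y⁆ = g * ⁅x, g⁻¹ * y * g⁆ * g⁻¹ := by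
    simp only [commutatorElement_def]; group
  have hy' : g⁻¹ * y * g ∈ U := by
    have := (mem_normalizer_iff.1 (inv_mem hg) y).1 hy
    rwa [inv_inv] at this
  rw [e] at hc ⊢
  rw [h _ hy' ((conj_mem_iff hZ g).1 hc), mul_one, mul_inv_cancel]

theorem good_conj_iff (hZ : Z ≤ center H) {x g : H} (hg : g ∈ 𝐍(U)) :
    Good Z U (g * x * g⁻¹) ↔ Good Z U x :=
  ⟨fun h => by
    have := h.conj hZ (inv_mem hg)
    rwa [show g⁻¹ * (g * x * g⁻¹) * g⁻¹⁻¹ = x by group] at this, fun h => h.conj hZ hg⟩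

theorem Good.inv {x : H} (h : Good Z U x) [Z.Normal] : Good Z U x⁻¹ := fun y hy hc => by
  have e : ⁅x, y⁆ = x * ⁅x⁻¹, y⁆⁻¹ * x⁻¹ := by simp only [commutatorElement_def]; group
  have h1 : ⁅x, y⁆ = 1 := h y hy (by rw [e]; exact Normal.conj_mem ‹_› _ (inv_mem hc) x)
  exact commutatorElement_eq_one_iff_commute.2
    (commutatorElement_eq_one_iff_commute.1 h1).inv_left

/-- the commutator map is multiplicative where its values are central -/
theorem comm_mul_right (hZ : Z ≤ center H) (x : H) {y y' : H} (hy : ⁅x, y'⁆ ∈ Z) :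
    ⁅x, y * y'⁆ = ⁅x, y⁆ * ⁅x, y'⁆ := by
  calc ⁅x, y * y'⁆ = ⁅x, y⁆ * (y * ⁅x, y'⁆ * y⁻¹) := by
        simp only [commutatorElement_def]; group
    _ = _ := by rw [conj_eq_of_mem hZ y hy]

theorem comm_mul_left (hZ : Z ≤ center H) {x x' : H} (y : H) (hx : ⁅x', y⁆ ∈ Z) :
    ⁅x * x', y⁆ = ⁅x, y⁆ * ⁅x', y⁆ := by
  calc ⁅x * x', y⁆ = x * ⁅x', y⁆ * x⁻¹ * ⁅x, y⁆ := by
        simp only [commutatorElement_def]; group
    _ = _ := by rw [conj_eq_of_mem hZ x hx, mem_center_iff.1 (hZ hx)]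

theorem comm_pow_right (hZ : Z ≤ center H) {x y : H} (h : ⁅x, y⁆ ∈ Z) (n : ℕ) :
    ⁅x, y ^ n⁆ = ⁅x, y⁆ ^ n := by
  induction n with
  | zero => simp
  | succ n ih => rw [pow_succ, comm_mul_right hZ x h, ih, pow_succ]

theorem comm_pow_left (hZ : Z ≤ center H) {x y : H} (h : ⁅x, y⁆ ∈ Z) (n : ℕ) :
    ⁅x ^ n, y⁆ = ⁅x, y⁆ ^ n := by
  induction n with
  | zero => simp
  | succ n ih => rw [pow_succ, comm_mul_left hZ y h, ih, pow_succ]

theorem CTy.of_mem_normalizer (hZ : Z ≤ center H) (h : CTy Z U) {g : H} :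
    CTy Z (MulAut.conj g • U) := fun x hx hg => by
  obtain ⟨y, hy, rfl⟩ := hx
  change Good Z _ (g * y * g⁻¹) at hg
  change g * y * g⁻¹ ∈ Z
  rw [conj_mem_iff hZ]
  refine h y hy fun w hw hc => ?_
  have e : ⁅g * y * g⁻¹, g * w * g⁻¹⁆ = g * ⁅y, w⁆ * g⁻¹ := by
    simp only [commutatorElement_def]; group
  have h1 := hg (g * w * g⁻¹) ⟨w, hw, rfl⟩ (by rw [e, conj_mem_iff hZ]; exact hc)
  rw [e, conj_eq_of_mem hZ g hc] at h1
  exact h1

theorem card_centralizer_coe (x : U) :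
    Nat.card (centralizer ({x} : Set U)) = Nat.card ↥(U ⊓ 𝐂[(x : H)]) := by
  rw [← card_map_of_injective U.subtype_injective]
  congr 2
  ext y
  simp only [mem_map, mem_centralizer_singleton_iff, mem_inf, coe_subtype]
  constructor
  · rintro ⟨w, hw, rfl⟩
    exact ⟨w.2, congrArg Subtype.val hw⟩
  · rintro ⟨h1, h2⟩
    exact ⟨⟨y, h1⟩, Subtype.ext h2, rfl⟩

end Good

section K
variable {H : Type*} [Group H] [Finite H] {Z U : Subgroup H}
/-- irreducible characters of `U` over `lam` -/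
abbrev Over (h : Z ≤ U) (lam : IrrCharacter Z) := {χ : IrrCharacter U // LiesOverLe h χ.1 lam.1}

theorem exists_faithful (hZ : Z ≤ center H) [IsCyclic Z] :
    ∃ lam : IrrCharacter Z, ∀ z : Z, lam.1 z = 1 → z = 1 := by
  have _ := hZ
  obtain ⟨f, hf⟩ := exists_injective_units_hom (G := Z)
  refine ⟨linChar f, fun z hz => hf ?_⟩
  rw [map_one]
  exact Units.ext hz

theorem lam_one (hZ : Z ≤ center H) (lam : IrrCharacter Z) : lam.1 1 = 1 := by
  rw [irr_apply_one, irr_apply_one_of_le_center hZ, Nat.cast_one]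

theorem lam_mul_conj (hZ : Z ≤ center H) (lam : IrrCharacter Z) (z : Z) :
    lam.1 z * conj (lam.1 z) = 1 := by
  have := congrFun ((irr_isCharacter lam).cbar_mul_self_of_degree_one
    (irr_apply_one_of_le_center hZ lam)) z
  rw [mul_comm]; exact this

theorem lam_mul (hZ : Z ≤ center H) (lam : IrrCharacter Z) (z w : Z) :
    lam.1 (z * w) = lam.1 z * lam.1 w := by
  obtain ⟨f, rfl⟩ := (exists_linChar_eq_iff lam).2 (irr_apply_one_of_le_center hZ lam)
  simp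

theorem Over.apply_central_mul (hZ : Z ≤ center H) {h : Z ≤ U} {lam : IrrCharacter Z}
    (χ : Over h lam) (z : Z) (x : U) : χ.1.1 (inclusion h z * x) = lam.1 z * χ.1.1 x := by
  rw [irr_apply_central_mul χ.1
    (mem_center_iff.2 fun x => Subtype.ext (mem_center_iff.1 (hZ z.2) x)) x]
  have := congrFun (resLe_eq_smul_of_le_center hZ h χ.2) z
  change χ.1.1 (inclusion h z) = χ.1.1 1 * lam.1 z at this
  rw [this, mul_div_cancel_left₀ _ (irr_apply_one_ne_zero χ.1)]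

theorem Over.apply_central (hZ : Z ≤ center H) {h : Z ≤ U} {lam : IrrCharacter Z}
    (χ : Over h lam) (z : Z) : χ.1.1 (inclusion h z) = lam.1 z * charDegree χ.1.1 := by
  rw [← irr_apply_one, ← χ.apply_central_mul hZ, mul_one]

instance Over.nonempty (h : Z ≤ U) (lam : IrrCharacter Z) : Nonempty (Over h lam) :=
  let ⟨χ, hχ⟩ := exists_irr_liesOverLe h lam
  ⟨⟨χ, hχ⟩⟩

open Classical in
/-- column orthogonality over `lam` -/
theorem sum_over_mul_conj (hZ : Z ≤ center H) (h : Z ≤ U) (lam : IrrCharacter Z) [Fintype Z]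
    [Fintype (Over h lam)] (x y : U) :
    (Nat.card Z : ℂ) * ∑ χ : Over h lam, χ.1.1 x * conj (χ.1.1 y) =
      ∑ z : Z, if IsConj (inclusion h z * x) y then
        conj (lam.1 z) * Nat.card ↥(U ⊓ 𝐂[(y : H)]) else 0 := by
  calc _ = ∑ χ : IrrCharacter U, if LiesOverLe h χ.1 lam.1 then
          (Nat.card Z : ℂ) * (χ.1 x * conj (χ.1 y)) else 0 := by
        rw [← Finset.sum_filter, Finset.mul_sum]
        exact (Finset.sum_subtype _ (by simp) fun χ : IrrCharacter U =>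
          (Nat.card Z : ℂ) * (χ.1 x * conj (χ.1 y))).symm
    _ = ∑ χ : IrrCharacter U, ∑ z : Z,
          conj (lam.1 z) * (χ.1 (inclusion h z * x) * conj (χ.1 y)) := by
        refine Finset.sum_congr rfl fun χ _ => ?_
        simp_rw [← mul_assoc, ← Finset.sum_mul, sum_conj_mul_central hZ h]
        split_ifs <;> simp
    _ = _ := by
        rw [Finset.sum_comm]
        refine Finset.sum_congr rfl fun z _ => ?_
        have e : ∑ χ : IrrCharacter U, χ.1 (inclusion h z * x) * conj (χ.1 y) =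
            conj (∑ χ : IrrCharacter U, χ.1 y * conj (χ.1 (inclusion h z * x))) := by
          rw [map_sum]
          exact Finset.sum_congr rfl fun χ _ => by rw [map_mul, Complex.conj_conj, mul_comm]
        rw [← Finset.mul_sum, e, sum_irr_mul_conj]
        by_cases hc : IsConj (inclusion h z * x) y
        · rw [if_pos hc, if_pos hc.symm, map_natCast, card_centralizer_coe]
        · rw [if_neg hc, if_neg fun h' => hc h'.symm, map_zero, mul_zero]

theorem sum_over_eq_zero (hZ : Z ≤ center H) (h : Z ≤ U) (lam : IrrCharacter Z)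
    [Fintype (Over h lam)] {x y : U} (hxy : ∀ z : Z, ¬ IsConj (inclusion h z * x) y) :
    ∑ χ : Over h lam, χ.1.1 x * conj (χ.1.1 y) = 0 := by
  classical
  haveI := Fintype.ofFinite Z
  have := sum_over_mul_conj hZ h lam x y
  rw [Finset.sum_eq_zero fun z _ => if_neg (hxy z)] at this
  exact (mul_eq_zero.1 this).resolve_left card_cast_ne_zero

theorem Good.eq_one_of_isConj (h : Z ≤ U) {x : U} (hx : Good Z U x) {z : Z}
    (hc : IsConj (inclusion h z * x) x) : z = 1 := by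
  obtain ⟨c, hc⟩ := isConj_iff.1 hc.symm
  have e : ((c : H) * x * (c : H)⁻¹) = z * x := congrArg Subtype.val hc
  have e2 : ⁅(x : H), (c : H)⁆ = (z : H)⁻¹ := by
    rw [commutatorElement_def]
    calc (x : H) * c * (x : H)⁻¹ * (c : H)⁻¹ = x * ((c : H) * x * (c : H)⁻¹)⁻¹ := by group
      _ = _ := by rw [e]; group
  have := hx c c.2 (by rw [e2]; exact inv_mem z.2)
  rw [e2, inv_eq_one] at this
  exact Subtype.ext this

theorem sum_over_good (hZ : Z ≤ center H) (h : Z ≤ U) (lam : IrrCharacter Z)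
    [Fintype (Over h lam)] {x : U} (hx : Good Z U x) :
    (Nat.card Z : ℂ) * ∑ χ : Over h lam, χ.1.1 x * conj (χ.1.1 x) =
      Nat.card ↥(U ⊓ 𝐂[(x : H)]) := by
  classical
  haveI := Fintype.ofFinite Z
  rw [sum_over_mul_conj hZ h lam, Finset.sum_eq_single 1
    (fun z _ hz => if_neg fun hc => hz (hx.eq_one_of_isConj h hc))
    (fun hz => (hz (Finset.mem_univ _)).elim), map_one, one_mul, if_pos (IsConj.refl _),
    lam_one hZ, map_one, one_mul]

theorem sum_sq (hZ : Z ≤ center H) (h : Z ≤ U) (lam : IrrCharacter Z) [Fintype (Over h lam)] :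
    ∑ χ : Over h lam, charDegree χ.1.1 ^ 2 = Z.relIndex U := by
  have h1 := sum_over_good hZ h lam (x := 1) (good_of_mem hZ Z.one_mem)
  have h2 : U ⊓ 𝐂[((1 : U) : H)] = U := inf_eq_left.2 fun y _ => by
    simp [mem_centralizer_singleton_iff]
  rw [h2, ← card_mul_relIndex h, Nat.cast_mul] at h1
  have h3 := mul_left_cancel₀ card_cast_ne_zero h1
  simp_rw [irr_apply_one, map_natCast, ← sq] at h3
  exact_mod_cast h3

theorem Over.sq_le (hZ : Z ≤ center H) {h : Z ≤ U} {lam : IrrCharacter Z} (χ : Over h lam) :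
    charDegree χ.1.1 ^ 2 ≤ Z.relIndex U := by
  haveI := Fintype.ofFinite (Over h lam)
  rw [← sum_sq hZ h lam]
  exact Finset.single_le_sum (f := fun χ : Over h lam => charDegree χ.1.1 ^ 2)
    (fun _ _ => Nat.zero_le _) (Finset.mem_univ χ)

theorem apply_eq_zero (hZ : Z ≤ center H) (h : Z ≤ U) {lam : IrrCharacter Z}
    (hf : ∀ z : Z, lam.1 z = 1 → z = 1) (χ : Over h lam) {x : U} (hx : ¬ Good Z U x) :
    χ.1.1 x = 0 := by
  unfold Good at hx
  push Not at hx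
  obtain ⟨y, hy, hc, h1⟩ := hx
  have h2 := χ.apply_central_mul hZ ⟨_, hc⟩ (⟨y, hy⟩ * x * ⟨y, hy⟩⁻¹)
  have h3 : inclusion h ⟨_, hc⟩ * (⟨y, hy⟩ * x * ⟨y, hy⟩⁻¹) = x := Subtype.ext (by
    change ⁅(x : H), y⁆ * (y * x * y⁻¹) = x
    rw [commutatorElement_def]; group)
  rw [h3, irr_isClassFunction χ.1] at h2
  by_contra h4
  exact h1 (congrArg Subtype.val (hf _ (by
    have := mul_right_cancel₀ h4 (h2.symm.trans (one_mul _).symm)
    exact this)))

open Classical in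
theorem card_over (hZ : Z ≤ center H) (h : Z ≤ U) {lam : IrrCharacter Z}
    (hf : ∀ z : Z, lam.1 z = 1 → z = 1) [Fintype U] :
    Nat.card (Over h lam) * Nat.card U * Nat.card Z =
      ∑ x : U, if Good Z U x then Nat.card ↥(U ⊓ 𝐂[(x : H)]) else 0 := by
  haveI := Fintype.ofFinite (Over h lam)
  have h1 : ∀ χ : IrrCharacter U, ∑ g : U, χ.1 g * conj (χ.1 g) = Nat.card U := fun χ => by
    have := ip_irr_self χ
    rw [ip_def, inv_mul_eq_one₀ card_cast_ne_zero] at this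
    exact this.symm
  have h2 : ((Nat.card (Over h lam) * Nat.card U * Nat.card Z : ℕ) : ℂ) =
      ∑ x : U, (Nat.card Z : ℂ) * ∑ χ : Over h lam, χ.1.1 x * conj (χ.1.1 x) := by
    rw [← Finset.mul_sum, Finset.sum_comm]
    simp_rw [h1]
    rw [Finset.sum_const, Finset.card_univ, ← Nat.card_eq_fintype_card, nsmul_eq_mul]
    push_cast; ring
  have h3 : ∀ x : U, (Nat.card Z : ℂ) * ∑ χ : Over h lam, χ.1.1 x * conj (χ.1.1 x) =
      ((if Good Z U x then Nat.card ↥(U ⊓ 𝐂[(x : H)]) else 0 : ℕ) : ℂ) := fun x => by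
    split_ifs with hx
    · exact sum_over_good hZ h lam hx
    · rw [Finset.sum_eq_zero fun χ _ => by rw [apply_eq_zero hZ h hf χ hx, zero_mul]]; simp
  simp_rw [h3] at h2
  exact_mod_cast h2

/-- inner product of a function vanishing off `Z` -/
theorem ip_of_vanish (hZ : Z ≤ center H) (h : Z ≤ U) {lam : IrrCharacter Z} {φ : U → ℂ} {c : ℂ}
    (h0 : ∀ x : U, (x : H) ∉ Z → φ x = 0) (h1 : ∀ z : Z, φ (inclusion h z) = lam.1 z * c)
    (ψ : Over h lam) : (Z.relIndex U : ℂ) * ip φ ψ.1.1 = c * charDegree ψ.1.1 := by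
  have h2 := ip_res_res_of_vanish (Z.subgroupOf U) (χ := φ) (ψ := ψ.1.1) h0
  rw [ip_res_res_subgroupOf h, resLe_eq_smul_of_le_center hZ h ψ.2,
    show resLe h φ = c • lam.1 from funext fun z => (h1 z).trans (mul_comm _ _), ip_smul_left,
    ip_smul_right, ip_irr_self, irr_apply_one, map_natCast, mul_one] at h2
  exact h2.symm

theorem Over.resLe_mem {V : Subgroup H} (hZ : Z ≤ center H) {h : Z ≤ U} (hV : Z ≤ V) (hVU : V ≤ U)
    {lam : IrrCharacter Z} (χ : Over h lam) {φ : IrrCharacter V}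
    (hφ : LiesOverLe hVU χ.1.1 φ.1) : LiesOverLe hV φ.1 lam.1 := by
  obtain ⟨μ, hμ⟩ := exists_irr_liesUnderLe hV φ
  have h1 : LiesOverLe h χ.1.1 μ.1 := hφ.trans (irr_isCharacter _) (irr_isCharacter _) hμ
  have h2 : μ = lam := by
    by_contra hne
    apply h1
    rw [resLe_eq_smul_of_le_center hZ h χ.2, ip_smul_left, ip_irr_ne (Ne.symm hne), mul_zero]
  rwa [h2] at hμ

theorem CTy.sq_eq (hZ : Z ≤ center H) {h : Z ≤ U} {lam : IrrCharacter Z}
    (hf : ∀ z : Z, lam.1 z = 1 → z = 1) (hc : CTy Z U) (χ : Over h lam) :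
    charDegree χ.1.1 ^ 2 = Z.relIndex U := by
  have := ip_of_vanish hZ h (φ := χ.1.1)
    (fun x hx => apply_eq_zero hZ h hf χ fun hg => hx (hc x x.2 hg)) (χ.apply_central hZ) χ
  rw [ip_irr_self, mul_one, ← sq] at this
  exact_mod_cast this.symm

theorem Over.eq_of_sq_eq (hZ : Z ≤ center H) {h : Z ≤ U} {lam : IrrCharacter Z} {χ : Over h lam}
    (hχ : charDegree χ.1.1 ^ 2 = Z.relIndex U) (ψ : Over h lam) : ψ = χ := by
  classical
  haveI := Fintype.ofFinite (Over h lam)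
  by_contra hne
  have h1 := sum_sq hZ h lam
  rw [← Finset.add_sum_erase _ _ (Finset.mem_univ χ), hχ, Nat.add_eq_left] at h1
  have h2 := Finset.sum_eq_zero_iff.1 h1 ψ (Finset.mem_erase.2 ⟨hne, Finset.mem_univ _⟩)
  exact (pow_pos (irr_degree_pos ψ.1) 2).ne' h2

theorem CTy.subsingleton (hZ : Z ≤ center H) (h : Z ≤ U) {lam : IrrCharacter Z}
    (hf : ∀ z : Z, lam.1 z = 1 → z = 1) (hc : CTy Z U) : Subsingleton (Over h lam) :=
  ⟨fun χ ψ => Over.eq_of_sq_eq hZ (hc.sq_eq hZ hf ψ) χ⟩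

theorem cty_iff (hZ : Z ≤ center H) (h : Z ≤ U) {lam : IrrCharacter Z}
    (hf : ∀ z : Z, lam.1 z = 1 → z = 1) :
    CTy Z U ↔ ∃ χ : Over h lam, charDegree χ.1.1 ^ 2 = Z.relIndex U := by
  refine ⟨fun hc => ⟨Classical.arbitrary _, hc.sq_eq hZ hf _⟩, fun ⟨χ, hχ⟩ x hx hg => ?_⟩
  haveI : Unique (Over h lam) := ⟨⟨χ⟩, Over.eq_of_sq_eq hZ hχ⟩
  have h1 := sum_over_good hZ h lam (x := ⟨x, hx⟩) hg
  rw [Fintype.sum_unique, Over.eq_of_sq_eq hZ hχ default] at h1
  have h2 := (ip_res_self_eq_iff (Z.subgroupOf U) χ.1.1).1 (by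
    rw [ip_res_res_subgroupOf h, resLe_eq_smul_of_le_center hZ h χ.2, ip_smul_left,
      ip_smul_right, ip_irr_self, ip_irr_self, irr_apply_one, map_natCast, mul_one, mul_one,
      ← sq]
    exact_mod_cast hχ)
  by_contra hxZ
  rw [h2 ⟨x, hx⟩ hxZ, zero_mul, mul_zero] at h1
  exact card_cast_ne_zero h1.symm

theorem relIndex_sup_central (hZ : Z ≤ center H) (S : Subgroup H) :
    Z.relIndex (S ⊔ Z) = Z.relIndex S := by
  haveI := normal_of_le_center' hZ
  exact relIndex_sup_right S Z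

theorem exists_relIndex_eq_pow {p : ℕ} [Fact p.Prime] {S : Subgroup H} (hS : IsPGroup p S) :
    ∃ s, Z.relIndex S = p ^ s := by
  obtain ⟨n, hn⟩ := IsPGroup.iff_card.1 hS
  have := (Z.subgroupOf S).index_dvd_card
  rw [hn] at this
  obtain ⟨s, -, hs⟩ := (Nat.dvd_prime_pow Fact.out).1 this
  exact ⟨s, hs⟩

theorem relIndex_eq_mul (hZ : Z ≤ center H) (h : Z ≤ U) {p : ℕ} {S : Subgroup H}
    (hS : IsSylowIn p S U) : ∃ m, ¬ p ∣ m ∧ Z.relIndex U = Z.relIndex S * m :=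
  ⟨(S ⊔ Z).relIndex U, hS.not_dvd_relIndex_of_le le_sup_left, by
    rw [← relIndex_sup_central hZ S, relIndex_mul_relIndex _ _ _ le_sup_right (sup_le hS.le h)]⟩

theorem mem_sup_central (hZ : Z ≤ center H) {S : Subgroup H} {x : H} (hx : x ∈ S ⊔ Z) :
    ∃ s ∈ S, ∃ z ∈ Z, x = s * z := by
  haveI := normal_of_le_center' hZ
  have : x ∈ ((S ⊔ Z : Subgroup H) : Set H) := hx
  rw [mul_normal] at this
  obtain ⟨s, hs, z, hz, rfl⟩ := this
  exact ⟨s, hs, z, hz, rfl⟩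

theorem sylow_cty (hZ : Z ≤ center H) (h : Z ≤ U) {lam : IrrCharacter Z}
    (hf : ∀ z : Z, lam.1 z = 1 → z = 1) {p : ℕ} [Fact p.Prime] {S : Subgroup H}
    (hS : IsSylowIn p S U) (hb : ∀ x ∈ U, IsPElt p x → Good Z U x → x ∈ Z) :
    CTy Z (S ⊔ Z) ∧ ∃ a, Z.relIndex S = p ^ (2 * a) ∧
      ∀ χ : Over h lam, p ^ a ∣ charDegree χ.1.1 := by
  have hp : p.Prime := Fact.out
  haveI := Fintype.ofFinite (Over h lam)
  have hP : S ⊔ Z ≤ U := sup_le hS.le h
  obtain ⟨s, hs⟩ := exists_relIndex_eq_pow (Z := Z) hS.isPGroup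
  obtain ⟨m, hm, hU⟩ := relIndex_eq_mul hZ h hS
  have hs' := (relIndex_sup_central hZ S).trans hs
  obtain ⟨ψ⟩ : Nonempty (Over (le_sup_right : Z ≤ S ⊔ Z) lam) := inferInstance
  have h1 : ∀ χ : Over h lam, p ^ s ∣ charDegree χ.1.1 * charDegree ψ.1.1 := fun χ => by
    have h2 := ip_of_vanish hZ le_sup_right (φ := resLe hP χ.1.1) (c := charDegree χ.1.1)
      (fun x hx => apply_eq_zero hZ h hf χ fun hg => hx (by
        obtain ⟨y, hy, z, hz, e⟩ := mem_sup_central hZ x.2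
        change Good Z U (x : H) at hg
        rw [e] at hg ⊢
        exact mul_mem (hb y (hS.le hy) (isPElt_of_mem hS.isPGroup hy)
          ((good_mul_iff hZ hz).1 hg)) hz))
      (fun z => χ.apply_central hZ z) ψ
    rw [((irr_isCharacter χ.1).resLe hP).ip_eq_mult (irr_isCharacter _), hs'] at h2
    exact ⟨_, by exact_mod_cast h2.symm⟩
  obtain ⟨b, n, hn, e⟩ := Nat.exists_eq_pow_mul_and_not_dvd (irr_degree_pos ψ.1).ne' p hp.ne_one
  have h3 := ψ.sq_le hZ
  rw [hs', e] at h3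
  have hn0 : 0 < n := Nat.pos_of_ne_zero fun h0 => hn (h0 ▸ dvd_zero p)
  have h4 : 2 * b ≤ s := by
    refine (Nat.pow_le_pow_iff_right hp.one_lt).1 (le_trans ?_ h3)
    rw [mul_comm, pow_mul]
    exact Nat.pow_le_pow_left (Nat.le_mul_of_pos_right _ hn0) 2
  have h5 : ∀ χ : Over h lam, p ^ (s - b) ∣ charDegree χ.1.1 := fun χ => by
    have h6 := h1 χ
    rw [e, show s = b + (s - b) by omega, pow_add, mul_left_comm] at h6
    exact ((Nat.Coprime.pow_left _ ((Nat.Prime.coprime_iff_not_dvd hp).2 hn)).dvd_mul_right).1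
      (Nat.dvd_of_mul_dvd_mul_left (pow_pos hp.pos b) h6)
  have h7 : p ^ (2 * (s - b)) ∣ p ^ s * m := by
    rw [← hs, ← hU, ← sum_sq hZ h lam, mul_comm, pow_mul]
    exact Finset.dvd_sum fun χ _ => pow_dvd_pow_of_dvd (h5 χ) 2
  have h8 : 2 * (s - b) ≤ s := (Nat.pow_dvd_pow_iff_le_right hp.one_lt).1
    (((Nat.Coprime.pow_left _ ((Nat.Prime.coprime_iff_not_dvd hp).2 hm)).dvd_mul_right).1 h7)
  have h9 : s = 2 * b := by omega
  refine ⟨(cty_iff hZ le_sup_right hf).2 ⟨ψ, ?_⟩, b, by rw [hs, h9], fun χ => ?_⟩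
  · rw [hs', e]
    refine le_antisymm h3 ?_
    rw [h9, mul_comm, pow_mul]
    exact Nat.pow_le_pow_left (Nat.le_mul_of_pos_right _ hn0) 2
  · have := h5 χ
    rwa [show s - b = b by omega] at this

theorem CTy.mem_of_isPElt (hZ : Z ≤ center H) (h : Z ≤ U) {p : ℕ} [Fact p.Prime] {S : Subgroup H}
    (hS : IsSylowIn p S U) (hc : CTy Z (S ⊔ Z)) {x : H} (hx : x ∈ U) (hp : IsPElt p x)
    (hg : Good Z U x) : x ∈ Z := by
  obtain ⟨g, hg', hm⟩ := hS.exists_conj_mem hp hx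
  exact (conj_mem_iff hZ g).1 (hc _ (mem_sup_left hm)
    ((hg.conj hZ (le_normalizer hg')).mono (sup_le hS.le h)))

theorem relIndex_dvd_of_forall (hZ : Z ≤ center H) (h : Z ≤ U) {n : ℕ} (hn : n ≠ 0)
    (hb : ∀ (p : ℕ) [Fact p.Prime], ∃ S, IsSylowIn p S U ∧ Z.relIndex S ∣ n) :
    Z.relIndex U ∣ n := by
  refine (Nat.factorization_prime_le_iff_dvd (relIndex_pos _ _).ne' hn).1 fun p hp => ?_
  haveI := Fact.mk hp
  obtain ⟨S, hS, hd⟩ := hb p
  obtain ⟨m, hm, hU⟩ := relIndex_eq_mul hZ h hS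
  have hm0 : m ≠ 0 := fun h0 => hm (h0 ▸ dvd_zero p)
  rw [hU, Nat.factorization_mul (relIndex_pos _ _).ne' hm0, Finsupp.add_apply,
    Nat.factorization_eq_zero_of_not_dvd hm, add_zero]
  exact (Nat.factorization_le_iff_dvd (relIndex_pos _ _).ne' hn).2 hd p

theorem cty_of_sylow (hZ : Z ≤ center H) [IsCyclic Z] (h : Z ≤ U)
    (hb : ∀ (p : ℕ) [Fact p.Prime], ∃ S, IsSylowIn p S U ∧ CTy Z (S ⊔ Z)) : CTy Z U := by
  obtain ⟨lam, hf⟩ := exists_faithful hZ
  obtain ⟨χ⟩ : Nonempty (Over h lam) := inferInstance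
  refine (cty_iff hZ h hf).2 ⟨χ, le_antisymm (χ.sq_le hZ) (Nat.le_of_dvd
    (pow_pos (irr_degree_pos _) 2) (relIndex_dvd_of_forall hZ h
      (pow_pos (irr_degree_pos _) 2).ne' fun p _ => ?_))⟩
  obtain ⟨S, hS, hc⟩ := hb p
  obtain ⟨-, a, ha, hd⟩ := sylow_cty hZ h hf hS fun x hx hp hg => hc.mem_of_isPElt hZ h hS hx hp hg
  refine ⟨S, hS, ?_⟩
  rw [ha, mul_comm, pow_mul]
  exact pow_dvd_pow_of_dvd (hd χ) 2

theorem CTy.sylow (hZ : Z ≤ center H) [IsCyclic Z] (h : Z ≤ U) (hc : CTy Z U) {p : ℕ}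
    [Fact p.Prime] {S : Subgroup H} (hS : IsSylowIn p S U) : CTy Z (S ⊔ Z) := by
  obtain ⟨lam, hf⟩ := exists_faithful hZ
  exact (sylow_cty hZ h hf hS fun x hx _ hg => hc x hx hg).1

theorem card_over_le (hZ : Z ≤ center H) {N : Subgroup H} (h : Z ≤ N) (hNU : N ≤ U)
    (hn : U ≤ 𝐍(N)) {lam : IrrCharacter Z} (hf : ∀ z : Z, lam.1 z = 1 → z = 1) (hc : CTy Z U) :
    Nat.card (Over h lam) ≤ N.relIndex U := by
  haveI : (N.subgroupOf U).Normal := (normal_subgroupOf_iff_le_normalizer hNU).2 hn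
  haveI := hc.subsingleton hZ (h.trans hNU) hf
  obtain ⟨χ⟩ : Nonempty (Over (h.trans hNU) lam) := inferInstance
  have h1 : ∀ θ : Over h lam, LiesOver (N.subgroupOf U) χ.1.1 (irrOf hNU θ.1).1 := fun θ => by
    obtain ⟨ψ, hψ⟩ := exists_irr_liesOverLe hNU θ.1
    have h2 := hψ.trans (irr_isCharacter _) (irr_isCharacter _) θ.2
    rw [liesOver_irrOf_iff, ← Subsingleton.elim ⟨ψ, h2⟩ χ]
    exact hψ
  obtain ⟨θ₀⟩ : Nonempty (Over h lam) := inferInstance
  let f : Over h lam → MulAction.orbit U (irrOf hNU θ₀.1) := fun θ =>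
    ⟨irrOf hNU θ.1, LiesOver.mem_orbit (h1 θ₀) (h1 θ)⟩
  have h3 : Function.Injective f := fun θ φ e =>
    Subtype.ext ((irrOf hNU).injective (congrArg Subtype.val e))
  refine (Nat.card_le_card_of_injective f h3).trans ?_
  rw [Nat.card_congr (MulAction.orbitEquivQuotientStabilizer U _)]
  exact Nat.le_of_dvd (Nat.pos_of_ne_zero index_ne_zero_of_finite)
    (index_dvd_of_le (le_inertia _))
end K

end GAG
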