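import Cfsg.Agent.Lib.Gag.W1
import Cfsg.Agent.Lib.FT.Api2
import Cfsg.Agent.Lib.Block.ZStar

/-!
# Abelian Sylow `2`-subgroups: the final generation argument and two classes of involutions
-/

set_option autoImplicit false
set_option linter.unusedSectionVars false

namespace GAG

open Cfsg GT FT Subgroup
open scoped Pointwise commutatorElement

variable {G : Type*} [Group G] [Finite G] {T : Subgroup G}

theorem fin [IsSimpleGroup G] (hT : IsSylowIn 2 T ⊤) (hab : T ≤ 𝐂(T)) {M : Subgroup G} {d u : G}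
    (hd : d ∈ T) (hu : u ∈ T) (hd2 : d * d = 1) (hu2 : u * u = 1) (hd1 : d ≠ 1) (hu1 : u ≠ 1)
    (hnc : ∀ n ∈ 𝐍(T), n * u * n⁻¹ ≠ d) (hCd : 𝐂[d] ≤ M)
    (hC : ∀ n ∈ 𝐍(T), 𝐂[d * (n * u * n⁻¹)] ≤ M) : M = ⊤ := by
  have key : u ∈ M.normalCore := by
    intro g
    have yy := BT.conj_mul_self_of_sq hu2 g
    set y := g * u * g⁻¹ with hy
    have h1 := BT.conj_pPart_mul_of_sq (p := 2) hd2 yy
    have h2 := commute_pPart_self 2 (d * y)
    have h3 := pPart_mul_pRegPart 2 (d * y)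
    have h4 := isPRegular_pRegPart 2 (d * y)
    have h5 := isPElt_pPart 2 (d * y)
    set w := pPart 2 (d * y)
    have hQ : IsPGroup 2 ↥(zpowers w ⊔ zpowers d) := IsPGroup.to_sup_of_normal_left'
      h5.isPGroup_zpowers (isPElt_of_pow_eq_one (k := 1) (by rwa [pow_one, pow_two])).isPGroup_zpowers
      (zpowers_le.2 (mem_normalizer_of_conj_mem fun a ha => by
        obtain ⟨n, rfl⟩ := mem_zpowers_iff.1 ha
        rw [← conj_zpow, h1]; exact zpow_mem (inv_mem (mem_zpowers w)) n))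
    have hw : w ∈ zpowers w ⊔ zpowers d := mem_sup_left (mem_zpowers w)
    have hd' : d ∈ zpowers w ⊔ zpowers d := mem_sup_right (mem_zpowers d)
    have h6 : w * d = d * w := BT.abTwo_of_sylow hT.toSylowTop
      (fun a ha b hb => (hab hb a ha)) _ hQ w hw d hd'
    have ww : w * w = 1 := by
      rw [← h6, mul_inv_cancel_right] at h1
      exact eq_inv_iff_mul_eq_one.1 h1
    obtain ⟨x, hx, hle⟩ := (hT.of_le (le_cent1_iff.2 (hab hd)) le_top).exists_conj_le hQ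
      (sup_le (zpowers_le.2 (mem_centralizer_singleton_iff.2 h6))
        (zpowers_le.2 (mem_centralizer_singleton_iff.2 rfl)))
    have h7 : IsConj y (d * w) := isConj_of_odd_orderOf_mul
      (by rw [mul_assoc, ← mul_assoc w, h6, mul_assoc, ww, mul_one, hd2]) yy (by
        rw [← h6, mul_assoc, ← h3, ← mul_assoc, ww, one_mul]
        exact Nat.not_even_iff_odd.1 fun e => h4 e.two_dvd)
    obtain ⟨c, hc⟩ := isConj_iff.1 h7
    have e : x * c * g * u * (x * c * g)⁻¹ = x * (d * w) * x⁻¹ := by rw [← hc, hy]; group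
    obtain ⟨n, hn, e'⟩ := exists_mem_normalizer_conj_eq_of_mem_centralizer hT.toSylowTop
      (g := x * c * g) (hab hu) (hab (e ▸ hle (conj_mem_conj_smul.2 (mul_mem hd' hw))))
    have h8 : d * (n * u * n⁻¹) = x * w * x⁻¹ := by
      rw [e', e, show x * (d * w) * x⁻¹ = x * d * x⁻¹ * (x * w * x⁻¹) by group, mem_cent1.1 hx, mul_inv_cancel_right,
        ← mul_assoc, hd2, one_mul]
    have h9 : x * y * x⁻¹ ∈ M := hC n hn (by
      rw [h8, ← conj_smul_centralizer_singleton, conj_mem_conj_smul,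
        show y = d * (d * y) by rw [← mul_assoc, hd2, one_mul]]
      exact mul_mem (mem_centralizer_singleton_iff.2 h6.symm)
        (mem_centralizer_singleton_iff.2 h2.symm.eq))
    simpa [mul_assoc] using mul_mem (mul_mem (inv_mem (hCd hx)) h9) (hCd hx)
  exact eq_top_iff.2 (((Normal.eq_bot_or_eq_top inferInstance).resolve_left
    (fun e => hu1 (mem_bot.1 (e ▸ key)))).ge.trans M.normalCore_le)

/-- An alternating form with values `±1` has a quadratic refinement. -/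
theorem exists_quad {A K : Subgroup G} (hc : A ≤ 𝐂(A)) (hK : K ≤ A) (hs : ∀ x ∈ A, x * x ∈ K)
    {β : G → G → ℂˣ} (h1 : ∀ x ∈ A, ∀ y ∈ A, ∀ z ∈ A, β (x * y) z = β x z * β y z)
    (h2 : ∀ x ∈ A, ∀ y ∈ A, β x y = β y x) (h3 : ∀ x ∈ A, β x x = 1)
    (h4 : ∀ k ∈ K, ∀ y ∈ A, β k y = 1) :
    ∃ q : G → ℂˣ, (∀ k ∈ K, q k = 1) ∧ ∀ x ∈ A, ∀ y ∈ A, q (x * y) = q x * q y * β x y := by
  classical
  suffices H : ∀ C : Subgroup G, K ≤ C → C ≤ A →
      (∃ q : G → ℂˣ, (∀ k ∈ K, q k = 1) ∧ ∀ x ∈ C, ∀ y ∈ C, q (x * y) = q x * q y * β x y) →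
      ∃ q : G → ℂˣ, (∀ k ∈ K, q k = 1) ∧ ∀ x ∈ A, ∀ y ∈ A, q (x * y) = q x * q y * β x y from
    H K le_rfl hK ⟨fun _ => 1, fun _ _ => rfl, fun x hx y hy => by
      rw [h4 x hx y (hK hy), one_mul, one_mul]⟩
  intro C
  induction C using WellFoundedGT.induction with
  | _ C ih =>
  rintro hKC hA' ⟨q, hq1, hq⟩
  by_cases hb : A ≤ C
  · exact ⟨q, hq1, fun x hx y hy => hq x (hb hx) y (hb hy)⟩
  obtain ⟨t, tA, htC⟩ := SetLike.not_le_iff_exists.1 hb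
  have tt := hs t tA
  have hm : ∀ x ∈ C, x * t ∉ C := fun x hx e => htC (by simpa using mul_mem (inv_mem hx) e)
  have cm : ∀ x ∈ C, t * x = x * t := fun x hx => comm_elt hc tA (hA' hx)
  let B : Subgroup G :=
    { carrier := {x | x ∈ C ∨ ∃ c ∈ C, x = c * t}
      one_mem' := Or.inl C.one_mem
      mul_mem' := by
        rintro _ _ (hx | ⟨x, hx, rfl⟩) (hy | ⟨y, hy, rfl⟩)
        · exact Or.inl (mul_mem hx hy)
        · exact Or.inr ⟨_, mul_mem hx hy, (mul_assoc _ _ _).symm⟩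
        · exact Or.inr ⟨_, mul_mem hx hy, by rw [mul_assoc, cm _ hy, mul_assoc]⟩
        · refine Or.inl ?_
          rw [mul_assoc, ← mul_assoc t, cm _ hy, mul_assoc]
          exact mul_mem hx (mul_mem hy (hKC tt))
      inv_mem' := by
        rintro _ (hx | ⟨x, hx, rfl⟩)
        · exact Or.inl (inv_mem hx)
        · refine Or.inr ⟨(x * (t * t))⁻¹, inv_mem (mul_mem hx (hKC tt)), ?_⟩
          rw [← cm _ hx, ← mul_assoc, ← cm _ hx, mul_assoc, ← cm _ hx, ← mul_assoc,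
            show (t * x)⁻¹ = (t * t * x)⁻¹ * t by group] }
  refine ih B (lt_of_le_of_ne (fun x hx => Or.inl hx) fun e => htC ?_) (fun x hx => Or.inl (hKC hx))
    ?_ ⟨fun x => if x ∈ C then q x else q (x * t⁻¹) * β (x * t⁻¹) t,
      fun k hk => by simp only [hKC hk, if_true, hq1 k hk], ?_⟩
  · rw [e]; exact Or.inr ⟨1, C.one_mem, (one_mul t).symm⟩
  · rintro _ (hx | ⟨x, hx, rfl⟩)
    exacts [hA' hx, mul_mem (hA' hx) tA]
  have hsq : ∀ x ∈ A, β x t * β x t = 1 := fun x hx => by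
    rw [← h1 x hx x hx t tA, h4 _ (hs x hx) t tA]
  rintro _ (hx | ⟨x, hx, rfl⟩) _ (hy | ⟨y, hy, rfl⟩)
  · simp only [hx, hy, mul_mem hx hy, if_true, hq _ hx _ hy]
  · rw [← mul_assoc]
    simp only [hx, hm y hy, hm _ (mul_mem hx hy), if_true, if_false, mul_inv_cancel_right,
      hq _ hx y hy]
    rw [h1 _ (hA' hx) y (hA' hy) t tA, h2 _ (hA' hx) _ (mul_mem (hA' hy) tA),
      h1 y (hA' hy) t tA _ (hA' hx), h2 y (hA' hy) _ (hA' hx), h2 t tA _ (hA' hx)]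
    simp only [mul_comm, mul_left_comm, mul_assoc]
  · rw [mul_assoc, cm _ hy, ← mul_assoc]
    simp only [hy, hm x hx, hm _ (mul_mem hx hy), if_true, if_false, mul_inv_cancel_right,
      hq x hx _ hy]
    rw [h1 x (hA' hx) _ (hA' hy) t tA, h1 x (hA' hx) t tA _ (hA' hy), h2 t tA _ (hA' hy)]
    simp only [mul_comm, mul_left_comm, mul_assoc]
  · rw [show x * t * (y * t) = x * y * (t * t) by
      rw [mul_assoc, ← mul_assoc t, cm _ hy, mul_assoc, mul_assoc]]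
    simp only [hm y hy, hm x hx, mul_mem (mul_mem hx hy) (hKC tt), if_true, if_false,
      mul_inv_cancel_right, hq _ (mul_mem hx hy) _ (hKC tt), hq x hx y hy, hq1 _ tt]
    have hy' := mul_mem (hA' hy) tA
    rw [h2 _ (hA' (mul_mem hx hy)) _ (hK tt), h4 _ tt _ (hA' (mul_mem hx hy)),
      h1 x (hA' hx) t tA _ hy', h2 x (hA' hx) _ hy', h2 t tA _ hy', h1 y (hA' hy) t tA x (hA' hx),
      h1 y (hA' hy) t tA t tA, h3 t tA, h2 y (hA' hy) x (hA' hx), h2 t tA x (hA' hx)]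
    calc _ = q x * q y * β x y * (β x t * β x t) * (β y t * β y t) := by
          rw [hsq x (hA' hx), hsq y (hA' hy)]
      _ = _ := by simp only [mul_comm, mul_left_comm, mul_assoc, mul_one]

theorem two_classes (hT : IsSylowIn 2 T ⊤) (hab : T ≤ 𝐂(T)) {ω : G → G → ℂˣ} (hs : Symp T ω)
    (h8 : 8 ∣ Nat.card (omegaOne 2 T)) : ∃ d ∈ T, ∃ u ∈ T, d * d = 1 ∧ u * u = 1 ∧ d ≠ 1 ∧ u ≠ 1 ∧
      ∀ n ∈ 𝐍(T), n * u * n⁻¹ ≠ d := by
  classical
  by_contra hcon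
  have tr : ∀ d ∈ T, ∀ u ∈ T, d * d = 1 → u * u = 1 → d ≠ 1 → u ≠ 1 →
      ∃ n ∈ 𝐍(T), n * u * n⁻¹ = d := fun d hd u hu h1 h2 h3 h4 => by
    by_contra h
    exact hcon ⟨d, hd, u, hu, h1, h2, h3, h4, fun n hn e => h ⟨n, hn, e⟩⟩
  haveI : IsMulCommutative T := ⟨⟨fun a b => Subtype.ext (comm_elt hab a.2 b.2)⟩⟩
  have big : ∀ s : Finset G, s.card < 8 → ∃ c ∈ T, c * c = 1 ∧ c ∉ s := fun s hs => by
    by_contra h
    have h1 : (omegaOne 2 T : Set G) ⊆ s := fun c hc => by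
      rw [omegaOne_eq_powKer, SetLike.mem_coe, mem_powKer, pow_two] at hc
      by_contra h'
      exact h ⟨c, hc.1, hc.2, h'⟩
    have h2 := Set.ncard_le_ncard h1
    rw [Set.ncard_coe_finset, ← Nat.card_coe_set_eq] at h2
    exact absurd ((Nat.le_of_dvd Nat.card_pos h8).trans h2) (not_le.2 hs)
  obtain ⟨a, ha, aa, ha'⟩ := big {1} (by simp)
  obtain ⟨b, hb, bb, hb'⟩ := big {1, a} (Finset.card_le_two.trans_lt (by norm_num))
  obtain ⟨c, hc, cc, hc'⟩ := big {1, a, b, a * b} (Finset.card_le_four.trans_lt (by norm_num))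
  simp only [Finset.mem_insert, Finset.mem_singleton, not_or] at ha' hb' hc'
  have hex : ∃ k : ℕ, ∀ x ∈ T, x ^ 2 ^ k = 1 := by
    obtain ⟨k, hk⟩ := IsPGroup.iff_card.1 hT.isPGroup
    exact ⟨k, fun x hx => by rw [← hk]; exact congrArg Subtype.val (pow_card_eq_one' (x := (⟨x, hx⟩ : T)))⟩
  obtain ⟨m, hm⟩ : ∃ m, Nat.find hex = m + 1 := Nat.exists_eq_succ_of_ne_zero fun e => ha' (by
    have := Nat.find_spec hex a ha
    rwa [e, pow_zero, pow_one] at this)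
  have hsq : ∀ x ∈ T, x ^ 2 ^ m * x ^ 2 ^ m = 1 := fun x hx => by
    rw [← pow_add, ← mul_two, ← pow_succ, ← hm]; exact Nat.find_spec hex x hx
  obtain ⟨x0, hx0, hx0'⟩ : ∃ x ∈ T, x ^ 2 ^ m ≠ 1 := by
    by_contra h
    exact Nat.find_min hex (m := m) (by omega) fun x hx => by
      by_contra h'; exact h ⟨x, hx, h'⟩
  generalize 2 ^ m = e at hsq hx0'
  have mp : ∀ x ∈ T, ∀ y ∈ T, (x * y) ^ e = x ^ e * y ^ e := fun x hx y hy =>
    Commute.mul_pow (comm_elt hab hx hy) e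
  have cT : ∀ n ∈ 𝐍(T), ∀ x ∈ T, n * x * n⁻¹ ∈ T := fun n hn x hx =>
    conj_mem_of_mem_normalizer hn hx
  have surj : ∀ d ∈ T, d * d = 1 → d ≠ 1 → ∃ x ∈ T, x ^ e = d := fun d hd h1 h2 => by
    obtain ⟨n, hn, h⟩ := tr d hd _ (pow_mem hx0 e) h1 (hsq x0 hx0) h2 hx0'
    exact ⟨_, cT n hn x0 hx0, by rw [conj_pow, h]⟩
  set β : G → G → ℂˣ := fun x y => ω (x ^ e) y with hβ
  have b1 : ∀ x ∈ T, ∀ y ∈ T, ∀ z ∈ T, β (x * y) z = β x z * β y z := fun x hx y hy z hz => by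
    simp only [hβ, mp x hx y hy, hs.mul_left _ (pow_mem hx e) _ (pow_mem hy e) z hz]
  have bsq : ∀ x ∈ T, ∀ y ∈ T, β x y * β x y = 1 := fun x hx y hy => by
    simp only [hβ]
    rw [← hs.mul_left _ (pow_mem hx e) _ (pow_mem hx e) y hy, hsq x hx, hs.one_left hy]
  have b2 : ∀ x ∈ T, ∀ y ∈ T, β x y = β y x := fun x hx y hy => by
    rw [eq_inv_of_mul_eq_one_left (bsq x hx y hy)]
    simp only [hβ]
    rw [hs.pow_left hx hy, hs.pow_left hy hx, hs.swap hx hy, inv_pow]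
  have b3 : ∀ x ∈ T, β x x = 1 := fun x hx => by
    simp only [hβ]
    rw [hs.pow_left hx hx, hs.self x hx, one_pow]
  have b4 : ∀ k ∈ powKer T e, ∀ y ∈ T, β k y = 1 := fun k hk y hy => by
    simp only [hβ]
    rw [(mem_powKer.1 hk).2, hs.one_left hy]
  have b5 : ∀ n ∈ 𝐍(T), ∀ x ∈ T, ∀ y ∈ T, β (n * x * n⁻¹) (n * y * n⁻¹) = β x y :=
    fun n hn x hx y hy => by
      simp only [hβ]
      rw [conj_pow, hs.conj n hn _ (pow_mem hx e) y hy]
  obtain ⟨q, hq1, hq⟩ := exists_quad hab (powKer_le T e) (fun x hx => mem_powKer.2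
    ⟨mul_mem hx hx, by rw [mp x hx x hx, hsq x hx]⟩) b1 b2 b3 b4
  obtain ⟨E, hE, hTE, hE2⟩ := exists_compl_norm (hT.of_le le_normalizer le_top) le_rfl
  haveI := Fintype.ofFinite E
  set Q : G → ℂˣ := fun x => ∏ g : E, q (g * x * (g : G)⁻¹) with hQ
  have Q1 : ∀ x ∈ T, ∀ y ∈ T, Q (x * y) = Q x * Q y * β x y := fun x hx y hy => by
    simp only [hQ]
    rw [Finset.prod_congr rfl fun (g : E) _ => (by
      rw [← conj_mul, hq _ (cT _ (hE g.2) x hx) _ (cT _ (hE g.2) y hy), b5 _ (hE g.2) x hx y hy] :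
        q (g * (x * y) * (g : G)⁻¹) = q (g * x * (g : G)⁻¹) * q (g * y * (g : G)⁻¹) * β x y),
      Finset.prod_mul_distrib, Finset.prod_mul_distrib, Finset.prod_const, Finset.card_univ,
      ← Nat.card_eq_fintype_card]
    obtain ⟨k, hk⟩ := Nat.not_even_iff_odd.1 fun h => hE2 h.two_dvd
    rw [hk, pow_succ, pow_mul, pow_two, bsq x hx y hy, one_pow, one_mul]
  have Q2 : ∀ k ∈ powKer T e, Q k = 1 := fun k hk => Finset.prod_eq_one fun g _ =>
    hq1 _ (conj_mem_of_mem_normalizer (normalizer_le_normalizer_powKer T e (hE g.2)) hk)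
  have Q3 : ∀ n ∈ 𝐍(T), ∀ x ∈ T, Q (n * x * n⁻¹) = Q x := fun n hn x hx => by
    rw [← hTE] at hn
    obtain ⟨t, ht, g, hg, rfl⟩ := (mem_sup_of_le_normalizer_left hE).1 hn
    rw [show t * g * x * (t * g)⁻¹ = t * (g * x * g⁻¹) * t⁻¹ by group,
      comm_elt hab ht (cT g (hE hg) x hx), mul_inv_cancel_right]
    simp only [hQ]
    refine Fintype.prod_equiv (Equiv.mulRight (⟨g, hg⟩ : E)) _ _ fun h => ?_
    simp only [Equiv.coe_mulRight, coe_mul, mul_inv_rev, mul_assoc]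
  have Q4 : ∀ x ∈ T, x ^ e ≠ 1 → Q x = Q x0 := fun x hx h => by
    obtain ⟨n, hn, h1⟩ := tr _ (pow_mem hx e) _ (pow_mem hx0 e) (hsq x hx) (hsq x0 hx0) h hx0'
    have h2 := cT n hn x0 hx0
    have h3 : x⁻¹ * (n * x0 * n⁻¹) ∈ powKer T e := mem_powKer.2 ⟨mul_mem (inv_mem hx) h2, by
      rw [mp _ (inv_mem hx) _ h2, conj_pow, h1, inv_pow, inv_mul_cancel]⟩
    rw [← Q3 n hn x0 hx0, ← mul_inv_cancel_left x (n * x0 * n⁻¹), Q1 x hx _ (powKer_le T e h3),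
      Q2 _ h3, b2 x hx _ (powKer_le T e h3), b4 _ h3 x hx, mul_one, mul_one]
  have Q5 : ∀ x ∈ T, ∀ y ∈ T, x ^ e ≠ 1 → y ^ e ≠ 1 → (x * y) ^ e ≠ 1 → Q x0 * β y x = 1 :=
    fun x hx y hy h1 h2 h3 => by
      have := Q1 x hx y hy
      rw [Q4 x hx h1, Q4 y hy h2, Q4 _ (mul_mem hx hy) h3, mul_assoc, b2 x hx y hy] at this
      exact left_eq_mul.1 this
  have ne : ∀ u v : G, u * u = 1 → v ≠ u → u * v ≠ 1 := fun u v h1 h2 h3 =>
    h2 (mul_left_cancel (h3.trans h1.symm))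
  obtain ⟨x, hx, ex⟩ := surj a ha aa ha'
  obtain ⟨y, hy, ey⟩ := surj b hb bb hb'.1
  obtain ⟨z, hz, ez⟩ := surj c hc cc hc'.1
  have e1 := Q5 x hx y hy (ex ▸ ha') (ey ▸ hb'.1) (by rw [mp x hx y hy, ex, ey]; exact ne _ _ aa hb'.2)
  have e2 := Q5 x hx z hz (ex ▸ ha') (ez ▸ hc'.1) (by rw [mp x hx z hz, ex, ez]; exact ne _ _ aa hc'.2.1)
  have e3 := Q5 x hx _ (mul_mem hy hz) (ex ▸ ha')
    (by rw [mp y hy z hz, ey, ez]; exact ne _ _ bb hc'.2.2.1) (by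
      rw [mp x hx _ (mul_mem hy hz), mp y hy z hz, ex, ey, ez, ← mul_assoc]
      refine ne _ _ ?_ hc'.2.2.2
      rw [mul_assoc, ← mul_assoc b, comm_elt hab hb ha, mul_assoc, bb, mul_one, aa])
  rw [b1 y hy z hz x hx, ← mul_assoc, e1, one_mul] at e3
  rw [e3, mul_one] at e2
  refine hx0' (hs.nondeg _ (pow_mem hx0 e) fun w hw => ?_)
  change β x0 w = 1
  by_cases h1 : w ^ e = 1
  · rw [b2 x0 hx0 w hw, b4 w (mem_powKer.2 ⟨hw, h1⟩) x0 hx0]
  by_cases h2 : (w * x0) ^ e = 1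
  · have := b4 _ (mem_powKer.2 ⟨mul_mem hw hx0, h2⟩) w hw
    rwa [b1 w hw x0 hx0 w hw, b3 w hw, one_mul] at this
  · have := Q5 w hw x0 hx0 h1 hx0' h2
    rwa [e2, one_mul] at this

end GAG
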