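import Cfsg.Agent.Lib.Gag.W1
import Cfsg.Agent.Lib.FT.Pf.BG1a
import Cfsg.Agent.Lib.FT.Pf.BG3c
import Cfsg.Agent.Lib.FT.Lib15
import Cfsg.Agent.Lib.FT.LibE

/-!
# Fixed points of a noncyclic elementary abelian `2`-group on `[X, A]`
-/

set_option autoImplicit false
set_option linter.unusedSectionVars false

namespace GAG

open Cfsg GT FT Subgroup
open scoped Pointwise commutatorElement

universe u

section
variable {G : Type*} [Group G] [Finite G] {A X R : Subgroup G}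

theorem elem_le_cent (hA : IsElementaryAbelian 2 A) : A ≤ 𝐂(A) := fun a ha b hb =>
  congrArg Subtype.val (hA.1.is_comm.comm ⟨b, hb⟩ ⟨a, ha⟩)

theorem star_act (hA : IsElementaryAbelian 2 A) (ho : ¬ 2 ∣ Nat.card X) {N : Subgroup G}
    (hN : N ≤ X) (hn : A ≤ 𝐍(N)) : CoprimeAct A N :=
  coprimeAct_of_isPGroup_left hn (elem_isPGroup hA) (not_dvd_card_of_le ho hN)

theorem le_norm_inf_cent1 {H : Subgroup G} (hn : H ≤ 𝐍(X)) {b : G} (hb : H ≤ 𝐂[b]) :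
    H ≤ 𝐍(X ⊓ 𝐂[b]) := le_normalizer_inf hn (hb.trans le_normalizer)

/-- `[X, A]` is generated by the subgroups `[C_X(b), A]`. -/
theorem commutator_le_of_forall (hA : IsElementaryAbelian 2 A) (hnc : ¬ IsCyclic A) (hn : A ≤ 𝐍(X))
    (ho : ¬ 2 ∣ Nat.card X) {W : Subgroup G} (hW : ∀ b ∈ A, b ≠ 1 → ⁅X ⊓ 𝐂[b], A⁆ ≤ W) :
    ⁅X, A⁆ ≤ W := by
  haveI := hA.1
  let Y : {b : G // b ∈ A ∧ b ≠ 1} → Subgroup G := fun b => ⁅X ⊓ 𝐂[b.1], A⁆
  have nA : A ≤ 𝐍(⨆ b, Y b) := fun a ha => P3.mem_norm_iSup fun b =>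
    conj_le_of_mem_norm le_rfl (le_norm_commutator_right _ _ ha) |>.trans (le_iSup Y b)
  have nC : X ⊓ 𝐂(A) ≤ 𝐍(⨆ b, Y b) := fun c hc => P3.mem_norm_iSup fun b =>
    conj_le_of_mem_norm le_rfl (le_norm_commutator_left _ _
      (mem_inf.2 ⟨hc.1, mem_cent1.2 (hc.2 b.1 b.2.1).symm⟩)) |>.trans (le_iSup Y b)
  have h1 : X ≤ (⨆ b, Y b) ⊔ (X ⊓ 𝐂(A)) :=
    le_of_forall_centralizer_le hn (star_act hA ho le_rfl hn).cop hnc fun b hb hb1 => by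
      rw [← (star_act hA ho inf_le_left (le_norm_inf_cent1 hn
        (le_cent1_iff.2 (elem_le_cent hA hb)))).commutator_sup_inf_centralizer]
      exact sup_le_sup (le_iSup Y ⟨b, hb, hb1⟩) (inf_le_inf_right _ inf_le_left)
  refine le_trans (commutator_le.2 fun x hx a ha => ?_) (iSup_le fun b => hW b.1 b.2.1 b.2.2 :
    (⨆ b, Y b) ≤ W)
  obtain ⟨w, hw, c, hc, rfl⟩ := (mem_sup_of_le_normalizer_left nC).1 (h1 hx)
  rw [show ⁅w * c, a⁆ = w * ((c * a) * c⁻¹ * w⁻¹ * a⁻¹) by simp only [commutatorElement_def]; group,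
    ← hc.2 a ha, mul_inv_cancel_right]
  exact mul_mem hw (conj_mem_of_mem_normalizer (nA ha) (inv_mem hw))

/-- The action on an abelian normal subgroup. -/
theorem star_abelian (hA : IsElementaryAbelian 2 A) (hnc : ¬ IsCyclic A) (hn : A ≤ 𝐍(X))
    (ho : ¬ 2 ∣ Nat.card X) (hR : ∀ b ∈ A, b ≠ 1 → ⁅X ⊓ 𝐂[b], A⁆ ⊓ 𝐂(A) ≤ R) (hRA : R ≤ 𝐂(A))
    {N : Subgroup G} (hN : N ≤ X) (hXN : X ≤ 𝐍(N)) (hAN : A ≤ 𝐍(N)) (hc : N ≤ 𝐂(N)) :
    ⁅⁅X, A⁆, N⁆ ⊓ 𝐂(A) ≤ R := by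
  haveI : IsMulCommutative N := ⟨⟨fun a b => Subtype.ext (comm_elt hc a.2 b.2)⟩⟩
  have aN := star_act hA ho hN hAN
  set N0 : Subgroup G := (N ⊓ R) ⊔ ⁅N, A⁆ with hN0
  let W : Subgroup G :=
    { carrier := {x | x ∈ 𝐍(N) ∧ ∀ n ∈ N, x * n * x⁻¹ * n⁻¹ ∈ N0}
      one_mem' := ⟨one_mem _, fun n _ => by simp⟩
      mul_mem' := fun {x y} hx hy => ⟨mul_mem hx.1 hy.1, fun n hn => by
        have := mul_mem (hx.2 _ (conj_mem_of_mem_normalizer hy.1 hn)) (hy.2 n hn)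
        rwa [show x * (y * n * y⁻¹) * x⁻¹ * (y * n * y⁻¹)⁻¹ * (y * n * y⁻¹ * n⁻¹) =
          x * y * n * (x * y)⁻¹ * n⁻¹ by group] at this⟩
      inv_mem' := fun {x} hx => ⟨inv_mem hx.1, fun n hn => by
        have := inv_mem (hx.2 _ (conj_mem_of_mem_normalizer (inv_mem hx.1) hn))
        rwa [show (x * (x⁻¹ * n * x⁻¹⁻¹) * x⁻¹ * (x⁻¹ * n * x⁻¹⁻¹)⁻¹)⁻¹ =
          x⁻¹ * n * x⁻¹⁻¹ * n⁻¹ by group] at this⟩ }
  have hW : ⁅X, A⁆ ≤ W := commutator_le_of_forall hA hnc hn ho fun b hb hb1 y hy => by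
    have hAb : A ≤ 𝐂[b] := le_cent1_iff.2 (elem_le_cent hA hb)
    have nXb := le_norm_inf_cent1 hn hAb
    have hyX : y ∈ X ⊓ 𝐂[b] := commutator_le_left_of_norm nXb hy
    refine ⟨hXN hyX.1, fun n hn' => ?_⟩
    obtain ⟨n1, h1, n2, h2, rfl⟩ :=
      (aN.of_le_left (zpowers_le.2 hb)).exists_commutator_mul_centralizer hn'
    rw [cent_zpowers] at h2
    have h1' : n1 ∈ N := commutator_le_left_of_norm ((zpowers_le.2 hb).trans hAN) h1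
    have e2 : y * n2 * y⁻¹ * n2⁻¹ ∈ N :=
      mul_mem (conj_mem_of_mem_normalizer (hXN hyX.1) h2.1) (inv_mem h2.1)
    rw [show y * (n1 * n2) * y⁻¹ * (n1 * n2)⁻¹ =
      y * n1 * y⁻¹ * n1⁻¹ * (n1 * (y * n2 * y⁻¹ * n2⁻¹) * n1⁻¹) by group, comm_elt hc h1' e2,
      mul_inv_cancel_right]
    refine mul_mem (mem_sup_right (commutator_mono le_rfl (zpowers_le.2 hb) (mul_mem
      (conj_mem_of_mem_normalizer (le_normalizer_commutator (A := zpowers y)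
        (zpowers_le.2 (hXN hyX.1)) (le_normalizer_of_le_centralizer ?_) (mem_zpowers y)) h1)
      (inv_mem h1)))) ?_
    · rw [cent_zpowers]; exact zpowers_le.2 hyX.2
    have e3 : y * n2 * y⁻¹ * n2⁻¹ ∈ ⁅X ⊓ 𝐂[b], A⁆ := by
      rw [mul_assoc y, mul_assoc y]
      exact mul_mem hy (conj_mem_of_mem_normalizer (le_norm_commutator_left _ _ ⟨hN h2.1, h2.2⟩)
        (inv_mem hy))
    have e4 : N ⊓ ⁅X ⊓ 𝐂[b], A⁆ ≤ N0 := by
      rw [← (aN.inf_right (le_norm_commutator_right _ _)).inf_centralizer_sup_commutator]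
      exact sup_le_sup (fun z hz => ⟨hz.1.1, hR b hb hb1 ⟨hz.1.2, hz.2⟩⟩)
        (commutator_mono inf_le_left le_rfl)
    exact e4 ⟨e2, e3⟩
  have h1 : ⁅⁅X, A⁆, N⁆ ≤ N0 := commutator_le.2 fun x hx n hn => (hW hx).2 n hn
  refine (inf_le_inf_right _ h1).trans ?_
  rw [hN0, sup_inf_assoc_of_le_normalizer (inf_le_right.trans hRA)
    (Or.inl (inf_le_left.trans (le_norm_commutator_left _ _))), aN.disjoint_commutator_centralizer.eq_bot,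
    sup_bot_eq]
  exact inf_le_right

end

theorem star_aux (n : ℕ) : ∀ {G : Type u} [Group G] [Finite G] {A X R : Subgroup G},
    Nat.card X = n → IsElementaryAbelian 2 A → ¬ IsCyclic A → A ≤ 𝐍(X) → ¬ 2 ∣ Nat.card X →
    (∀ b ∈ A, b ≠ 1 → ⁅X ⊓ 𝐂[b], A⁆ ⊓ 𝐂(A) ≤ R) → ⁅X, A⁆ ⊓ 𝐂(A) ≤ R := by
  induction n using Nat.strong_induction_on with
  | _ n ih =>
  intro G _ _ A X R hcard hA hnc hn ho hR
  subst hcard
  have aX := star_act hA ho le_rfl hn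
  by_cases hX : ⁅X, A⁆ ≠ X
  · rw [← aX.commutator_commutator_eq]
    exact ih _ (card_lt_of_lt (lt_of_le_of_ne aX.commutator_le hX)) rfl hA hnc aX.commutator.norm
      (not_dvd_card_of_le ho aX.commutator_le) fun b hb hb1 => le_trans (inf_le_inf_right _
        (commutator_mono (inf_le_inf_right _ aX.commutator_le) le_rfl)) (hR b hb hb1)
  rw [not_ne_iff] at hX
  rw [hX]
  have hAb : ∀ b ∈ A, A ≤ 𝐂[b] := fun b hb => le_cent1_iff.2 (elem_le_cent hA hb)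
  have aXb : ∀ b ∈ A, CoprimeAct A (X ⊓ 𝐂[b]) := fun b hb =>
    star_act hA ho inf_le_left (le_norm_inf_cent1 hn (hAb b hb))
  obtain ⟨S, SR, SX, SA, hRS⟩ : ∃ S : Subgroup G, S ≤ R ∧ S ≤ X ∧ S ≤ 𝐂(A) ∧
      ∀ b ∈ A, b ≠ 1 → ⁅X ⊓ 𝐂[b], A⁆ ⊓ 𝐂(A) ≤ S :=
    ⟨R ⊓ (X ⊓ 𝐂(A)), inf_le_left, inf_le_right.trans inf_le_left, inf_le_right.trans inf_le_right,
      fun b hb hb1 => le_inf (hR b hb hb1)
        (inf_le_inf_right _ ((aXb b hb).commutator_le.trans inf_le_left))⟩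
  refine le_trans ?_ SR
  by_contra hcon
  have Q : ∀ N : Subgroup G, N ≠ ⊥ → N ≤ X → X ≤ 𝐍(N) → A ≤ 𝐍(N) → X ⊓ 𝐂(A) ≤ S ⊔ N :=
    fun N h1 h2 h3 h4 => by
      haveI := subgroupOf_normal (sup_le h3 h4 : X ⊔ A ≤ 𝐍(N))
      have hXM : X ≤ X ⊔ A := le_sup_left
      have hAM : A ≤ X ⊔ A := le_sup_right
      have hd : Disjoint N A := aX.disjoint.mono_left h2
      have := ih (Nat.card (qim (X ⊔ A) N X)) (by
          rw [card_qim hXM, ← relIndex_bot_left]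
          exact lt_of_le_of_ne (Nat.le_of_dvd (relIndex_pos _ _)
            (relIndex_dvd_of_le_left X bot_le)) fun e => h1 (by
              have := relIndex_mul_relIndex ⊥ N X bot_le h2
              rw [e, relIndex_bot_left, relIndex_bot_left] at this
              exact card_eq_one.1 ((Nat.mul_eq_right Nat.card_pos.ne').1 this)))
        (R := qim (X ⊔ A) N S) rfl (elem_qim hA)
        (fun h => hnc (isCyclic_of_surjective _ (qimEquiv hAM hd).symm.surjective))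
        (qim_le_norm hn) (fun h => ho (h.trans (card_qim_dvd hXM))) fun b hb hb1 => by
          obtain ⟨a, ha, rfl⟩ := mem_qim.1 hb
          rw [qim_inf_cent1 aX ha, ← qim_commutator (inf_le_left.trans hXM) hAM,
            ← qim_inf_cent (aXb a ha).commutator hAM]
          exact qim_mono (hRS a ha fun e => hb1 (by rw [show a = 1 from Subtype.ext e, map_one]))
      rwa [← qim_commutator hXM hAM, hX, ← qim_inf_cent aX hAM,
        qim_le_qim_iff (h2.trans hXM) (inf_le_left.trans hXM) (SX.trans hXM)] at this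
  have Q' : ∀ N : Subgroup G, N ≤ X → X ≤ 𝐍(N) → A ≤ 𝐍(N) → N ⊓ 𝐂(A) ≤ S → N = ⊥ :=
    fun N h2 h3 h4 h5 => by
      by_contra h1
      refine hcon fun c hc => ?_
      obtain ⟨s, hs, z, hz, rfl⟩ := (mem_sup_of_le_normalizer_right (SX.trans h3)).1 (Q N h1 h2 h3 h4 hc)
      exact mul_mem hs (h5 ⟨hz, by simpa using mul_mem (inv_mem (SA hs)) hc.2⟩)
  have ab : ∀ N : Subgroup G, N ≤ X → X ≤ 𝐍(N) → A ≤ 𝐍(N) → N ≤ 𝐂(N) → N ≤ 𝐂(X) :=
    fun N h2 h3 h4 h5 => by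
      have := star_abelian hA hnc hn ho hRS SA h2 h3 h4 h5
      rw [hX] at this
      exact le_centralizer_iff.1 (le_cent_of_commutator_le (Q' _
        ((commutator_le_right_of_norm h3).trans h2) (le_norm_commutator_left _ _)
        (le_normalizer_commutator hn h4) this).le)
  have cn : ∀ N : Subgroup G, N ≤ X ⊓ 𝐂(X) → X ≤ 𝐍(N) := fun N h =>
    le_normalizer_of_le_centralizer (le_centralizer_iff.1 (h.trans inf_le_right))
  have nZ : A ≤ 𝐍(X ⊓ 𝐂(X)) := le_norm_inf_cent hn hn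
  have aZ := aX.of_le inf_le_left nZ
  have ZA : X ⊓ 𝐂(X) ≤ 𝐂(A) := by
    haveI : IsMulCommutative ↥(X ⊓ 𝐂(X)) := ⟨⟨fun a b => Subtype.ext (b.2.2 a a.2.1)⟩⟩
    exact le_cent_of_commutator_le (Q' _ (aZ.commutator_le.trans inf_le_left) (cn _ aZ.commutator_le)
      aZ.commutator.norm (aZ.disjoint_commutator_centralizer.eq_bot.le.trans bot_le)).le
  have ZS : X ⊓ 𝐂(X) ⊓ S = ⊥ := Q' _ (inf_le_left.trans inf_le_left) (cn _ inf_le_left)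
    (le_normalizer_of_le_centralizer (le_centralizer_iff.1 (inf_le_left.trans ZA)))
    (inf_le_left.trans inf_le_right)
  have hXX : ¬ X ≤ 𝐂(X) := fun h => hcon (by
    rw [← hX, commutator_eq_bot_of_le_cent ((le_inf le_rfl h).trans ZA), bot_inf_eq]; exact bot_le)
  obtain ⟨L, ⟨L1, L2, L3, L4⟩, hmin⟩ := (wellFounded_lt (α := Subgroup G)).has_min
    {L | L ≤ X ∧ X ≤ 𝐍(L) ∧ A ≤ 𝐍(L) ∧ ¬ L ≤ 𝐂(X)} ⟨X, le_rfl, le_normalizer, hn, hXX⟩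
  haveI := odd_solv (not_dvd_card_of_le ho L1)
  have LZ : ⁅L, L⁆ ≤ X ⊓ 𝐂(X) := le_inf ((der_le L).trans L1) (by
    by_contra h
    exact hmin _ ⟨(der_le L).trans L1, le_normalizer_commutator L2 L2, le_normalizer_commutator L3 L3, h⟩
      (der_lt_of_solvable fun e => L4 (e ▸ bot_le)))
  have aL := aX.of_le L1 L3
  obtain ⟨b, hb, hb1, l, hl, l', hl', hne⟩ : ∃ b ∈ A, b ≠ 1 ∧ ∃ l ∈ L ⊓ 𝐂[b], ∃ l' ∈ L ⊓ 𝐂[b],
      ⁅l, l'⁆ ≠ 1 := by
    by_contra h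
    haveI := hA.1
    refine L4 (ab L L1 L2 L3 (le_of_forall_centralizer_le L3 aL.cop hnc fun b hb hb1 => ?_))
    rw [le_centralizer_iff]
    refine (aL.of_le_left (zpowers_le.2 hb)).commutator_sup_inf_centralizer.ge.trans
      (sup_le (commutator_le_centralizer_of_rotate ?_ ?_) fun l hl l' hl' => ?_)
    · rw [commutator_eq_bot_of_le_cent (le_centralizer_iff.1 (by rw [cent_zpowers]; exact inf_le_right))]
      exact bot_le
    · exact (commutator_mono inf_le_left le_rfl).trans (LZ.trans (ZA.trans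
        (centralizer_le (zpowers_le.2 hb))))
    · by_contra e
      rw [cent_zpowers] at hl
      exact h ⟨b, hb, hb1, l', hl', l, hl, fun e' => e (commutatorElement_eq_one_iff_mul_comm.1 e')⟩
  have wZ : ⁅l, l'⁆ ∈ X ⊓ 𝐂(X) := LZ (commutator_mem_commutator hl.1 hl'.1)
  have CZ := Q _ (fun e => hne (mem_bot.1 (e ▸ wZ))) inf_le_left (cn _ le_rfl) nZ
  obtain ⟨y, hy, c, hc, rfl⟩ := (aXb b hb).exists_commutator_mul_centralizer ⟨L1 hl.1, hl.2⟩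
  obtain ⟨y', hy', c', hc', rfl⟩ := (aXb b hb).exists_commutator_mul_centralizer ⟨L1 hl'.1, hl'.2⟩
  have cS : ⁅c, c'⁆ ∈ S := by
    obtain ⟨s, hs, z, hz, rfl⟩ := (mem_sup_of_le_normalizer_right (SX.trans (cn _ le_rfl))).1
      (CZ ⟨hc.1.1, hc.2⟩)
    obtain ⟨s', hs', z', hz', rfl⟩ := (mem_sup_of_le_normalizer_right (SX.trans (cn _ le_rfl))).1
      (CZ ⟨hc'.1.1, hc'.2⟩)
    rw [show ⁅s * z, s' * z'⁆ = s * (z * (s' * z') * z⁻¹) * s⁻¹ * (s' * z')⁻¹ by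
        simp only [commutatorElement_def]; group, ← hz.2 _ hc'.1.1, mul_inv_cancel_right,
      show s * (s' * z') * s⁻¹ * (s' * z')⁻¹ = s * s' * (z' * s⁻¹ * z'⁻¹) * s'⁻¹ by group,
      ← hz'.2 _ (SX (inv_mem hs)), mul_inv_cancel_right]
    exact mul_mem (mul_mem (mul_mem hs hs') (inv_mem hs)) (inv_mem hs')
  have nY := le_norm_commutator_left (X ⊓ 𝐂[b]) A
  have cc : ⁅c, c'⁆ ∈ (X ⊓ 𝐂[b]) ⊓ 𝐂(A) :=
    mul_mem (mul_mem (mul_mem hc hc') (inv_mem hc)) (inv_mem hc')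
  have h1 : ⁅y * c, y' * c'⁆ * ⁅c, c'⁆⁻¹ ∈ ⁅X ⊓ 𝐂[b], A⁆ := by
    rw [show ⁅y * c, y' * c'⁆ * ⁅c, c'⁆⁻¹ = y * (c * y' * c⁻¹) *
      ((c * c' * c⁻¹) * y⁻¹ * (c * c' * c⁻¹)⁻¹) * (⁅c, c'⁆ * y'⁻¹ * ⁅c, c'⁆⁻¹) by
        simp only [commutatorElement_def]; group]
    exact mul_mem (mul_mem (mul_mem hy (conj_mem_of_mem_normalizer (nY hc.1) hy'))
      (conj_mem_of_mem_normalizer (nY (mul_mem (mul_mem hc.1 hc'.1) (inv_mem hc.1))) (inv_mem hy)))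
      (conj_mem_of_mem_normalizer (nY cc.1) (inv_mem hy'))
  have h2 := mul_mem (hRS b hb hb1 (mem_inf.2 ⟨h1, mul_mem (ZA wZ) (inv_mem cc.2)⟩)) cS
  rw [inv_mul_cancel_right] at h2
  exact hne (mem_bot.1 (ZS ▸ mem_inf.2 ⟨wZ, h2⟩))

variable {G : Type*} [Group G] [Finite G]

theorem star {A X R : Subgroup G} (hA : IsElementaryAbelian 2 A) (hnc : ¬ IsCyclic A)
    (hn : A ≤ 𝐍(X)) (ho : ¬ 2 ∣ Nat.card X)
    (hR : ∀ b ∈ A, b ≠ 1 → ⁅X ⊓ 𝐂[b], A⁆ ⊓ 𝐂(A) ≤ R) : ⁅X, A⁆ ⊓ 𝐂(A) ≤ R :=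
  star_aux _ rfl hA hnc hn ho hR

end GAG
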