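import Cfsg.Agent.Lib.Gag.W1

/-!
# Components of centralizers of involutions modulo cores
-/

set_option autoImplicit false
set_option linter.unusedSectionVars false

namespace GAG

open Cfsg GT FT Subgroup
open scoped Pointwise commutatorElement

universe u

variable {G : Type u} [Group G]

/-- `O(C(c))` -/
abbrev X (c : G) : Subgroup G := Op' 2 𝐂[c]

/-- image in `C(c) / O(C(c))` -/
abbrev im (c : G) (H : Subgroup G) : Subgroup (Quo 𝐂[c] (X c)) := qim 𝐂[c] (X c) H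

/-- `K / O(C(c))` is a component of `C(c) / O(C(c))` -/
structure Comp (c : G) (K : Subgroup G) : Prop where
  le : X c ≤ K
  le_cent : K ≤ 𝐂[c]
  ns : ¬ Group.IsSolvable K
  simple : ∀ N : Subgroup G, X c ≤ N → N ≤ K → K ≤ 𝐍(N) → N = X c ∨ N = K
  norm : ∀ g ∈ 𝐂[c], IsPElt 2 g → g ∈ 𝐍(K)

/-- the centralizer of `K` modulo the core -/
def cen (c : G) (K : Subgroup G) : Subgroup G := qpre 𝐂[c] (X c) 𝐂(im c K)

theorem X_le (c : G) : X c ≤ 𝐂[c] := piCoreOf_le _ _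

theorem le_norm_X (c : G) : 𝐂[c] ≤ 𝐍(X c) := le_norm_piCoreOf _ _

theorem conj_X (g c : G) : MulAut.conj g • X c = X (g * c * g⁻¹) := by
  rw [conj_piCoreOf, conj_smul_centralizer_singleton]

theorem cen_le (c : G) (K : Subgroup G) : cen c K ≤ 𝐂[c] := qpre_le _

theorem X_le_cen (c : G) (K : Subgroup G) : X c ≤ cen c K := le_qpre (X_le c) _

theorem le_cen_iff {c : G} {H K : Subgroup G} (hH : H ≤ 𝐂[c]) (hK : K ≤ 𝐂[c]) :
    H ≤ cen c K ↔ ⁅H, K⁆ ≤ X c := by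
  rw [cen, ← qim_le_iff hH, qim_le_cent_iff hH hK]

theorem mem_cen_iff {c x : G} {K : Subgroup G} (hK : K ≤ 𝐂[c]) :
    x ∈ cen c K ↔ x ∈ 𝐂[c] ∧ ∀ k ∈ K, ⁅x, k⁆ ∈ X c := by
  rw [cen, mem_qpre]
  constructor
  · rintro ⟨hx, h⟩
    refine ⟨hx, fun k hk => ?_⟩
    have h1 := h _ (qmk_mem_qim (x := ⟨k, hK hk⟩) hk)
    have h2 : qmk 𝐂[c] (X c) ⁅(⟨x, hx⟩ : 𝐂[c]), ⟨k, hK hk⟩⁆ = 1 := by
      rw [map_commutatorElement, commutatorElement_eq_one_iff_mul_comm, h1]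
    exact qmk_eq_one_iff.1 h2
  · rintro ⟨hx, h⟩
    refine ⟨hx, fun y hy => ?_⟩
    obtain ⟨k, hk, rfl⟩ := mem_qim.1 hy
    have h2 : qmk 𝐂[c] (X c) ⁅(⟨x, hx⟩ : 𝐂[c]), k⁆ = 1 := qmk_eq_one_iff.2 (h k hk)
    rw [map_commutatorElement, commutatorElement_eq_one_iff_mul_comm] at h2
    exact h2.symm

theorem le_norm_cen {c : G} {H K : Subgroup G} (hH : H ≤ 𝐂[c]) (h : H ≤ 𝐍(K)) : H ≤ 𝐍(cen c K) :=
  le_norm_qpre hH (le_normalizer_centralizer (qim_le_norm h))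

theorem cen_anti {c : G} {K K' : Subgroup G} (h : K ≤ K') : cen c K' ≤ cen c K :=
  qpre_mono (centralizer_anti (qim_mono h))

theorem cen_X_sup {c : G} {L : Subgroup G} (h : L ≤ 𝐂[c]) : cen c (X c ⊔ L) = cen c L := by
  rw [cen, cen, im, qim_self_sup (X_le c) h]

theorem Comp.conj {c : G} {K : Subgroup G} (h : Comp c K) (g : G) :
    Comp (g * c * g⁻¹) (MulAut.conj g • K) where
  le := conj_X g c ▸ conj_smul_mono g h.le
  le_cent := conj_smul_centralizer_singleton g c ▸ conj_smul_mono g h.le_cent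
  ns := fun _ => h.ns (isSolvable_of_mulEquiv (conjEquiv g K).symm)
  simple N h1 h2 h3 := by
    rw [← conj_X] at h1 ⊢
    have h4 : K ≤ 𝐍(MulAut.conj g⁻¹ • N) := by
      rw [← conj_smul_normalizer]; exact conj_smul_le_iff_le_inv.1 h3
    rcases h.simple (MulAut.conj g⁻¹ • N) (conj_smul_le_iff_le_inv.1 h1)
      (conj_smul_le_iff_le_inv.2 (by rwa [inv_inv])) h4 with e | e
    · left; rw [← e, conj_smul_conj_inv_smul]
    · right; rw [← e, conj_smul_conj_inv_smul]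
  norm x hx h2 := by
    rw [← conj_smul_normalizer, mem_conj_smul]
    rw [← conj_smul_centralizer_singleton, mem_conj_smul] at hx
    have := h2.conj g⁻¹
    rw [inv_inv] at this
    exact h.norm _ hx this

theorem Comp.Y2_le {c : G} {K : Subgroup G} (h : Comp c K) : Y2 𝐂[c] ≤ 𝐍(K) := Y2_le_iff.2 h.norm

variable [Finite G]

theorem odd_X (c : G) : ¬ 2 ∣ Nat.card (X c) := not_dvd_card_Op' 2 _

theorem core_quo (c : G) : Op' 2 (⊤ : Subgroup (Quo 𝐂[c] (X c))) = ⊥ := piCoreOf_quo_piCoreOf _ _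

theorem solv_of_im {c : G} {K : Subgroup G} (hK : K ≤ 𝐂[c]) (h : Group.IsSolvable (im c K)) :
    Group.IsSolvable K := by
  have h1 : Group.IsSolvable (qmk 𝐂[c] (X c)).ker := by
    rw [ker_qmk]; exact (sgOf_solvable_iff (X_le c)).2 (odd_solv (odd_X c))
  have h2 := isSolvable_comap (f := qmk 𝐂[c] (X c)) (im c K)
  rw [← sgOf_qpre] at h2
  have h3 := (sgOf_solvable_iff (qpre_le _)).1 h2
  exact isSolvable_of_le ((qim_le_iff (N := X c) hK).1 le_rfl)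

theorem Comp.cmp {c : G} {K : Subgroup G} (h : Comp c K) : Cmp (im c K) := by
  have hns : ¬ Group.IsSolvable (im c K) := fun h1 => h.ns (solv_of_im h.le_cent h1)
  refine ⟨simple_of_forall (fun e => hns (e ▸ inferInstance)) fun N h1 h2 => ?_, hns, fun g hg => ?_⟩
  · rcases h.simple (qpre _ _ N) (le_qpre (X_le c) N) ((qpre_le_iff h.le h.le_cent).2 h1)
      (le_norm_qpre h.le_cent h2) with e | e
    · left; rw [← qim_qpre N, e, qim_self]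
    · right; rw [← qim_qpre N, e]
  · obtain ⟨x, hx, rfl⟩ := hg.exists_lift (qmk_surjective _ _)
    exact qim_le_norm (zpowers_le.2 (h.norm x x.2 (isPElt_coe.2 hx))) (qmk_mem_qim (mem_zpowers _))

theorem comp_qpre {c : G} {K : Subgroup (Quo 𝐂[c] (X c))} (h : Cmp K) : Comp c (qpre _ _ K) where
  le := le_qpre (X_le c) K
  le_cent := qpre_le K
  ns := fun _ => h.ns (qim_qpre K ▸ solvable_qim (qpre_le K))
  simple N h1 h2 h3 := by
    have h4 := h2.trans (qpre_le K)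
    rcases h.eq_bot_or_eq ((qim_le_iff h4).2 h2) (qim_qpre K ▸ qim_le_norm h3) with e | e
    · exact Or.inl (le_antisymm ((qim_eq_bot_iff h4).1 e) h1)
    · right; rw [← e, qpre_qim_of_le h1 h4]
  norm g hg h2 := le_norm_qpre (H := zpowers g) (zpowers_le.2 hg)
    (h.le_norm_of_two (isPGroup_qim h2.isPGroup_zpowers)) (mem_zpowers g)

theorem Comp.eq_bot_of_solv {c : G} {K N : Subgroup G} (h : Comp c K) (hN : N ≤ K) (hn : K ≤ 𝐍(N))
    (hs : Group.IsSolvable N) : N ≤ X c :=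
  (qim_eq_bot_iff (hN.trans h.le_cent)).1 (h.cmp.eq_bot_of_solv (qim_mono hN) (qim_le_norm hn)
    (solvable_qim (hN.trans h.le_cent)))

theorem Comp.inf_cen {c : G} {K : Subgroup G} (h : Comp c K) {x : G} (h1 : x ∈ K) (h2 : x ∈ cen c K) :
    x ∈ X c := by
  obtain ⟨hx, h3⟩ := mem_qpre.1 h2
  exact qmk_eq_one_iff.1 (h.cmp.eq_one_of_cent (qmk_mem_qim (x := ⟨x, hx⟩) h1) h3)

theorem Comp.le_cen_of_ne {c : G} {K K' : Subgroup G} (h : Comp c K) (h' : Comp c K') (hne : K ≠ K') :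
    K ≤ cen c K' :=
  (qim_le_iff h.le_cent).1 (h.cmp.le_cent_of_ne h'.cmp fun e => hne (by
    rw [← qpre_qim_of_le h.le h.le_cent, ← qpre_qim_of_le h'.le h'.le_cent]
    exact congrArg _ e))

section Syl

variable {T : Subgroup G} (hT : IsSylowIn 2 T ⊤) (hab : T ≤ 𝐂(T)) {c : G} (hc : c ∈ T)

include hT in
theorem eq_one_of_mem_X {x c : G} (h1 : x ∈ T) (h2 : x ∈ X c) : x = 1 :=
  (isPElt_of_mem hT.isPGroup h1).eq_one_of_isPRegular (isPRegular_of_mem (odd_X c) h2)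

include hab hc in
theorem T_le : T ≤ 𝐂[c] := hab.trans (cent_le_cent1 hc)

include hT hab hc

theorem syl_im : IsSylowIn 2 (im c T) ⊤ := sylow_qim_top (hT.of_le (T_le hab hc) le_top)

omit hT hc in
theorem ab_im : im c T ≤ 𝐂(im c T) := qim_le_cent hab

theorem cop_X : CoprimeAct T (X c) :=
  coprimeAct_of_isPGroup_left ((T_le hab hc).trans (le_norm_X c)) hT.isPGroup (odd_X c)

theorem im_norm : im c 𝐍(T) = 𝐍(im c T) := qim_norm_of_coprime (cop_X hT hab hc) (T_le hab hc)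

theorem le_X_of_comp {D : Subgroup G} (hD : ¬ 2 ∣ Nat.card D) (hn : T ≤ 𝐍(D)) (hDc : D ≤ 𝐂[c])
    (h : ∀ K, Comp c K → D ≤ cen c K) : D ≤ X c :=
  (qim_eq_bot_iff hDc).1 (eq_bot_of_cmp (core_quo c) (syl_im hT hab hc) (ab_im hab)
    (fun h1 => hD (h1.trans (card_qim_dvd hDc))) (qim_le_norm hn) fun K hK => by
      have := (qim_le_iff hDc).2 (h _ (comp_qpre hK))
      rwa [im, qim_qpre] at this)

theorem cent_le_of_comp {M : Subgroup G} (h1 : X c ≤ M) (h2 : ∀ K, Comp c K → K ≤ M)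
    (h3 : 𝐍(T) ≤ M) : 𝐂[c] ≤ M := by
  have h4 := eq_top_of_cmp (core_quo c) (syl_im hT hab hc) (ab_im hab) (M := im c M)
    (fun K hK => qim_qpre K ▸ qim_mono (h2 _ (comp_qpre hK))) (im_norm hT hab hc ▸ qim_mono h3)
  rw [im, ← qim_inf_M, qim_eq_top_iff (X_le c) inf_le_left] at h4
  exact h4.symm.le.trans (sup_le inf_le_right h1)

theorem mem_cent_of_comp {f : G} (hf : f ∈ Y2 𝐂[c]) (hn : f ∈ 𝐍(T))
    (h : ∀ K, Comp c K → f ∈ 𝐂(T ⊓ K)) : f ∈ 𝐂(T) := by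
  have h1 : im c (Y2 𝐂[c]) ≤ Y2 ⊤ := (qim_le_iff (Y2_le _)).2 (Y2_le_iff.2 fun g hg h2 =>
    mem_qpre.2 ⟨hg, mem_Y2 (mem_top _) (((isPElt_mk hg).2 h2).map _)⟩)
  have hf' := Y2_le _ hf
  have h2 := mem_cent_of_cmp (core_quo c) (syl_im hT hab hc) (ab_im hab)
    (h1 (qmk_mem_qim (x := ⟨f, hf'⟩) hf)) fun K hK => by
      have h3 := qim_le_cent (M := 𝐂[c]) (N := X c) (zpowers_le.2 (h _ (comp_qpre hK)))
        (qmk_mem_qim (x := ⟨f, hf'⟩) (mem_zpowers f))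
      rwa [inf_comm, qim_inf (le_qpre (X_le c) K), qim_qpre, inf_comm] at h3
  have h3 := (mem_cen_iff (T_le hab hc)).1 (mem_qpre.2 ⟨hf', h2⟩)
  intro t ht
  refine (commutatorElement_eq_one_iff_mul_comm.1 (eq_one_of_mem_X hT ?_ (h3.2 t ht))).symm
  exact T.mul_mem (conj_mem_of_mem_normalizer hn ht) (T.inv_mem ht)

variable {K : Subgroup G} (h : Comp c K)
include h

theorem Comp.le_norm_of_odd {D : Subgroup G} (hD : ¬ 2 ∣ Nat.card D) (hn : T ≤ 𝐍(D))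
    (hDc : D ≤ 𝐂[c]) : D ≤ 𝐍(K) := by
  have := (qim_le_norm_iff (X_le c) hDc h.le_cent).1 (h.cmp.le_norm_of_odd (syl_im hT hab hc)
    (fun h1 => hD (h1.trans (card_qim_dvd hDc))) (qim_le_norm hn))
  rwa [sup_eq_left.2 h.le] at this

theorem Comp.T_norm : T ≤ 𝐍(K) := fun t ht => h.norm t (T_le hab hc ht) (isPElt_of_mem hT.isPGroup ht)

omit hT hab hc in
theorem Comp.im_inf : im c (T ⊓ K) = im c T ⊓ im c K := by
  rw [inf_comm, im, qim_inf h.le, inf_comm]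

theorem Comp.im_norm_inf : im c (K ⊓ 𝐍(T)) = im c K ⊓ 𝐍(im c T) := by
  rw [im, qim_inf h.le, ← im_norm hT hab hc]

theorem Comp.der_le : ⁅T, K ⊓ 𝐍(T)⁆ ≤ T ⊓ K :=
  le_inf (le_normalizer_iff_commutator_le_left.1 inf_le_right) ((commutator_mono le_rfl inf_le_left).trans
    (le_normalizer_iff_commutator_le_right.1 (h.T_norm hT hab hc)))

theorem Comp.decomp' {t : G} (ht : t ∈ T) : ∃ r ∈ ⁅T, K ⊓ 𝐍(T)⁆, ∃ u ∈ T ⊓ cen c K, r * u = t := by
  have h1 := h.cmp.decomp (syl_im hT hab hc) (ab_im hab) (qmk_mem_qim (x := ⟨t, T_le hab hc ht⟩) ht)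
  rw [← h.im_norm_inf hT hab hc, ← qim_commutator (T_le hab hc) (inf_le_left.trans h.le_cent)] at h1
  obtain ⟨r', hr', u', hu', e⟩ := (mem_sup_of_le_normalizer_left (inf_le_left.trans
    (le_normalizer_of_le_centralizer ((ab_im hab).trans (centralizer_anti (qim_mono
      ((h.der_le hT hab hc).trans inf_le_left))))))).1 h1
  obtain ⟨r, hr, rfl⟩ := mem_qim.1 hr'
  have hrT := (h.der_le hT hab hc hr).1
  refine ⟨r, hr, (r : G)⁻¹ * t, ⟨T.mul_mem (T.inv_mem hrT) ht, mem_qpre.2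
    ⟨Subgroup.mul_mem _ (Subgroup.inv_mem _ r.2) (T_le hab hc ht), ?_⟩⟩, by group⟩
  have : u' = qmk 𝐂[c] (X c) (r⁻¹ * ⟨t, T_le hab hc ht⟩) := by
    rw [map_mul, map_inv, ← e]; group
  exact this ▸ hu'.2

theorem Comp.decomp {t : G} (ht : t ∈ T) : ∃ v ∈ T ⊓ K, ∃ u ∈ T ⊓ cen c K, v * u = t :=
  have ⟨r, hr, h1⟩ := h.decomp' hT hab hc ht
  ⟨r, h.der_le hT hab hc hr, h1⟩

omit hab hc in
theorem Comp.eq_one {x : G} (h1 : x ∈ T ⊓ K) (h2 : x ∈ cen c K) : x = 1 :=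
  eq_one_of_mem_X hT h1.1 (h.inf_cen h1.2 h2)

theorem Comp.le_der : T ⊓ K ≤ ⁅T, K ⊓ 𝐍(T)⁆ := fun v hv => by
  obtain ⟨r, hr, u, hu, rfl⟩ := h.decomp' hT hab hc hv.1
  have h1 := h.eq_one hT ⟨hu.1, (Subgroup.mul_mem_cancel_left _ (h.der_le hT hab hc hr).2).1 hv.2⟩ hu.2
  rwa [h1, mul_one]

omit hab hc in
theorem Comp.comm_of_norm {n u : G} (hn : n ∈ K ⊓ 𝐍(T)) (hu : u ∈ T ⊓ cen c K) : n * u * n⁻¹ = u := by
  have h1 := ((mem_cen_iff h.le_cent).1 hu.2).2 n hn.1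
  have h2 : ⁅u, n⁆ ∈ T := by
    have := T.mul_mem hu.1 (conj_mem_of_mem_normalizer hn.2 (T.inv_mem hu.1))
    rw [commutatorElement_def]; convert this using 1; group
  have := commutatorElement_eq_one_iff_mul_comm.1 (eq_one_of_mem_X hT h2 h1)
  rw [← this]; group

theorem Comp.inf_ne_bot : T ⊓ K ≠ ⊥ := fun e =>
  h.cmp.inf_ne_bot (syl_im hT hab hc) (by rw [← h.im_inf, e]; exact qim_bot)

variable {ω : G → G → ℂˣ} (hs : Symp T ω)
include hs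

theorem Comp.orth {u v : G} (hu : u ∈ T ⊓ cen c K) (hv : v ∈ T ⊓ K) : ω u v = 1 := by
  let P : Subgroup G :=
    { carrier := {t | t ∈ T ∧ ω u t = 1}
      mul_mem' := fun {a b} ha hb => ⟨T.mul_mem ha.1 hb.1, by
        rw [hs.mul_right u hu.1 a ha.1 b hb.1, ha.2, hb.2, one_mul]⟩
      one_mem' := ⟨T.one_mem, hs.one_right hu.1⟩
      inv_mem' := fun {a} ha => ⟨T.inv_mem ha.1, by rw [hs.inv_right hu.1 ha.1, ha.2, inv_one]⟩ }
  have h1 : ⁅T, K ⊓ 𝐍(T)⁆ ≤ P := commutator_le.2 fun t ht n hn => by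
    have h2 := conj_mem_of_mem_normalizer hn.2 (T.inv_mem ht)
    have e : ⁅t, n⁆ = t * (n * t⁻¹ * n⁻¹) := by rw [commutatorElement_def]; group
    refine ⟨e ▸ T.mul_mem ht h2, ?_⟩
    have h3 := hs.conj n hn.2 u hu.1 t⁻¹ (T.inv_mem ht)
    rw [h.comm_of_norm hT hn hu] at h3
    rw [e, hs.mul_right u hu.1 t ht _ h2, h3, hs.inv_right hu.1 ht, mul_inv_cancel]
  exact (h1 (h.le_der hT hab hc hv)).2

theorem Comp.nondeg {v : G} (hv : v ∈ T ⊓ K) (h1 : ∀ w ∈ T ⊓ K, ω v w = 1) : v = 1 :=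
  hs.nondeg v hv.1 fun t ht => by
    obtain ⟨w, hw, u, hu, rfl⟩ := h.decomp hT hab hc ht
    rw [hs.mul_right v hv.1 w hw.1 u hu.1, h1 w hw, one_mul, hs.eq_one_comm hv.1 hu.1]
    exact h.orth hT hab hc hs hu hv

theorem Comp.mem_cen {u : G} (hu : u ∈ T) (h1 : ∀ v ∈ T ⊓ K, ω u v = 1) : u ∈ cen c K := by
  obtain ⟨w, hw, u', hu', rfl⟩ := h.decomp hT hab hc hu
  have : w = 1 := h.nondeg hT hab hc hs hw fun v hv => by
    have h2 := h1 v hv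
    rwa [hs.mul_left w hw.1 u' hu'.1 v hv.1, h.orth hT hab hc hs hu' hv, mul_one] at h2
  rw [this, one_mul]
  exact hu'.2

end Syl

theorem symp_range {G' : Type*} [Group G'] {T V : Subgroup G} {ω : G → G → ℂˣ} (hs : Symp T ω)
    (hV : V ≤ T) (hnd : ∀ v ∈ V, (∀ w ∈ V, ω v w = 1) → v = 1) (φ : V →* G')
    (hφ : Function.Injective φ)
    (hc : ∀ n' ∈ 𝐍(φ.range), ∃ n ∈ 𝐍(T), ∀ v : V, ∃ hv : n * v * n⁻¹ ∈ V,
      φ ⟨_, hv⟩ = n' * φ v * n'⁻¹) : ∃ ω', Symp φ.range ω' := by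
  have hl := Function.leftInverse_invFun hφ
  refine ⟨fun x y => ω (Function.invFun (⇑φ) x : V) (Function.invFun (⇑φ) y : V), ?_, ?_, ?_, ?_, ?_⟩
  · rintro _ ⟨x, rfl⟩ _ ⟨y, rfl⟩ _ ⟨z, rfl⟩
    rw [← map_mul, hl, hl, hl, hl]
    exact hs.mul_left _ (hV x.2) _ (hV y.2) _ (hV z.2)
  · rintro _ ⟨x, rfl⟩ _ ⟨y, rfl⟩ _ ⟨z, rfl⟩
    rw [← map_mul, hl, hl, hl, hl]
    exact hs.mul_right _ (hV x.2) _ (hV y.2) _ (hV z.2)
  · rintro _ ⟨x, rfl⟩
    rw [hl]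
    exact hs.self _ (hV x.2)
  · rintro _ ⟨x, rfl⟩ h
    have : x = 1 := Subtype.ext (hnd x x.2 fun w hw => by
      have := h _ ⟨⟨w, hw⟩, rfl⟩
      rwa [hl, hl] at this)
    rw [this, map_one]
  · rintro n' hn' _ ⟨x, rfl⟩ _ ⟨y, rfl⟩
    obtain ⟨n, hn, h⟩ := hc n' hn'
    obtain ⟨hx, ex⟩ := h x
    obtain ⟨hy, ey⟩ := h y
    rw [← ex, ← ey, hl, hl, hl, hl]
    exact hs.conj n hn _ (hV x.2) _ (hV y.2)

/-- The induction hypothesis. -/
def IH (G : Type u) [Group G] : Prop :=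
  ∀ (K : Type u) [Group K] [Finite K] [IsSimpleGroup K], Nat.card K < Nat.card G →
    ¬ Group.IsSolvable K → ∀ (S : Subgroup K) (ω : K → K → ℂˣ), IsSylowIn 2 S ⊤ → S ≤ 𝐂(S) →
      Symp S ω → Nat.card S = 4

theorem Comp.card_eq {T : Subgroup G} (hT : IsSylowIn 2 T ⊤) (hab : T ≤ 𝐂(T)) {c : G} (hc : c ∈ T)
    {K : Subgroup G} (h : Comp c K) {ω : G → G → ℂˣ} (hs : Symp T ω) (ih : IH G) (hc1 : 𝐂[c] ≠ ⊤) :
    Nat.card ↥(T ⊓ K) = 4 := by
  have hVc : T ⊓ K ≤ 𝐂[c] := inf_le_right.trans h.le_cent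
  let φ : ↥(T ⊓ K) →* im c K := ((qmk 𝐂[c] (X c)).comp (inclusion hVc)).codRestrict _
    fun v => qmk_mem_qim v.2.2
  have hφ1 : ∀ v : ↥(T ⊓ K), (φ v : Quo 𝐂[c] (X c)) = qmk 𝐂[c] (X c) ⟨v, hVc v.2⟩ := fun _ => rfl
  have hφ : Function.Injective φ := (injective_iff_map_eq_one φ).2 fun v hv =>
    Subtype.ext (eq_one_of_mem_X hT v.2.1 ((qmk_eq_one_iff (M := 𝐂[c]) (N := X c) (x := ⟨v, hVc v.2⟩)).1
      (show qmk 𝐂[c] (X c) ⟨v, hVc v.2⟩ = 1 from (hφ1 v).symm.trans (congrArg Subtype.val hv))))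
  have hr : φ.range = (im c T ⊓ im c K).subgroupOf (im c K) := by
    rw [← h.im_inf]
    ext x
    constructor
    · rintro ⟨v, rfl⟩
      exact qmk_mem_qim (M := 𝐂[c]) (N := X c) (x := ⟨v, hVc v.2⟩) v.2
    · intro hx
      obtain ⟨v, hv, e⟩ := mem_qim.1 (mem_subgroupOf.1 hx)
      exact ⟨⟨v, hv⟩, Subtype.ext e⟩
  obtain ⟨ω', hω'⟩ := symp_range hs inf_le_left (fun v hv => h.nondeg hT hab hc hs hv) φ hφ
    fun n' hn' => by
      rw [hr, ← sgOf_norm inf_le_right, mem_subgroupOf] at hn'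
      have h1 : (n' : Quo 𝐂[c] (X c)) ∈ 𝐍(im c T) := mem_normalizer_of_conj_mem fun t ht => by
        obtain ⟨v, hv, u, hu, rfl⟩ := h.cmp.exists_mul (syl_im hT hab hc) (ab_im hab) ht
        have h2 : (n' : Quo 𝐂[c] (X c)) * (v * u) * (n' : Quo 𝐂[c] (X c))⁻¹ =
            n' * v * (n' : Quo 𝐂[c] (X c))⁻¹ * u := by
          have := hu.2 _ ((im c K).inv_mem n'.2)
          simp only [mul_assoc]; rw [this]
        rw [h2]
        exact Subgroup.mul_mem _ (conj_mem_of_mem_normalizer hn' hv).1 hu.1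
      have h2 : (n' : Quo 𝐂[c] (X c)) ∈ im c (K ⊓ 𝐍(T)) := h.im_norm_inf hT hab hc ▸ ⟨n'.2, h1⟩
      obtain ⟨n, hn, e⟩ := mem_qim.1 h2
      refine ⟨n, hn.2, fun v => ⟨⟨conj_mem_of_mem_normalizer hn.2 v.2.1,
        K.mul_mem (K.mul_mem hn.1 v.2.2) (K.inv_mem hn.1)⟩, Subtype.ext ?_⟩⟩
      rw [hφ1, coe_mul, coe_mul, coe_inv, hφ1, ← e, ← map_inv, ← map_mul, ← map_mul]
      rfl
  have := h.cmp.simple
  have h1 := ih (im c K) (lt_of_le_of_lt (Nat.le_of_dvd Nat.card_pos ((card_qim_dvd h.le_cent).trans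
    (card_dvd_of_le h.le_cent))) (card_lt_of_ne_top hc1)) h.cmp.ns φ.range ω'
    (hr ▸ (isSylowIn_subgroupOf_top_iff inf_le_right).2 (h.cmp.sylow (syl_im hT hab hc)))
    (by
      rintro _ ⟨x, rfl⟩ _ ⟨y, rfl⟩
      rw [← map_mul, ← map_mul]
      exact congrArg φ (Subtype.ext (comm_elt hab y.2.1 x.2.1))) hω'
  rw [← h1]
  exact Nat.card_congr (MonoidHom.ofInjective hφ).toEquiv

end GAG
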