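import Cfsg.Agent.Lib.Gag.W2
import Cfsg.Agent.Lib.Block.AbPrimeFT

/-!
# The four-groups belonging to components, pumping up and orthogonality
-/

set_option autoImplicit false
set_option linter.unusedSectionVars false

namespace GAG

open Cfsg GT FT Subgroup
open scoped Pointwise commutatorElement

universe u

variable {G : Type u} [Group G]

theorem four_cases [Finite G] {V : Subgroup G} (h4 : Nat.card V = 4) {x y : G} (hx : x ∈ V) (hy : y ∈ V)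
    (hx1 : x ≠ 1) (hy1 : y ≠ 1) (hxy : x ≠ y) (hx2 : x * x = 1) {v : G} (hv : v ∈ V) :
    v = 1 ∨ v = x ∨ v = y ∨ v = x * y := by
  have h1 : ({1, x, y, x * y} : Set G).ncard = 4 := by
    have a1 : x * y ≠ 1 := fun e => hxy (mul_left_cancel (hx2.trans e.symm))
    have a2 : x * y ≠ x := fun e => hy1 (mul_eq_left.1 e)
    have a3 : x * y ≠ y := fun e => hx1 (mul_eq_right.1 e)
    rw [Set.ncard_insert_of_notMem (by simp [hx1.symm, hy1.symm, a1.symm]),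
      Set.ncard_insert_of_notMem (by simp [hxy, a2.symm]),
      Set.ncard_insert_of_notMem (by simp [a3.symm]), Set.ncard_singleton]
  have h2 : ({1, x, y, x * y} : Set G) = V := Set.eq_of_subset_of_ncard_le (by
    rintro z (rfl | rfl | rfl | rfl)
    exacts [V.one_mem, hx, hy, V.mul_mem hx hy]) (by rw [h1, ← h4]; rfl)
  have h3 : v ∈ ({1, x, y, x * y} : Set G) := h2 ▸ hv
  simpa using h3

theorem exists_third [Finite G] {V : Subgroup G} (h4 : 2 < Nat.card V) (x : G) :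
    ∃ y ∈ V, y ≠ 1 ∧ y ≠ x := by
  by_contra h
  push Not at h
  have h1 : (V : Set G) ⊆ {1, x} := fun y hy => by
    by_cases h2 : y = 1
    · exact Or.inl h2
    · exact Or.inr (h y hy h2)
  have h2 := (Set.ncard_le_ncard h1).trans ((Set.ncard_insert_le 1 {x}).trans_eq (by rw [Set.ncard_singleton]))
  have h3 : (V : Set G).ncard = Nat.card V := rfl
  omega

theorem mem_of_odd_pow {H : Subgroup G} {n : G} {m : ℕ} (hm : Odd m) (h1 : n ^ m ∈ H) (h2 : n * n ∈ H) :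
    n ∈ H := by
  obtain ⟨k, rfl⟩ := hm
  rw [pow_succ, pow_mul, pow_two] at h1
  exact (Subgroup.mul_mem_cancel_left _ (H.pow_mem h2 k)).1 h1

theorem cent_of_fix [Finite G] {V : Subgroup G} (h4 : Nat.card V = 4) (hel : ∀ w ∈ V, w * w = 1) {n v : G}
    (hn : n ∈ 𝐍(V)) {m : ℕ} (hm : Odd m) (hnm : n ^ m ∈ 𝐂(V)) (hv : v ∈ V) (hv1 : v ≠ 1)
    (h : n * v * n⁻¹ = v) : n ∈ 𝐂(V) := by
  refine mem_of_odd_pow hm hnm ?_
  obtain ⟨y, hy, hy1, hyv⟩ := exists_third (V := V) (by omega) v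
  have h1 : n * n * y * (n * n)⁻¹ = y := by
    have e : n * n * y * (n * n)⁻¹ = n * (n * y * n⁻¹) * n⁻¹ := by group
    rcases four_cases h4 hv hy hv1 hy1 hyv.symm (hel v hv) (conj_mem_of_mem_normalizer hn hy) with
      h2 | h2 | h2 | h2
    · exact (hy1 (by simpa using h2)).elim
    · exact (hyv (by rw [← h] at h2; simpa using h2)).elim
    · rw [e, h2, h2]
    · have e2 : n * (v * y) * n⁻¹ = n * v * n⁻¹ * (n * y * n⁻¹) := by group
      rw [e, h2, e2, h, h2, ← mul_assoc, hel v hv, one_mul]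
  have h2 : v * (n * n) = n * n * v := by
    calc v * (n * n) = n * (n * v * n⁻¹) * n⁻¹ * (n * n) := by rw [h, h]
      _ = _ := by group
  have h3 : y * (n * n) = n * n * y := by
    calc y * (n * n) = n * n * y * (n * n)⁻¹ * (n * n) := by rw [h1]
      _ = _ := by group
  intro w hw
  rcases four_cases h4 hv hy hv1 hy1 hyv.symm (hel v hv) hw with rfl | rfl | rfl | rfl
  · simp
  · exact h2
  · exact h3
  · rw [mul_assoc, h3, ← mul_assoc, h2, mul_assoc]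

theorem exists_odd_pow [Finite G] {T : Subgroup G} (hT : IsSylowIn 2 T ⊤) (hab : T ≤ 𝐂(T)) {n : G}
    (hn : n ∈ 𝐍(T)) : ∃ m, Odd m ∧ n ^ m ∈ 𝐂(T) := by
  have := subgroupOf_normal (normalizer_le_normalizer_centralizer T)
  refine ⟨(𝐂(T)).relIndex 𝐍(T), Nat.odd_iff.2 ?_, pow_index_mem (𝐂(T).subgroupOf 𝐍(T)) ⟨n, hn⟩⟩
  have := (hT.of_le le_normalizer le_top).not_dvd_relIndex_of_le hab
  omega

/-- The hypotheses on a minimal counterexample. -/
structure Ctx (T : Subgroup G) (ω : G → G → ℂˣ) : Prop where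
  simple : IsSimpleGroup G
  ns : ¬ Group.IsSolvable G
  syl : IsSylowIn 2 T ⊤
  ab : T ≤ 𝐂(T)
  symp : Symp T ω
  ih : IH G

/-- `Ω₁(V^⊥)` -/
def AV (T : Subgroup G) (ω : G → G → ℂˣ) (V : Subgroup G) : Subgroup G :=
  closure {a | a ∈ T ∧ a * a = 1 ∧ ∀ v ∈ V, ω a v = 1}

/-- normal closure of `V` in `C(Ω₁(V^⊥))` -/
def LV (T : Subgroup G) (ω : G → G → ℂˣ) (V : Subgroup G) : Subgroup G :=
  closure {x | ∃ g ∈ 𝐂(AV T ω V), ∃ v ∈ V, g * v * g⁻¹ = x}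

/-- `V` is the Sylow subgroup of a component -/
def IsV (T V : Subgroup G) : Prop := ∃ c ∈ T, c ≠ 1 ∧ c * c = 1 ∧ ∃ K, Comp c K ∧ T ⊓ K = V

variable {T : Subgroup G} {ω : G → G → ℂˣ} {V V' K : Subgroup G} {c : G}

theorem IsV.le (h : IsV T V) : V ≤ T := by
  obtain ⟨_, _, _, _, _, _, rfl⟩ := h
  exact inf_le_left

theorem AV_le : AV T ω V ≤ T := (closure_le _).2 fun _ h => h.1

theorem LV_le_iff {M : Subgroup G} : LV T ω V ≤ M ↔ ∀ g ∈ 𝐂(AV T ω V), ∀ v ∈ V, g * v * g⁻¹ ∈ M := by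
  rw [LV, closure_le]
  exact ⟨fun h g hg v hv => h ⟨g, hg, v, hv, rfl⟩, fun h _ ⟨g, hg, v, hv, e⟩ => e ▸ h g hg v hv⟩

theorem conj_mem_LV {g v : G} (hg : g ∈ 𝐂(AV T ω V)) (hv : v ∈ V) : g * v * g⁻¹ ∈ LV T ω V :=
  LV_le_iff.1 le_rfl g hg v hv

theorem le_LV : V ≤ LV T ω V := fun v hv => by simpa using conj_mem_LV (one_mem _) hv

theorem IsV.conj (h : IsV T V) {n : G} (hn : n ∈ 𝐍(T)) : IsV T (MulAut.conj n • V) := by
  obtain ⟨c, hc, h1, h2, K, hK, rfl⟩ := h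
  refine ⟨n * c * n⁻¹, conj_mem_of_mem_normalizer hn hc, by simpa using h1, ?_, _, hK.conj n, ?_⟩
  · calc n * c * n⁻¹ * (n * c * n⁻¹) = n * (c * c) * n⁻¹ := by group
      _ = 1 := by rw [h2]; group
  · rw [conj_smul_inf, conj_smul_eq_of_mem_normalizer hn]

variable [Finite G]

theorem norm_LV : 𝐂(AV T ω V) ≤ 𝐍(LV T ω V) := fun g hg =>
  norm_of_conj_le (conj_smul_le_iff_le_inv.2 (LV_le_iff.2 fun x hx v hv => by
    rw [mem_conj_smul, inv_inv]
    have := conj_mem_LV (mul_mem hg hx) hv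
    convert this using 1; group))

namespace Ctx

variable (W : Ctx T ω)
include W

theorem comm {x y : G} (hx : x ∈ T) (hy : y ∈ T) : x * y = y * x := comm_elt W.ab hx hy

theorem mul_sq {a b : G} (ha : a ∈ T) (hb : b ∈ T) (ha2 : a * a = 1) (hb2 : b * b = 1) :
    a * b * (a * b) = 1 := by
  calc a * b * (a * b) = a * (b * a) * b := by group
    _ = a * a * (b * b) := by rw [W.comm hb ha]; group
    _ = 1 := by rw [ha2, hb2, one_mul]

theorem mem_AV (hV : V ≤ T) {a : G} : a ∈ AV T ω V ↔ a ∈ T ∧ a * a = 1 ∧ ∀ v ∈ V, ω a v = 1 := by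
  refine ⟨fun h => ?_, fun h => subset_closure h⟩
  induction h using closure_induction with
  | mem x hx => exact hx
  | one => exact ⟨T.one_mem, one_mul 1, fun v hv => W.symp.one_left (hV hv)⟩
  | mul x y _ _ hx hy => exact ⟨T.mul_mem hx.1 hy.1, W.mul_sq hx.1 hy.1 hx.2.1 hy.2.1, fun v hv => by
      rw [W.symp.mul_left x hx.1 y hy.1 v (hV hv), hx.2.2 v hv, hy.2.2 v hv, one_mul]⟩
  | inv x _ hx => exact ⟨T.inv_mem hx.1, by rw [← mul_inv_rev, hx.2.1, inv_one], fun v hv => by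
      rw [W.symp.inv_left hx.1 (hV hv), hx.2.2 v hv, inv_one]⟩

theorem mem_Om {a : G} : a ∈ omegaOne 2 T ↔ a ∈ T ∧ a * a = 1 := by
  have := comm_iff_le_cent.2 W.ab
  rw [omegaOne_eq_powKer, mem_powKer, pow_two]

theorem elem_Om : IsElementaryAbelian 2 (omegaOne 2 T) :=
  have := comm_iff_le_cent.2 W.ab
  elem_omegaOne_of_comm 2 T

theorem AV_le_Om (hV : V ≤ T) : AV T ω V ≤ omegaOne 2 T := fun _ ha =>
  W.mem_Om.2 ⟨((W.mem_AV hV).1 ha).1, ((W.mem_AV hV).1 ha).2.1⟩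

theorem T_le_cent {A : Subgroup G} (h : A ≤ T) : T ≤ 𝐂(A) := W.ab.trans (centralizer_anti h)

theorem LV_le_cent (hV : V ≤ T) : LV T ω V ≤ 𝐂(AV T ω V) := LV_le_iff.2 fun _ hg _ hv =>
  mul_mem (mul_mem hg (W.T_le_cent AV_le (hV hv))) (inv_mem hg)

theorem LV_le_Y2 (hV : V ≤ T) {b : G} (hb : b ∈ AV T ω V) : LV T ω V ≤ Y2 𝐂[b] :=
  LV_le_iff.2 fun g hg _ hv => mem_Y2 ((W.LV_le_cent hV).trans (cent_le_cent1 hb) (conj_mem_LV hg hv))
    ((isPElt_of_mem W.syl.isPGroup (hV hv)).conj g)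

theorem LV_le_Y2_self (hV : V ≤ T) : LV T ω V ≤ Y2 (LV T ω V) :=
  LV_le_iff.2 fun g hg _ hv => mem_Y2 (conj_mem_LV hg hv)
    ((isPElt_of_mem W.syl.isPGroup (hV hv)).conj g)

theorem conj_AV (hV : V ≤ T) {n : G} (hn : n ∈ 𝐍(T)) :
    MulAut.conj n • AV T ω V = AV T ω (MulAut.conj n • V) := by
  have hV' : MulAut.conj n • V ≤ T := conj_smul_eq_of_mem_normalizer hn ▸ conj_smul_mono n hV
  ext a
  rw [mem_conj_smul, W.mem_AV hV, W.mem_AV hV']
  have e : n * (n⁻¹ * a * n) * n⁻¹ = a := by group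
  constructor
  · rintro ⟨h1, h2, h3⟩
    refine ⟨e ▸ conj_mem_of_mem_normalizer hn h1, ?_, fun v hv => ?_⟩
    · calc a * a = n * (n⁻¹ * a * n * (n⁻¹ * a * n)) * n⁻¹ := by group
        _ = 1 := by rw [h2]; group
    · obtain ⟨w, hw, rfl⟩ := mem_conj_smul'.1 hv
      rw [← e, W.symp.conj n hn _ h1 _ (hV hw), h3 w hw]
  · rintro ⟨h1, h2, h3⟩
    have h4 := inv_conj_mem_of_mem_normalizer hn h1
    refine ⟨h4, ?_, fun v hv => ?_⟩
    · calc n⁻¹ * a * n * (n⁻¹ * a * n) = n⁻¹ * (a * a) * n := by group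
        _ = 1 := by rw [h2]; group
    · rw [← W.symp.conj n hn _ h4 _ (hV hv), e]
      exact h3 _ (conj_mem_conj_smul.2 hv)

theorem conj_LV_le (hV : V ≤ T) {n : G} (hn : n ∈ 𝐍(T)) :
    MulAut.conj n • LV T ω V ≤ LV T ω (MulAut.conj n • V) :=
  conj_smul_le_iff_le_inv.2 (LV_le_iff.2 fun g hg v hv => by
    rw [mem_conj_smul, inv_inv]
    have h1 : n * g * n⁻¹ ∈ 𝐂(AV T ω (MulAut.conj n • V)) := by
      rw [← W.conj_AV hV hn, ← conj_smul_centralizer]; exact conj_mem_conj_smul.2 hg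
    have := conj_mem_LV h1 (conj_mem_conj_smul.2 hv)
    convert this using 1; group)

theorem cent_ne_top {c : G} (h : c ≠ 1) : 𝐂[c] ≠ ⊤ := fun e => by
  have := W.simple
  have h1 : c ∈ center G := mem_center_iff.2 fun g => mem_cent1.1 (e ▸ mem_top g)
  rcases IsSimpleGroup.eq_bot_or_eq_top_of_normal (center G) inferInstance with h2 | h2
  · exact h (mem_bot.1 (h2 ▸ h1))
  · refine W.ns (Group.isSolvable_of_comm fun a b => ?_)
    exact mem_center_iff.1 (h2 ▸ mem_top b) a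

theorem card_V (h : IsV T V) : Nat.card V = 4 := by
  obtain ⟨c, hc, h1, -, K, hK, rfl⟩ := h
  exact hK.card_eq W.syl W.ab hc W.symp W.ih (W.cent_ne_top h1)

theorem nondeg_V (h : IsV T V) {v : G} (hv : v ∈ V) (h1 : ∀ w ∈ V, ω v w = 1) : v = 1 := by
  obtain ⟨c, hc, -, -, K, hK, rfl⟩ := h
  exact hK.nondeg W.syl W.ab hc W.symp hv h1

theorem sq_V (h : IsV T V) {v : G} (hv : v ∈ V) : v * v = 1 := by
  have h1 : orderOf v ∣ 2 ^ 2 := (V.orderOf_dvd_natCard hv).trans (W.card_V h).dvd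
  obtain ⟨k, hk, e⟩ := (Nat.dvd_prime_pow Nat.prime_two).1 h1
  rw [← pow_two, ← orderOf_dvd_iff_pow_eq_one]
  interval_cases k
  · rw [e]; norm_num
  · rw [e]; norm_num
  · have h2 : zpowers v = V := Subgroup.eq_of_le_of_card_ge (zpowers_le.2 hv)
      (by rw [Nat.card_zpowers, e, W.card_V h]; norm_num)
    rw [W.nondeg_V h hv fun w hw => ?_, orderOf_one]
    · norm_num
    · obtain ⟨m, rfl⟩ := (mem_powers_iff_mem_zpowers (x := v)).2 (h2 ▸ hw)
      rw [W.symp.pow_right (h.le hv) (h.le hv), W.symp.self v (h.le hv), one_pow]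

theorem V_le_Om (h : IsV T V) : V ≤ omegaOne 2 T := fun _ hv => W.mem_Om.2 ⟨h.le hv, W.sq_V h hv⟩

theorem eq_one_of_AV (h : IsV T V) {v : G} (hv : v ∈ V) (h1 : v ∈ AV T ω V) : v = 1 :=
  W.nondeg_V h hv ((W.mem_AV h.le).1 h1).2.2

theorem cent_V_of_fix (h : IsV T V) {n v : G} (hn : n ∈ 𝐍(T)) (hnV : n ∈ 𝐍(V)) (hv : v ∈ V) (hv1 : v ≠ 1)
    (e : n * v * n⁻¹ = v) : n ∈ 𝐂(V) := by
  obtain ⟨m, hm, h1⟩ := exists_odd_pow W.syl W.ab hn
  exact cent_of_fix (W.card_V h) (fun _ => W.sq_V h) hnV hm (centralizer_anti h.le h1) hv hv1 e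

section Comp

variable (hc : c ∈ T) (h : Comp c K)
include hc h

theorem mem_AV_iff {a : G} : a ∈ AV T ω (T ⊓ K) ↔ a ∈ T ⊓ cen c K ∧ a * a = 1 := by
  rw [W.mem_AV inf_le_left]
  exact ⟨fun h1 => ⟨⟨h1.1, h.mem_cen W.syl W.ab hc W.symp h1.1 h1.2.2⟩, h1.2.1⟩,
    fun h1 => ⟨h1.1.1, h1.2, fun v hv => h.orth W.syl W.ab hc W.symp h1.1 hv⟩⟩

theorem AV_le_cen : AV T ω (T ⊓ K) ≤ cen c K := fun _ ha => ((W.mem_AV_iff hc h).1 ha).1.2

theorem self_mem_AV (hc2 : c * c = 1) : c ∈ AV T ω (T ⊓ K) :=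
  (W.mem_AV_iff hc h).2 ⟨⟨hc, (mem_cen_iff h.le_cent).2 ⟨mem_cent1.2 rfl, fun k hk => by
    rw [commutatorElement_eq_one_iff_mul_comm.2 (mem_cent1.1 (h.le_cent hk)).symm]
    exact one_mem _⟩⟩, hc2⟩

variable (hc1 : c ≠ 1) (hc2 : c * c = 1)
include hc1 hc2

theorem cent_AV_le_norm : 𝐂(AV T ω (T ⊓ K)) ≤ 𝐍(K) := by
  intro g hg
  have hB : 𝐂(AV T ω (T ⊓ K)) ≤ 𝐂[c] := cent_le_cent1 (W.self_mem_AV hc h hc2)
  have h1 : IsSylowIn 2 T (Y2 𝐂(AV T ω (T ⊓ K))) :=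
    W.syl.of_le (le_Y2 W.syl.isPGroup (W.T_le_cent AV_le)) le_top
  obtain ⟨y, hy, n, hn, rfl⟩ := h1.frattini (norm_le_norm_Y2 _ (le_normalizer hg))
  refine mul_mem (h.Y2_le (Y2_mono hB hy)) ?_
  have hnB := (Subgroup.mul_mem_cancel_left _ (Y2_le _ hy)).1 hg
  have hnc : n * c * n⁻¹ = c := by rw [mem_cent1.1 (hB hnB)]; group
  have h2 := h.conj n
  rw [hnc] at h2
  by_contra hne
  have h3 := h2.le_cen_of_ne h fun e => hne (conj_smul_eq_iff_mem_normalizer.1 e)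
  have hV : IsV T (T ⊓ K) := ⟨c, hc, hc1, hc2, K, h, rfl⟩
  obtain ⟨v, hv, hv1⟩ := (Subgroup.bot_or_exists_ne_one _).resolve_left (h.inf_ne_bot W.syl W.ab hc)
  have h4 : n * v * n⁻¹ ∈ AV T ω (T ⊓ K) := (W.mem_AV_iff hc h).2
    ⟨⟨conj_mem_of_mem_normalizer hn hv.1, h3 (conj_mem_conj_smul.2 hv.2)⟩, by
      calc n * v * n⁻¹ * (n * v * n⁻¹) = n * (v * v) * n⁻¹ := by group
        _ = 1 := by rw [W.sq_V hV hv]; group⟩
  have h5 : n * v * n⁻¹ = v := by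
    have := hnB _ h4
    calc n * v * n⁻¹ = n⁻¹ * (n * (n * v * n⁻¹)) := by group
      _ = v := by rw [← this]; group
  exact hv1 (W.eq_one_of_AV hV hv (h5 ▸ h4))

theorem LV_le : LV T ω (T ⊓ K) ≤ K := LV_le_iff.2 fun _ hg _ hv =>
  conj_mem_of_mem_normalizer (W.cent_AV_le_norm hc h hc1 hc2 hg) hv.2

theorem eq_sup : K = X c ⊔ LV T ω (T ⊓ K) := by
  have hB : 𝐂(AV T ω (T ⊓ K)) ≤ 𝐂[c] := cent_le_cent1 (W.self_mem_AV hc h hc2)
  have h1 := ((cop_X W.syl W.ab hc).of_le_left (AV_le (ω := ω) (V := T ⊓ K))).le_sup_inf_centralizer h.le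
    (by
      rw [commutator_comm]
      exact (le_cen_iff (AV_le.trans (T_le W.ab hc)) h.le_cent).1 (W.AV_le_cen hc h))
  refine ((h.simple _ le_sup_left (sup_le h.le (W.LV_le hc h hc1 hc2)) (h1.trans (sup_le ?_ ?_))).resolve_left
    fun e => ?_).symm
  · exact inf_le_right.trans (le_normalizer_sup (hB.trans (le_norm_X c)) norm_LV)
  · exact le_sup_left.trans le_normalizer
  · refine h.inf_ne_bot W.syl W.ab hc (eq_bot_iff.2 fun v hv => mem_bot.2 ?_)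
    exact eq_one_of_mem_X W.syl hv.1 (e ▸ mem_sup_right (le_LV hv))

end Comp

theorem inf_LV_le (h : IsV T V) : T ⊓ LV T ω V ≤ V := by
  obtain ⟨c, hc, h1, h2, K, hK, rfl⟩ := h
  exact inf_le_inf_left _ (W.LV_le hc hK h1 h2)

theorem T_norm_LV : T ≤ 𝐍(LV T ω V) := (W.T_le_cent AV_le).trans norm_LV

theorem exists_f (h : IsV T V) : ∃ f ∈ LV T ω V, f ∈ 𝐍(T) ∧ f ∉ 𝐂(T) := by
  by_contra hne
  push Not at hne
  have h1 := (W.syl.of_le le_sup_left (le_top (a := T ⊔ LV T ω V))).hasNormalPComplement_of_le_centralizer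
    fun g hg => by
      obtain ⟨t, ht, l, hl, rfl⟩ := (mem_sup_of_le_normalizer_right W.T_norm_LV).1 hg.1
      exact mul_mem (W.ab ht) (hne l hl ((Subgroup.mul_mem_cancel_left _ (le_normalizer ht)).1 hg.2))
  have h2 := BT.isSolvable_of_two_nilpotent (fun H _ _ => feit_thompson H) h1
  have h3 : Group.IsSolvable (LV T ω V) := isSolvable_of_le (le_sup_right (a := T))
  obtain ⟨c, hc, hc1, hc2, K, hK, rfl⟩ := h
  have h4 := odd_solv (odd_X c)
  refine hK.ns ?_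
  rw [W.eq_sup hc hK hc1 hc2, sup_comm]
  exact isSolvable_sup_of_le_normalizer (((W.LV_le hc hK hc1 hc2).trans hK.le_cent).trans (le_norm_X c))

theorem comm_mem_V (h : IsV T V) {f t : G} (hf : f ∈ LV T ω V) (hn : f ∈ 𝐍(T)) (ht : t ∈ T) :
    ⁅t, f⁆ ∈ V := by
  refine W.inf_LV_le h ⟨?_, ?_⟩
  · exact le_normalizer_iff_commutator_le_left.1 (zpowers_le.2 hn)
      (commutator_mem_commutator ht (mem_zpowers f))
  · exact le_normalizer_iff_commutator_le_right.1 W.T_norm_LV (commutator_mem_commutator ht hf)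

/-- pumping up -/
theorem pump (h : IsV T V) {b : G} (hb : b ∈ AV T ω V) (hb1 : b ≠ 1) :
    Comp b (X b ⊔ LV T ω V) ∧ T ⊓ (X b ⊔ LV T ω V) = V := by
  obtain ⟨f, hf, hn, hfc⟩ := W.exists_f h
  have hbT := AV_le hb
  have hb2 := ((W.mem_AV h.le).1 hb).2.1
  have hfY := W.LV_le_Y2 h.le hb hf
  obtain ⟨K, hK, hfK⟩ : ∃ K, Comp b K ∧ f ∉ 𝐂(T ⊓ K) := by
    by_contra hne
    push Not at hne
    exact hfc (mem_cent_of_comp W.syl W.ab hbT hfY hn hne)
  have hV : IsV T (T ⊓ K) := ⟨b, hbT, hb1, hb2, K, hK, rfl⟩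
  have hfn : f ∈ 𝐍((T ⊓ K : Subgroup G)) :=
    le_normalizer_inf (zpowers_le.2 hn) (zpowers_le.2 (hK.Y2_le hfY)) (mem_zpowers f)
  have h1 : T ⊓ K ≤ V := fun v hv => by
    obtain ⟨k, hk, rfl⟩ := exists_commutator_eq_of_fpf hfn (fun w hw e => by
      by_contra hw1
      exact hfK (W.cent_V_of_fix hV hn hfn hw hw1 (by rw [← e]; group))) hv
    exact W.comm_mem_V h hf hn hk.1
  have h2 : T ⊓ K = V := Subgroup.eq_of_le_of_card_ge h1 (by rw [W.card_V h, W.card_V hV])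
  have h3 := W.eq_sup hbT hK hb1 hb2
  rw [h2] at h3
  rw [← h3]
  exact ⟨hK, h2⟩

theorem comp_eq {c : G} (hc : c ∈ T) (hc1 : c ≠ 1) (hc2 : c * c = 1) (h : Comp c K) :
    ∃ V, IsV T V ∧ c ∈ AV T ω V ∧ K = X c ⊔ LV T ω V :=
  ⟨T ⊓ K, ⟨c, hc, hc1, hc2, K, h, rfl⟩, W.self_mem_AV hc h hc2, W.eq_sup hc h hc1 hc2⟩

theorem le_AV_of_mem (h : IsV T V) (h' : IsV T V') (hne : V ≠ V') {b : G} (hb : b ∈ AV T ω V)
    (hb' : b ∈ AV T ω V') (hb1 : b ≠ 1) : V' ≤ AV T ω V := by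
  obtain ⟨h1, e1⟩ := W.pump h hb hb1
  obtain ⟨h2, e2⟩ := W.pump h' hb' hb1
  have h3 := h2.le_cen_of_ne h1 fun e => hne (by rw [← e1, ← e2, e])
  intro v hv
  rw [← e1, W.mem_AV_iff (AV_le hb) h1]
  exact ⟨⟨h'.le hv, h3 (mem_sup_right (le_LV hv))⟩, W.sq_V h' hv⟩

/-- decomposition along `V` and its orthogonal complement -/
theorem decomp (h : IsV T V) {t : G} (ht : t ∈ T) :
    ∃ v ∈ V, ∃ u ∈ T, (∀ w ∈ V, ω u w = 1) ∧ v * u = t := by
  obtain ⟨c, hc, -, -, K, hK, rfl⟩ := h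
  obtain ⟨v, hv, u, hu, e⟩ := hK.decomp W.syl W.ab hc ht
  exact ⟨v, hv, u, hu.1, fun w hw => hK.orth W.syl W.ab hc W.symp hu hw, e⟩

theorem decomp_Om (h : IsV T V) {t : G} (ht : t ∈ T) (ht2 : t * t = 1) :
    ∃ v ∈ V, ∃ u ∈ AV T ω V, v * u = t := by
  obtain ⟨v, hv, u, hu, h1, rfl⟩ := W.decomp h ht
  refine ⟨v, hv, u, (W.mem_AV h.le).2 ⟨hu, ?_, h1⟩, rfl⟩
  have : v * u * (v * u) = v * v * (u * u) := by
    calc v * u * (v * u) = v * (u * v) * u := by group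
      _ = _ := by rw [W.comm hu (h.le hv)]; group
  rwa [this, W.sq_V h hv, one_mul] at ht2

theorem exists_pair (h : IsV T V) {a : G} (ha : a ∈ T) (ha1 : a ≠ 1) (h1 : ∀ w ∈ V, ω a w = 1) :
    ∃ u ∈ T, (∀ w ∈ V, ω u w = 1) ∧ ω a u ≠ 1 := by
  by_contra hne
  push Not at hne
  refine ha1 (W.symp.nondeg a ha fun t ht => ?_)
  obtain ⟨v, hv, u, hu, h2, rfl⟩ := W.decomp h ht
  rw [W.symp.mul_right a ha v (h.le hv) u hu, h1 v hv, hne u hu h2, one_mul]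

theorem exists_pow_mem_AV (hV : V ≤ T) {u : G} (hu : u ∈ T) (hu1 : u ≠ 1) (h1 : ∀ w ∈ V, ω u w = 1) :
    ∃ k : ℕ, u ^ k ≠ 1 ∧ u ^ k * u ^ k = 1 ∧ u ^ k ∈ AV T ω V := by
  obtain ⟨m, hm⟩ := (isPElt_of_mem W.syl.isPGroup hu).dvd_orderOf hu1
  have h0 : 0 < orderOf u := orderOf_pos u
  have h2 : u ^ m * u ^ m = 1 := by rw [← pow_add, ← two_mul, ← hm, pow_orderOf_eq_one]
  refine ⟨m, pow_ne_one_of_lt_orderOf (by omega) (by omega), h2,
    (W.mem_AV hV).2 ⟨T.pow_mem hu m, h2, fun w hw => ?_⟩⟩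
  rw [W.symp.pow_left hu (hV hw), h1 w hw, one_pow]

theorem exists_two_AV (h : IsV T V) :
    ∃ a ∈ AV T ω V, ∃ b ∈ AV T ω V, a ≠ 1 ∧ b ≠ 1 ∧ a ≠ b := by
  obtain ⟨c, hc, hc1, hc2, K, hK, e⟩ := id h
  have h1 := W.self_mem_AV hc hK hc2
  rw [e] at h1
  obtain ⟨u, hu, h2, h3⟩ := W.exists_pair h hc hc1 ((W.mem_AV h.le).1 h1).2.2
  obtain ⟨k, hk1, -, hk⟩ := W.exists_pow_mem_AV h.le hu
    (fun e => h3 (e ▸ W.symp.one_right hc)) h2
  refine ⟨c, h1, _, hk, hc1, hk1, fun e => h3 ?_⟩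
  rw [e, W.symp.pow_left hu hu, W.symp.self u hu, one_pow]

theorem sq_AV (hV : V ≤ T) {a : G} (ha : a ∈ AV T ω V) : a * a = 1 := ((W.mem_AV hV).1 ha).2.1

theorem elem_AV (hV : V ≤ T) : IsElementaryAbelian 2 (AV T ω V) :=
  ⟨comm_iff_le_cent.2 (AV_le.trans (W.T_le_cent AV_le)), fun a ha => by rw [pow_two, W.sq_AV hV ha]⟩

theorem four_le_card_AV (h : IsV T V) : 4 ≤ Nat.card (AV T ω V) := by
  obtain ⟨a, ha, b, hb, ha1, hb1, hab⟩ := W.exists_two_AV h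
  have h1 := (elemN_one_zpowers (p := 2) ha ha1 (by rw [pow_two, W.sq_AV h.le ha])).sup_zpowers hb
    (W.T_le_cent (zpowers_le.2 (AV_le ha)) (AV_le hb)) (by rw [pow_two, W.sq_AV h.le hb]) fun h2 =>
      hab (by
        obtain ⟨k, rfl⟩ := (mem_powers_iff_mem_zpowers (x := a)).2 h2
        rcases Nat.even_or_odd' k with ⟨j, rfl | rfl⟩
        · exact (hb1 (by simp only [pow_mul, pow_two, W.sq_AV h.le ha, one_pow])).elim
        · simp only [pow_succ, pow_mul, pow_zero, one_mul, W.sq_AV h.le ha, one_pow])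
  exact h1.card.symm.le.trans (card_le_of_le h1.le)

theorem not_cyclic_AV (h : IsV T V) : ¬ IsCyclic (AV T ω V) := by
  obtain ⟨n, hn⟩ := exists_elemN_of_elem (W.elem_AV h.le) le_rfl
  refine hn.not_cyclic ?_
  have h1 := W.four_le_card_AV h
  rw [hn.card] at h1
  by_contra h2
  have : n ≤ 1 := by omega
  interval_cases n <;> omega

theorem card_Om (h : IsV T V) : Nat.card (omegaOne 2 T) = 4 * Nat.card (AV T ω V) := by
  have h1 : omegaOne 2 T = V ⊔ AV T ω V := le_antisymm (fun t ht => by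
    obtain ⟨v, hv, u, hu, rfl⟩ := W.decomp_Om h (W.mem_Om.1 ht).1 (W.mem_Om.1 ht).2
    exact mul_mem (mem_sup_left hv) (mem_sup_right hu)) (sup_le (W.V_le_Om h) (W.AV_le_Om h.le))
  rw [h1, card_sup_of_disjoint_of_le_normalizer (le_normalizer_of_le_centralizer
    (h.le.trans (W.T_le_cent AV_le))) (Subgroup.disjoint_def.2 (W.eq_one_of_AV h)), W.card_V h]

section Special

variable (h : IsV T V) (h' : IsV T V') (hd : Disjoint (AV T ω V) (AV T ω V'))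
include h h' hd

theorem card_sup_AV : Nat.card ↥(AV T ω V ⊔ AV T ω V') = Nat.card (AV T ω V) * Nat.card (AV T ω V) := by
  have h1 := W.card_Om h
  have h2 := W.card_Om h'
  rw [card_sup_of_disjoint_of_le_normalizer (le_normalizer_of_le_centralizer
    (AV_le.trans (W.T_le_cent AV_le))) hd]
  congr 1
  omega

theorem card_AV : Nat.card (AV T ω V) = 4 := by
  have h1 := card_le_of_le (sup_le (W.AV_le_Om h.le) (W.AV_le_Om h'.le))
  rw [W.card_sup_AV h h' hd, W.card_Om h] at h1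
  exact le_antisymm (Nat.le_of_mul_le_mul_right h1 Nat.card_pos) (W.four_le_card_AV h)

theorem sq_T {t : G} (ht : t ∈ T) : t * t = 1 := by
  by_contra hne
  have key : ∀ {V : Subgroup G}, IsV T V → ∀ w ∈ V, ω (t * t) w = 1 := fun h w hw => by
    rw [W.symp.mul_left t ht t ht w (h.le hw), ← W.symp.mul_right t ht w (h.le hw) w (h.le hw),
      W.sq_V h hw, W.symp.one_right ht]
  obtain ⟨k, hk1, hk2, hk⟩ := W.exists_pow_mem_AV h.le (T.mul_mem ht ht) hne (key h)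
  refine hk1 (Subgroup.disjoint_def.1 hd hk ((W.mem_AV h'.le).2 ⟨AV_le hk, hk2, fun w hw => ?_⟩))
  rw [W.symp.pow_left (T.mul_mem ht ht) (h'.le hw), key h' w hw, one_pow]

theorem T_le_sup : T ≤ AV T ω V ⊔ AV T ω V' := by
  have h1 : AV T ω V ⊔ AV T ω V' = omegaOne 2 T :=
    Subgroup.eq_of_le_of_card_ge (sup_le (W.AV_le_Om h.le) (W.AV_le_Om h'.le))
      (by rw [W.card_sup_AV h h' hd, W.card_Om h, W.card_AV h h' hd])
  exact h1 ▸ fun t ht => W.mem_Om.2 ⟨ht, W.sq_T h h' hd ht⟩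

theorem exists_mem_inf : ∃ y ∈ V, y ∈ AV T ω V' ∧ y ≠ 1 := by
  obtain ⟨a, ha, -, -, ha1, -, -⟩ := W.exists_two_AV h'
  have haT := AV_le ha
  obtain ⟨a', ha'T, h1, h2⟩ := W.exists_pair h' haT ha1 ((W.mem_AV h'.le).1 ha).2.2
  have ha' : a' ∈ AV T ω V' := (W.mem_AV h'.le).2 ⟨ha'T, W.sq_T h h' hd ha'T, h1⟩
  obtain ⟨w, hw, x, hx, rfl⟩ := W.decomp_Om h haT (W.sq_T h h' hd haT)
  obtain ⟨w', hw', x', hx', rfl⟩ := W.decomp_Om h ha'T (W.sq_T h h' hd ha'T)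
  have hwT := h.le hw
  have hw'T := h.le hw'
  have hxT := AV_le hx
  have hx'T := AV_le hx'
  by_cases e1 : x = 1
  · exact ⟨w, hw, by simpa [e1] using ha, by simpa [e1] using ha1⟩
  have ha'1 : w' * x' ≠ 1 := fun e => h2 (e ▸ W.symp.one_right haT)
  by_cases e2 : x' = 1
  · exact ⟨w', hw', by simpa [e2] using ha', by simpa [e2] using ha'1⟩
  have hm : w * x * (w' * x') = w * w' * (x * x') := by
    calc w * x * (w' * x') = w * (x * w') * x' := by group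
      _ = _ := by rw [W.comm hxT hw'T]; group
  have hne : w * x * (w' * x') ≠ 1 := fun e => h2 (by
    rw [mul_left_cancel (e.trans (W.sq_T h h' hd haT).symm), W.symp.self _ haT])
  by_cases e3 : x = x'
  · refine ⟨w * w', V.mul_mem hw hw', ?_, ?_⟩
    · have := mul_mem ha ha'
      rwa [hm, e3, W.sq_T h h' hd hx'T, mul_one] at this
    · rwa [hm, e3, W.sq_T h h' hd hx'T, mul_one] at hne
  exfalso
  have b1 : w ≠ 1 := fun e => ha1 (Subgroup.disjoint_def.1 hd (by simpa [e] using hx) ha)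
  have b2 : w' ≠ 1 := fun e => ha'1 (Subgroup.disjoint_def.1 hd (by simpa [e] using hx') ha')
  have b3 : w ≠ w' := fun e => hne (Subgroup.disjoint_def.1 hd
    (by rw [hm, e, W.sq_V h hw', one_mul]; exact mul_mem hx hx') (mul_mem ha ha'))
  have c1 : ω w w' = -1 := (W.symp.eq_one_or_neg hwT hw'T (W.sq_V h hw)).resolve_left fun e =>
    b1 (W.nondeg_V h hw fun v hv => by
      rcases four_cases (W.card_V h) hw hw' b1 b2 b3 (W.sq_V h hw) hv with rfl | rfl | rfl | rfl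
      · exact W.symp.one_right hwT
      · exact W.symp.self _ hwT
      · exact e
      · rw [W.symp.mul_right w hwT w hwT w' hw'T, W.symp.self w hwT, e, one_mul])
  have c2 : ω x x' = -1 := (W.symp.eq_one_or_neg hxT hx'T (W.sq_AV h.le hx)).resolve_left fun e => by
    obtain ⟨u, hu, d1, d2⟩ := W.exists_pair h hxT e1 ((W.mem_AV h.le).1 hx).2.2
    rcases four_cases (W.card_AV h h' hd) hx hx' e1 e2 e3 (W.sq_AV h.le hx)
      ((W.mem_AV h.le).2 ⟨hu, W.sq_T h h' hd hu, d1⟩) with rfl | rfl | rfl | rfl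
    · exact d2 (W.symp.one_right hxT)
    · exact d2 (W.symp.self _ hxT)
    · exact d2 e
    · exact d2 (by rw [W.symp.mul_right x hxT x hxT x' hx'T, W.symp.self x hxT, e, one_mul])
  refine h2 ?_
  rw [W.symp.mul_left w hwT x hxT _ ha'T, W.symp.mul_right w hwT w' hw'T x' hx'T,
    W.symp.mul_right x hxT w' hw'T x' hx'T, c1, c2, ((W.mem_AV h.le).1 hx).2.2 w' hw',
    (W.symp.eq_one_comm hwT hx'T).2 (((W.mem_AV h.le).1 hx').2.2 w hw)]
  simp

end Special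

theorem le_AV_symm (h : IsV T V) (h' : IsV T V') (h1 : V ≤ AV T ω V') : V' ≤ AV T ω V := fun v hv =>
  (W.mem_AV h.le).2 ⟨h'.le hv, W.sq_V h' hv, fun _ hw =>
    (W.symp.eq_one_comm (h.le hw) (h'.le hv)).1 (((W.mem_AV h'.le).1 (h1 hw)).2.2 v hv)⟩

/-- distinct four-groups are orthogonal -/
theorem orth (h : IsV T V) (h' : IsV T V') (hne : V ≠ V') : V' ≤ AV T ω V := by
  by_cases hd : Disjoint (AV T ω V) (AV T ω V')
  swap
  · obtain ⟨b, hb, hb1⟩ := (Subgroup.bot_or_exists_ne_one _).resolve_left (mt disjoint_iff.2 hd)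
    exact W.le_AV_of_mem h h' hne hb.1 hb.2 hb1
  obtain ⟨y, hy, hy', hy1⟩ := W.exists_mem_inf h h' hd
  obtain ⟨f, hf, hn, hfc⟩ := W.exists_f h'
  have hfA := W.LV_le_cent h'.le hf
  have hfy : f * y * f⁻¹ = y := by rw [← hfA y hy']; group
  have h1 := h.conj hn
  have hy1' : y ∈ MulAut.conj f • V := hfy ▸ conj_mem_conj_smul.2 hy
  have hfV : f ∈ 𝐍(V) := by
    by_contra hne1
    have hne2 : V ≠ MulAut.conj f • V := fun e => hne1 (conj_smul_eq_iff_mem_normalizer.1 e.symm)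
    by_cases hd1 : Disjoint (AV T ω V) (AV T ω (MulAut.conj f • V))
    · refine hy1 (W.symp.nondeg y (h.le hy) fun t ht => ?_)
      obtain ⟨a, ha, b, hb, rfl⟩ := (mem_sup_of_le_normalizer_left (le_normalizer_of_le_centralizer
        (AV_le.trans (W.T_le_cent AV_le)))).1 (W.T_le_sup h h1 hd1 ht)
      rw [W.symp.eq_one_comm (h.le hy) ht, W.symp.mul_left a (AV_le ha) b (AV_le hb) y (h.le hy),
        ((W.mem_AV h.le).1 ha).2.2 y hy, ((W.mem_AV h1.le).1 hb).2.2 y hy1', one_mul]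
    · obtain ⟨b, hb, hb1⟩ := (Subgroup.bot_or_exists_ne_one _).resolve_left (mt disjoint_iff.2 hd1)
      exact hy1 (W.eq_one_of_AV h hy (W.le_AV_of_mem h h1 hne2 hb.1 hb.2 hb1 hy1'))
  have h2 := W.cent_V_of_fix h hn hfV hy hy1 hfy
  refine W.le_AV_symm h h' fun v hv => ?_
  obtain ⟨w, hw, x, hx, rfl⟩ := W.decomp_Om h' (h.le hv) (W.sq_V h hv)
  by_cases hw1 : w = 1
  · simpa [hw1] using hx
  exfalso
  have h3 : f * w * f⁻¹ = w := by
    have e1 := h2 _ hv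
    have e2 := hfA _ hx
    have : w * f = f * w := by
      apply mul_right_cancel (b := x)
      rw [mul_assoc, ← e2, ← mul_assoc, e1, mul_assoc]
    rw [← this]; group
  have hfV' : f ∈ 𝐍(V') := mem_normalizer_of_conj_mem fun z hz => by
    have := V'.mul_mem (V'.inv_mem (W.comm_mem_V h' hf hn (h'.le hz))) hz
    rw [commutatorElement_def] at this
    convert this using 1; group
  have h4 := W.cent_V_of_fix h' hn hfV' hw hw1 h3
  refine hfc fun t ht => ?_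
  obtain ⟨a, ha, b, hb, rfl⟩ := W.decomp_Om h' ht (W.sq_T h h' hd ht)
  rw [mul_assoc, hfA b hb, ← mul_assoc, h4 a ha, mul_assoc]

end Ctx

end GAG
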