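import Cfsg.Agent.Lib.Gag.W3
import Cfsg.Agent.Lib.Gag.Sig
import Cfsg.Agent.Lib.Gag.W0a
import Cfsg.Agent.Lib.Gag.W0b
import Cfsg.Agent.Lib.Gag.W0c
import Cfsg.Agent.Lib.FT.Sig.SFT

/-!
# The signalizer functor
-/

set_option autoImplicit false
set_option linter.unusedSectionVars false

namespace GAG

open Cfsg GT FT Subgroup
open scoped Pointwise commutatorElement

universe u

variable {G : Type u} [Group G]

/-- the component of `C(b)` belonging to `V` -/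
abbrev KV (T : Subgroup G) (ω : G → G → ℂˣ) (V : Subgroup G) (b : G) : Subgroup G := X b ⊔ LV T ω V

/-- elements centralizing `Ω₁(V^⊥)` and the components belonging to `V` -/
def RV (T : Subgroup G) (ω : G → G → ℂˣ) (V : Subgroup G) : Subgroup G :=
  𝐂(AV T ω V) ⊓ ⨅ b ∈ AV T ω V, ⨅ _ : b ≠ 1, cen b (KV T ω V b)

/-- the largest subgroup of `D` acting trivially on the components belonging to `V` -/
def NV (T : Subgroup G) (ω : G → G → ℂˣ) (V D : Subgroup G) : Subgroup G :=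
  ⁅D, AV T ω V⁆ ⊔ (D ⊓ RV T ω V)

/-- the signalizer functor -/
def Th (T : Subgroup G) (ω : G → G → ℂˣ) (z : G) : Subgroup G :=
  X z ⊓ ⨅ V, ⨅ _ : IsV T V, NV T ω V (X z)

/-- `T`-invariant subgroups of odd order -/
structure Inv (T D : Subgroup G) : Prop where
  norm : T ≤ 𝐍(D)
  odd : ¬ 2 ∣ Nat.card D

/-- `D` acts trivially on all components -/
def Null (T D : Subgroup G) : Prop :=
  ∀ c ∈ T, c ≠ 1 → c * c = 1 → ∀ K, Comp c K → D ⊓ 𝐂[c] ≤ cen c K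

variable {T : Subgroup G} {ω : G → G → ℂˣ} {V V' D D' : Subgroup G} {b z : G}

theorem mem_RV {x : G} :
    x ∈ RV T ω V ↔ x ∈ 𝐂(AV T ω V) ∧ ∀ b ∈ AV T ω V, b ≠ 1 → x ∈ cen b (KV T ω V b) := by
  simp only [RV, mem_inf, mem_iInf]

theorem le_Th : D ≤ Th T ω z ↔ D ≤ X z ∧ ∀ V, IsV T V → D ≤ NV T ω V (X z) := by
  simp only [Th, le_inf_iff, le_iInf_iff]

theorem Th_le : Th T ω z ≤ X z := (le_Th.1 le_rfl).1

theorem Inv.of_le (h : Inv T D) (h1 : D' ≤ D) (h2 : T ≤ 𝐍(D')) : Inv T D' :=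
  ⟨h2, fun h3 => h.odd (h3.trans (card_dvd_of_le h1))⟩

theorem Null.mono (h : Null T D) (h1 : D' ≤ D) : Null T D' := fun c hc h2 h3 K hK =>
  (inf_le_inf_right _ h1).trans (h c hc h2 h3 K hK)

theorem Inv.conj (h : Inv T D) {n : G} (hn : n ∈ 𝐍(T)) : Inv T (MulAut.conj n • D) :=
  ⟨by
    rw [← conj_smul_normalizer, ← conj_smul_eq_of_mem_normalizer hn]
    exact conj_smul_mono n h.norm, by rw [card_conj_smul]; exact h.odd⟩

theorem conj_cen_le {c : G} {K : Subgroup G} (hK : K ≤ 𝐂[c]) (g : G) :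
    MulAut.conj g • cen c K ≤ cen (g * c * g⁻¹) (MulAut.conj g • K) := by
  have h1 : ∀ {H : Subgroup G}, H ≤ 𝐂[c] → MulAut.conj g • H ≤ 𝐂[g * c * g⁻¹] := fun h =>
    conj_smul_centralizer_singleton g c ▸ conj_smul_mono g h
  rw [le_cen_iff (h1 (cen_le c K)) (h1 hK), ← conj_smul_commutator, ← conj_X]
  exact conj_smul_mono g ((le_cen_iff (cen_le c K) hK).1 le_rfl)

theorem Null.conj (h : Null T D) {n : G} (hn : n ∈ 𝐍(T)) : Null T (MulAut.conj n • D) := by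
  intro c hc h1 h2 K hK
  have e : n * (n⁻¹ * c * n⁻¹⁻¹) * n⁻¹ = c := by group
  have h3 := conj_smul_mono n (h (n⁻¹ * c * n⁻¹⁻¹) (conj_mem_of_mem_normalizer (inv_mem hn) hc)
    (fun e1 => h1 (by rw [← e, e1]; group)) (by
      calc n⁻¹ * c * n⁻¹⁻¹ * (n⁻¹ * c * n⁻¹⁻¹) = n⁻¹ * (c * c) * n := by group
        _ = 1 := by rw [h2]; group) _ (hK.conj n⁻¹))
  have h4 := conj_cen_le (hK.conj n⁻¹).le_cent n
  rw [conj_smul_inf, conj_smul_centralizer_singleton, e] at h3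
  rw [e, conj_smul_conj_inv_smul] at h4
  exact h3.trans h4

theorem norm_iInf {ι : Sort*} {F : ι → Subgroup G} {g : G} (h : ∀ i, g ∈ 𝐍(F i)) : g ∈ 𝐍(⨅ i, F i) := by
  rw [mem_normalizer_iff]
  intro x
  simp only [mem_iInf]
  exact forall_congr' fun i => mem_normalizer_iff.1 (h i) x

variable [Finite G]

namespace Ctx

variable (W : Ctx T ω)
include W

theorem inv_X (hz : z ∈ T) : Inv T (X z) := ⟨(T_le W.ab hz).trans (le_norm_X z), odd_X z⟩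

theorem inv_inf_cent (h : Inv T D) {A : Subgroup G} (hA : A ≤ T) : Inv T (D ⊓ 𝐂(A)) :=
  h.of_le inf_le_left (le_normalizer_inf h.norm ((W.T_le_cent hA).trans le_normalizer))

theorem inv_inf_cent1 (h : Inv T D) (hb : b ∈ T) : Inv T (D ⊓ 𝐂[b]) :=
  h.of_le inf_le_left (le_normalizer_inf h.norm ((T_le W.ab hb).trans le_normalizer))

theorem cop (h : Inv T D) {A : Subgroup G} (hA : A ≤ T) : CoprimeAct A D :=
  coprimeAct_of_isPGroup_left (hA.trans h.norm) (W.syl.isPGroup.to_le hA) h.odd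

section V

variable (h : IsV T V)
include h

theorem KV_comp (hb : b ∈ AV T ω V) (hb1 : b ≠ 1) : Comp b (KV T ω V b) := (W.pump h hb hb1).1

theorem AV_le_cenV (hb : b ∈ AV T ω V) (hb1 : b ≠ 1) : AV T ω V ≤ cen b (KV T ω V b) := by
  have := W.AV_le_cen (AV_le hb) (W.KV_comp h hb hb1)
  rwa [(W.pump h hb hb1).2] at this

omit W h in
theorem cent_AV_le_normV (hb : b ∈ AV T ω V) : 𝐂(AV T ω V) ≤ 𝐍(KV T ω V b) :=
  le_normalizer_sup ((cent_le_cent1 hb).trans (le_norm_X b)) norm_LV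

theorem LV_le_cent1 (hb : b ∈ AV T ω V) : LV T ω V ≤ 𝐂[b] := (W.LV_le_cent h.le).trans (cent_le_cent1 hb)

theorem mem_RV_of (hb : b ∈ AV T ω V) {x : G} (h1 : x ∈ 𝐂(AV T ω V))
    (h2 : x ∈ cen b (KV T ω V b)) : x ∈ RV T ω V := by
  refine mem_RV.2 ⟨h1, fun b' hb' hb1' => ?_⟩
  rw [cen_X_sup (W.LV_le_cent1 h hb), mem_cen_iff (W.LV_le_cent1 h hb)] at h2
  rw [cen_X_sup (W.LV_le_cent1 h hb'), mem_cen_iff (W.LV_le_cent1 h hb')]
  refine ⟨cent_le_cent1 hb' h1, fun l hl => ?_⟩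
  have hK := W.KV_comp h hb' hb1'
  have h3 : LV T ω V ≤ 𝐍((LV T ω V ⊓ X b : Subgroup G)) :=
    le_normalizer_inf le_normalizer ((W.LV_le_cent1 h hb).trans (le_norm_X b))
  have h4 : im b' (LV T ω V ⊓ X b) = ⊥ := by
    have h5 := hK.cmp
    rw [im, qim_self_sup (X_le b') (W.LV_le_cent1 h hb')] at h5
    have := odd_solv (H := LV T ω V ⊓ X b) fun h6 => odd_X b (h6.trans (card_dvd_of_le inf_le_right))
    exact h5.eq_bot_of_solv (qim_mono inf_le_left) (qim_le_norm h3)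
      (solvable_qim (inf_le_left.trans (W.LV_le_cent1 h hb')))
  refine (qim_eq_bot_iff (inf_le_left.trans (W.LV_le_cent1 h hb'))).1 h4 ⟨?_, h2.2 l hl⟩
  exact (LV T ω V).mul_mem (conj_mem_of_mem_normalizer (norm_LV h1) hl) (inv_mem hl)

omit W h in
theorem cent_AV_le_norm_RV : 𝐂(AV T ω V) ≤ 𝐍(RV T ω V) := fun g hg =>
  le_normalizer_inf (zpowers_le.2 (le_normalizer hg)) (zpowers_le.2 (norm_iInf fun _ => norm_iInf fun hb =>
    norm_iInf fun _ => le_norm_cen (cent_le_cent1 hb) (cent_AV_le_normV hb) hg)) (mem_zpowers g)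

theorem comm_le_cen (hD : Inv T D) (hb : b ∈ AV T ω V) (hb1 : b ≠ 1) :
    ⁅D ⊓ 𝐂[b], AV T ω V⁆ ≤ cen b (KV T ω V b) :=
  (commutator_mono le_rfl (W.AV_le_cenV h hb hb1)).trans (le_normalizer_iff_commutator_le_right.1
    (le_norm_cen inf_le_right ((W.KV_comp h hb hb1).le_norm_of_odd W.syl W.ab (AV_le hb)
      (W.inv_inf_cent1 hD (AV_le hb)).odd (W.inv_inf_cent1 hD (AV_le hb)).norm inf_le_right)))

theorem le_cen_of_null (hD : Inv T D) (hn : D ⊓ 𝐂(AV T ω V) ≤ RV T ω V) (hb : b ∈ AV T ω V) (hb1 : b ≠ 1) :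
    D ⊓ 𝐂[b] ≤ cen b (KV T ω V b) := by
  refine (W.cop (W.inv_inf_cent1 hD (AV_le hb)) (AV_le (V := V) (ω := ω))).commutator_sup_inf_centralizer.symm.le.trans
    (sup_le (W.comm_le_cen h hD hb hb1) fun x hx => ?_)
  exact (mem_RV.1 (hn ⟨hx.1.1, hx.2⟩)).2 b hb hb1

theorem null_comm (hD : Inv T D) : ⁅D, AV T ω V⁆ ⊓ 𝐂(AV T ω V) ≤ RV T ω V :=
  star (W.elem_AV h.le) (W.not_cyclic_AV h) (AV_le.trans hD.norm) hD.odd fun _ hb hb1 _ hx =>
    W.mem_RV_of h hb hx.2 (W.comm_le_cen h hD hb hb1 hx.1)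

omit W h in
theorem NV_le (hD : Inv T D) : NV T ω V D ≤ D :=
  sup_le (le_normalizer_iff_commutator_le_left.1 (AV_le.trans hD.norm)) inf_le_left

omit h in
theorem inv_NV (hD : Inv T D) : Inv T (NV T ω V D) :=
  hD.of_le (NV_le hD) (le_normalizer_sup (le_normalizer_commutator hD.norm
    (le_normalizer_of_le_centralizer (W.T_le_cent AV_le)))
    (le_normalizer_inf hD.norm ((W.T_le_cent AV_le).trans cent_AV_le_norm_RV)))

theorem null_NV (hD : Inv T D) : NV T ω V D ⊓ 𝐂(AV T ω V) ≤ RV T ω V := by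
  rintro x ⟨h1, h2⟩
  obtain ⟨y, hy, r, hr, rfl⟩ := (mem_sup_of_le_normalizer_left
    (inf_le_left.trans (normalizer_commutator_ge_left D (AV T ω V)))).1 h1
  exact mul_mem (W.null_comm h hD ⟨hy, (Subgroup.mul_mem_cancel_right _ (mem_RV.1 hr.2).1).1 h2⟩) hr.2

omit h in
theorem le_NV (hD' : Inv T D') (h1 : D' ≤ D) (hn : D' ⊓ 𝐂(AV T ω V) ≤ RV T ω V) : D' ≤ NV T ω V D :=
  (W.cop hD' (AV_le (V := V) (ω := ω))).commutator_sup_inf_centralizer.symm.le.trans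
    (sup_le_sup (commutator_mono h1 le_rfl) (le_inf (inf_le_left.trans h1) hn))

theorem NV_eq (hD : Inv T D) (hb : b ∈ AV T ω V) (hb1 : b ≠ 1) :
    NV T ω V D = ⁅D, zpowers b⁆ ⊔ (D ⊓ cen b (KV T ω V b)) := by
  have hbT := AV_le hb
  apply le_antisymm
  · refine (W.cop (W.inv_NV hD) (zpowers_le.2 hbT)).commutator_sup_inf_centralizer.symm.le.trans
      (sup_le_sup (commutator_mono (NV_le hD) le_rfl) (le_inf (inf_le_left.trans (NV_le hD)) ?_))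
    rw [centralizer_zpowers]
    exact W.le_cen_of_null h (W.inv_NV hD) (W.null_NV h hD) hb hb1
  · refine sup_le ((commutator_mono le_rfl (zpowers_le.2 hb)).trans le_sup_left)
      (W.le_NV (hD.of_le inf_le_left (le_normalizer_inf hD.norm (le_norm_cen (T_le W.ab hbT)
        ((W.KV_comp h hb hb1).T_norm W.syl W.ab hbT)))) inf_le_left fun x hx => ?_)
    exact W.mem_RV_of h hb hx.2 hx.1.2

theorem norm_NV (hD : Inv T D) (hb : b ∈ AV T ω V) (hb1 : b ≠ 1) {g : G} (h1 : g ∈ 𝐍(D)) (h2 : g ∈ 𝐂[b])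
    (h3 : g ∈ 𝐍(KV T ω V b)) : g ∈ 𝐍(NV T ω V D) := by
  rw [W.NV_eq h hD hb hb1]
  refine le_normalizer_sup (le_normalizer_commutator (zpowers_le.2 h1) (le_normalizer_of_le_centralizer ?_))
    (le_normalizer_inf (zpowers_le.2 h1) (le_norm_cen (zpowers_le.2 h2) (zpowers_le.2 h3))) (mem_zpowers g)
  rw [centralizer_zpowers]
  exact zpowers_le.2 h2

theorem NV_X (hz : z ∈ AV T ω V) : NV T ω V (X z) = X z :=
  le_antisymm (NV_le (W.inv_X (AV_le hz))) (W.le_NV (W.inv_X (AV_le hz)) le_rfl fun _ hx =>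
    W.mem_RV_of h hz hx.2 (X_le_cen _ _ hx.1))

theorem le_RV_of_null (hn : Null T D) : D ⊓ 𝐂(AV T ω V) ≤ RV T ω V := fun _ hx =>
  mem_RV.2 ⟨hx.2, fun b hb hb1 => hn b (AV_le hb) hb1 (W.sq_AV h.le hb) _ (W.KV_comp h hb hb1)
    ⟨hx.1, cent_le_cent1 hb hx.2⟩⟩

end V

theorem null_of_forall (hD : Inv T D) (h : ∀ V, IsV T V → D ⊓ 𝐂(AV T ω V) ≤ RV T ω V) : Null T D := by
  intro c hc h1 h2 K hK
  obtain ⟨V, hV, hcV, rfl⟩ := W.comp_eq hc h1 h2 hK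
  exact W.le_cen_of_null hV hD (h V hV) hcV h1

theorem inv_Th (hz : z ∈ T) : Inv T (Th T ω z) :=
  (W.inv_X hz).of_le Th_le (le_normalizer_inf (W.inv_X hz).norm fun _ hg => norm_iInf fun _ =>
    norm_iInf fun _ => (W.inv_NV (W.inv_X hz)).norm hg)

theorem null_Th (hz : z ∈ T) : Null T (Th T ω z) :=
  W.null_of_forall (W.inv_Th hz) fun V hV =>
    (inf_le_inf_right _ ((le_Th.1 le_rfl).2 V hV)).trans (W.null_NV hV (W.inv_X hz))

theorem le_Th_of_null (hD : Inv T D) (hn : Null T D) (h1 : D ≤ X z) : D ≤ Th T ω z :=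
  le_Th.2 ⟨h1, fun _ hV => W.le_NV hD h1 (W.le_RV_of_null hV hn)⟩

theorem inf_le_Th (hD : Inv T D) (hn : Null T D) {c : G} (hc : c ∈ T) (h1 : c ≠ 1) (h2 : c * c = 1) :
    D ⊓ 𝐂[c] ≤ Th T ω c :=
  have h3 := W.inv_inf_cent1 hD hc
  W.le_Th_of_null h3 (hn.mono inf_le_left)
    (le_X_of_comp W.syl W.ab hc h3.odd h3.norm inf_le_right (hn c hc h1 h2))

theorem conj_Th_le (hz : z ∈ T) {n : G} (hn : n ∈ 𝐍(T)) :
    MulAut.conj n • Th T ω z ≤ Th T ω (n * z * n⁻¹) :=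
  W.le_Th_of_null ((W.inv_Th hz).conj hn) ((W.null_Th hz).conj hn) (conj_X n z ▸ conj_smul_mono n Th_le)

end Ctx

/-- The completion of the functor. -/
structure Wst (T : Subgroup G) (ω : G → G → ℂˣ) (S : Subgroup G) : Prop where
  norm : omegaOne 2 T ≤ 𝐍(S)
  odd : ¬ 2 ∣ Nat.card S
  inf : ∀ a ∈ omegaOne 2 T, a ≠ 1 → S ⊓ 𝐂[a] = Th T ω a
  le : ∀ H : Subgroup G, (∀ a ∈ omegaOne 2 T, a ≠ 1 → Th T ω a ≤ H) → S ≤ H

namespace Ctx

variable (W : Ctx T ω)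
include W

theorem exists_Wst (h8 : 8 ∣ Nat.card (omegaOne 2 T)) : ∃ S, Wst T ω S := by
  have hT : ∀ {a}, a ∈ omegaOne 2 T → a ∈ T := fun h => (W.mem_Om.1 h).1
  have hc : ∀ {n : ℕ}, ¬ 2 ∣ n → n.Coprime (2 * 2) := fun h =>
    have := ((Nat.Prime.coprime_iff_not_dvd Nat.prime_two).2 h).symm
    this.mul_right this
  obtain ⟨S, h1, -, h2, h3, h4⟩ := SF.signalizer (θ := Th T ω) W.elem_Om h8
    (fun a _ _ => Th_le.trans (X_le a)) (fun a ha _ => (omegaOne_le 2 T).trans (W.inv_Th (hT ha)).norm)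
    (fun a ha _ => odd_solv (W.inv_Th (hT ha)).odd) (fun a ha _ => hc (W.inv_Th (hT ha)).odd)
    fun a ha _ b hb hb1 => W.inf_le_Th (W.inv_Th (hT ha)) (W.null_Th (hT ha)) (hT hb) hb1 (W.mem_Om.1 hb).2
  refine ⟨S, h1, fun h5 => ?_, h3, h4⟩
  exact absurd (Nat.dvd_gcd h5 (by norm_num : 2 ∣ 2 * 2)) (by rw [h2]; norm_num)

variable {S : Subgroup G} (hS : Wst T ω S)
include hS

omit W in
theorem norm_of_le {g : G} (h : S ≤ MulAut.conj g • S) : g ∈ 𝐍(S) :=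
  conj_smul_eq_iff_mem_normalizer.1 (Subgroup.eq_of_le_of_card_ge h (card_conj_smul g S).le).symm

omit W in
theorem Th_le_S {a : G} (ha : a ∈ omegaOne 2 T) (h1 : a ≠ 1) : Th T ω a ≤ S :=
  (hS.inf a ha h1).symm.le.trans inf_le_left

theorem norm_le_norm_S : 𝐍(T) ≤ 𝐍(S) := fun n hn => by
  refine norm_of_le hS (hS.le _ fun a ha h1 => ?_)
  rw [← inv_inv n, ← conj_smul_le_iff_le_inv]
  refine (W.conj_Th_le (W.mem_Om.1 ha).1 (inv_mem hn)).trans (Th_le_S hS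
    (conj_mem_of_mem_normalizer (norm_le_norm_omegaOne 2 T (inv_mem hn)) ha) fun e => h1 ?_)
  calc a = n * (n⁻¹ * a * n⁻¹⁻¹) * n⁻¹ := by group
    _ = 1 := by rw [e]; group

theorem norm_S_of {B : Subgroup G} (hB : B ≤ omegaOne 2 T) (hnc : ¬ IsCyclic B) {g : G}
    (h : ∀ e ∈ B, e ≠ 1 → g ∈ 𝐍(Th T ω e)) : g ∈ 𝐍(S) := by
  have hBT := hB.trans (omegaOne_le 2 T)
  have := comm_iff_le_cent.2 (hBT.trans (W.T_le_cent hBT))
  refine norm_of_le hS (le_of_forall_centralizer_le (hB.trans hS.norm)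
    ((W.syl.isPGroup.to_le hBT).coprime_card hS.odd).symm hnc fun e he h1 => ?_)
  rw [hS.inf e (hB he) h1, ← conj_smul_eq_of_mem_normalizer (h e he h1)]
  exact conj_smul_mono g (Th_le_S hS (hB he) h1)

omit W hS in
theorem norm_Th {e g : G} (h1 : g ∈ 𝐂[e]) (h : ∀ V, IsV T V → g ∈ 𝐍(NV T ω V (X e))) : g ∈ 𝐍(Th T ω e) :=
  le_normalizer_inf (zpowers_le.2 (le_norm_X e h1))
    (zpowers_le.2 (norm_iInf fun V => norm_iInf fun hV => h V hV)) (mem_zpowers g)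

omit hS in
theorem hyper_mem {E : Subgroup G} {a : G} (ha : a ∈ omegaOne 2 T) (h : omegaOne 2 T ≤ E ⊔ zpowers a)
    (hE : E ≤ omegaOne 2 T) {x : G} (hx : x ∈ omegaOne 2 T) : x ∈ E ∨ x * a ∈ E := by
  have hT := omegaOne_le 2 T
  obtain ⟨e, he, _, ⟨k, rfl⟩, rfl⟩ := (mem_sup_of_le_normalizer_left (le_normalizer_of_le_centralizer
    ((zpowers_le.2 (hT ha)).trans (W.T_le_cent (hE.trans hT))))).1 (h hx)
  have h2 : a ^ (2 : ℤ) = 1 := by rw [zpow_two]; exact (W.mem_Om.1 ha).2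
  rcases Int.even_or_odd' k with ⟨j, rfl | rfl⟩
  · left; simpa only [zpow_mul, h2, one_zpow, mul_one] using he
  · right
    simp only [zpow_add, zpow_mul, h2, one_zpow, one_mul, zpow_one, mul_assoc, (W.mem_Om.1 ha).2, mul_one]
    exact he

omit hS in
theorem hyper_not_cyclic (h8 : 8 ∣ Nat.card (omegaOne 2 T)) {E : Subgroup G} {a : G} (ha : a ∈ omegaOne 2 T)
    (h : omegaOne 2 T ≤ E ⊔ zpowers a) (hE : E ≤ omegaOne 2 T) : ¬ IsCyclic E := by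
  have hT := omegaOne_le 2 T
  obtain ⟨n, hn⟩ := exists_elemN_of_elem (p := 2) (E := E) (H := E) ⟨comm_iff_le_cent.2 ((hE.trans hT).trans
    (W.T_le_cent (hE.trans hT))), fun x hx => W.elem_Om.2 x (hE hx)⟩ le_rfl
  refine hn.not_cyclic ?_
  have h1 := (h8.trans (card_dvd_of_le h)).trans (card_sup_dvd_of_le_normalizer
    (le_normalizer_of_le_centralizer ((hE.trans hT).trans (W.T_le_cent (zpowers_le.2 (hT ha))))))
  have h2 : orderOf a ∣ 2 := orderOf_dvd_of_pow_eq_one (W.elem_Om.2 a ha)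
  rw [hn.card, Nat.card_zpowers] at h1
  have h3 := Nat.le_of_dvd (by positivity) (h1.trans (Nat.mul_dvd_mul_left _ h2))
  by_contra h4
  have : n ≤ 1 := by omega
  interval_cases n <;> omega

theorem le_norm_S (h8 : 8 ∣ Nat.card (omegaOne 2 T)) (hD : Inv T D) : D ≤ 𝐍(S) := by
  have hT := omegaOne_le 2 T
  have := W.elem_Om.1
  refine le_of_forall_centralizer_cocyclic_le (hT.trans hD.norm) (W.cop hD hT).cop ?_
  rintro E hE ⟨a, ha, h⟩ g hg
  refine W.norm_S_of hS hE (W.hyper_not_cyclic h8 ha h hE) fun e he _ =>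
    norm_Th (cent_le_cent1 he hg.2) fun V hV => ?_
  obtain ⟨b, hb, hbE, hb1⟩ : ∃ b ∈ AV T ω V, b ∈ E ∧ b ≠ 1 := by
    obtain ⟨x, hx, y, hy, hx1, hy1, hxy⟩ := W.exists_two_AV hV
    rcases W.hyper_mem ha h hE (W.AV_le_Om hV.le hx) with h1 | h1
    · exact ⟨x, hx, h1, hx1⟩
    rcases W.hyper_mem ha h hE (W.AV_le_Om hV.le hy) with h2 | h2
    · exact ⟨y, hy, h2, hy1⟩
    refine ⟨x * y⁻¹, mul_mem hx (inv_mem hy), ?_, fun e => hxy (mul_inv_eq_one.1 e)⟩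
    have := mul_mem h1 (inv_mem h2)
    convert this using 1; group
  have h3 := W.inv_inf_cent1 hD (AV_le hb)
  exact W.norm_NV hV (W.inv_X (hT (hE he))) hb hb1 (le_norm_X e (cent_le_cent1 he hg.2))
    (cent_le_cent1 hbE hg.2) ((W.KV_comp hV hb hb1).le_norm_of_odd W.syl W.ab (AV_le hb) h3.odd h3.norm
      inf_le_right ⟨hg.1, cent_le_cent1 hbE hg.2⟩)

theorem LV_le_norm_S (h : IsV T V)
    (hn : ∀ V', IsV T V' → ¬ Disjoint (AV T ω V) (AV T ω V')) : LV T ω V ≤ 𝐍(S) := fun g hg => by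
  refine W.norm_S_of hS (W.AV_le_Om h.le) (W.not_cyclic_AV h) fun e he _ =>
    norm_Th (W.LV_le_cent1 h he hg) fun V' hV' => ?_
  obtain ⟨b, hb, hb1⟩ := (Subgroup.bot_or_exists_ne_one _).resolve_left (mt disjoint_iff.2 (hn V' hV'))
  exact W.norm_NV hV' (W.inv_X (AV_le he)) hb.2 hb1 (le_norm_X e (W.LV_le_cent1 h he hg))
    (W.LV_le_cent1 h hb.1 hg) ((W.KV_comp hV' hb.2 hb1).Y2_le (W.LV_le_Y2 h.le hb.1 hg))

end Ctx

end GAG
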