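import Cfsg.Agent.Lib.Gag.W4

/-!
# Simple groups whose abelian Sylow `2`-subgroup carries an invariant symplectic form
-/

set_option autoImplicit false
set_option linter.unusedSectionVars false

namespace GAG

open Cfsg GT FT Subgroup
open scoped Pointwise commutatorElement

universe u

variable {G : Type u} [Group G] [Finite G]

theorem Cmp.norm_T {T K : Subgroup G} (h : Cmp K) (hT : IsSylowIn 2 T ⊤) (hab : T ≤ 𝐂(T)) :
    K ⊓ 𝐍((T ⊓ K : Subgroup G)) ≤ 𝐍(T) := fun n hn => mem_normalizer_of_conj_mem fun t ht => by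
  obtain ⟨v, hv, u, hu, rfl⟩ := h.exists_mul hT hab ht
  have h2 : n * (v * u) * n⁻¹ = n * v * n⁻¹ * u := by
    have := hu.2 _ (K.inv_mem hn.1)
    simp only [mul_assoc]; rw [this]
  rw [h2]
  exact T.mul_mem (conj_mem_of_mem_normalizer hn.2 hv).1 hu.1

variable {T : Subgroup G} {ω : G → G → ℂˣ} {V V' D M S : Subgroup G} {b z : G}

namespace Ctx

variable (W : Ctx T ω)
include W

theorem eq_bot_or_top {N : Subgroup G} (h : 𝐍(N) = ⊤) : N = ⊥ ∨ N = ⊤ :=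
  have := W.simple
  IsSimpleGroup.eq_bot_or_eq_top_of_normal N (normalizer_eq_top_iff.1 h)

theorem cent_le (hz : z ∈ T) (h1 : z ≠ 1) (h2 : z * z = 1) (hX : X z ≤ M) (hN : 𝐍(T) ≤ M)
    (hL : ∀ V, IsV T V → z ∈ AV T ω V → LV T ω V ≤ M) : 𝐂[z] ≤ M :=
  cent_le_of_comp W.syl W.ab hz hX (fun K hK => by
    obtain ⟨V, hV, h3, rfl⟩ := W.comp_eq hz h1 h2 hK
    exact sup_le hX (hL V hV h3)) hN

theorem eq_top_of_fin {d u : G} (hd : d ∈ T) (hu : u ∈ T) (hd2 : d * d = 1) (hu2 : u * u = 1) (hd1 : d ≠ 1)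
    (hu1 : u ≠ 1) (hnc : ∀ n ∈ 𝐍(T), n * u * n⁻¹ ≠ d) (hCd : 𝐂[d] ≤ M)
    (hC : ∀ n ∈ 𝐍(T), ∀ z, z = d * (n * u * n⁻¹) → z ∈ T → z ≠ 1 → z * z = 1 → 𝐂[z] ≤ M) : M = ⊤ :=
  have := W.simple
  fin W.syl W.ab hd hu hd2 hu2 hd1 hu1 hnc hCd fun n hn => by
    have h1 := conj_mem_of_mem_normalizer hn hu
    refine hC n hn _ rfl (T.mul_mem hd h1) (fun e => hnc n hn (mul_left_cancel (e.trans hd2.symm)))
      (W.mul_sq hd h1 hd2 ?_)
    calc n * u * n⁻¹ * (n * u * n⁻¹) = n * (u * u) * n⁻¹ := by group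
      _ = 1 := by rw [hu2]; group

theorem eq_top_of_all (h8 : 8 ∣ Nat.card (omegaOne 2 T))
    (hX : ∀ z ∈ T, z ≠ 1 → z * z = 1 → X z ≤ M) (hN : 𝐍(T) ≤ M) (hL : ∀ V, IsV T V → LV T ω V ≤ M) :
    M = ⊤ := by
  obtain ⟨d, hd, u, hu, hd2, hu2, hd1, hu1, hnc⟩ := two_classes W.syl W.ab W.symp h8
  have key : ∀ z ∈ T, z ≠ 1 → z * z = 1 → 𝐂[z] ≤ M := fun z hz h1 h2 =>
    W.cent_le hz h1 h2 (hX z hz h1 h2) hN fun V hV _ => hL V hV
  exact W.eq_top_of_fin hd hu hd2 hu2 hd1 hu1 hnc (key d hd hd1 hd2) fun _ _ z _ => key z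

theorem V_ne_bot (h : IsV T V) : V ≠ ⊥ := fun e => by
  have := W.card_V h
  rw [e, card_bot] at this
  omega

theorem norm_LV_ne_top (h : IsV T V) : 𝐍(LV T ω V) ≠ ⊤ := fun e => by
  obtain ⟨b, hb, -, -, hb1, -, -⟩ := W.exists_two_AV h
  rcases W.eq_bot_or_top e with h1 | h1
  · exact W.V_ne_bot h (le_bot_iff.1 (h1 ▸ le_LV))
  · exact W.cent_ne_top hb1 (top_le_iff.1 (h1 ▸ W.LV_le_cent1 h hb))

section Special

variable (h : IsV T V) (h' : IsV T V') (hd : Disjoint (AV T ω V) (AV T ω V'))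
include h h' hd

theorem ne_of_disjoint : V ≠ V' := fun e => by
  obtain ⟨b, hb, -, -, hb1, -, -⟩ := W.exists_two_AV h
  exact hb1 (Subgroup.disjoint_def.1 hd hb (e ▸ hb))

theorem AV_eq : AV T ω V = V' :=
  (Subgroup.eq_of_le_of_card_ge (W.orth h h' (W.ne_of_disjoint h h' hd))
    (by rw [W.card_AV h h' hd, W.card_V h'])).symm

theorem eq_or_eq {V'' : Subgroup G} (h'' : IsV T V'') : V'' = V ∨ V'' = V' := by
  by_cases e : V = V''
  · exact Or.inl e.symm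
  · exact Or.inr (Subgroup.eq_of_le_of_card_ge (W.AV_eq h h' hd ▸ W.orth h h'' e)
      (by rw [W.card_V h', W.card_V h'']))

theorem norm_le_norm_V : 𝐍(T) ≤ 𝐍(V) := fun n hn => by
  rcases W.eq_or_eq h h' hd (h.conj hn) with e | e
  · exact conj_smul_eq_iff_mem_normalizer.1 e
  obtain ⟨m, hm, h1⟩ := exists_odd_pow W.syl W.ab hn
  refine mem_of_odd_pow hm (cent_le_norm V (centralizer_anti h.le h1)) ?_
  rw [← conj_smul_eq_iff_mem_normalizer, ← conj_smul_conj_smul, e]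
  refine (W.eq_or_eq h h' hd (h'.conj hn)).resolve_right fun e' => W.ne_of_disjoint h h' hd ?_
  rw [← conj_inv_smul_conj_smul n V, e, ← e', conj_inv_smul_conj_smul, e']

theorem eq_one_of_both {x : G} (h1 : x ∈ V) (h2 : x ∈ V') : x = 1 :=
  W.eq_one_of_AV h h1 (W.AV_eq h h' hd ▸ h2)

theorem eq_top_of_special (hX : ∀ z ∈ T, z ≠ 1 → z * z = 1 → X z ≤ M) (hN : 𝐍(T) ≤ M)
    (hL : LV T ω V ≤ M) : M = ⊤ := by
  have key : ∀ z ∈ T, z ≠ 1 → z * z = 1 → z ∉ V → 𝐂[z] ≤ M := fun z hz h1 h2 h3 =>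
    W.cent_le hz h1 h2 (hX z hz h1 h2) hN fun V'' hV h4 => by
      rcases W.eq_or_eq h h' hd hV with rfl | rfl
      · exact hL
      · exact (h3 (W.AV_eq hV h hd.symm ▸ h4)).elim
  obtain ⟨d, hdV, hd1⟩ := (Subgroup.bot_or_exists_ne_one _).resolve_left (W.V_ne_bot h')
  obtain ⟨u, hu, hu1⟩ := (Subgroup.bot_or_exists_ne_one _).resolve_left (W.V_ne_bot h)
  have h1 : d ∉ V := fun e => hd1 (W.eq_one_of_both h h' hd e hdV)
  have h2 : ∀ n ∈ 𝐍(T), n * u * n⁻¹ ∈ V := fun n hn =>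
    conj_mem_of_mem_normalizer (W.norm_le_norm_V h h' hd hn) hu
  exact W.eq_top_of_fin (h'.le hdV) (h.le hu) (W.sq_V h' hdV) (W.sq_V h hu) hd1 hu1
    (fun n hn e => h1 (e ▸ h2 n hn)) (key d (h'.le hdV) hd1 (W.sq_V h' hdV) h1)
    fun n hn z e hz h3 h4 => key z hz h3 h4 fun h5 =>
      h1 ((Subgroup.mul_mem_cancel_right _ (h2 n hn)).1 (e ▸ h5))

theorem mem_RV_of_bad (hX : ∀ D, Inv T D → D ≤ M) (hN : 𝐍(T) ≤ M) (hL : ¬ LV T ω V ≤ M) (hD : Inv T D)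
    {d v : G} (hd1 : d ∈ D ⊓ 𝐂(AV T ω V)) (hv : v ∈ V) (hv1 : v ≠ 1) (hdv : d * v = v * d) :
    d ∈ RV T ω V := by
  obtain ⟨b, hb, -, -, hb1, -, -⟩ := W.exists_two_AV h
  have hbT := AV_le hb
  have hbV : b ∈ V' := W.AV_eq h h' hd ▸ hb
  obtain ⟨hK, e⟩ := W.pump h hb hb1
  have hVc : V ≤ 𝐂[b] := h.le.trans (T_le W.ab hbT)
  have hdc : d ∈ 𝐂[b] := cent_le_cent1 hb hd1.2
  have e1 : im b V = im b T ⊓ im b (KV T ω V b) := by rw [← hK.im_inf, e]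
  have hXM := hX _ (W.inv_X hbT)
  have := hK.cmp.simple
  have hD' := W.inv_inf_cent1 hD hbT
  refine W.mem_RV_of h hb hd1.2 (mem_qpre.2 ⟨hdc, a5type (V := im b V) (M := im b M) hK.cmp.ns
    (e1 ▸ hK.cmp.sylow (syl_im W.syl W.ab hbT)) ?_ (qmk_mem_qim (x := ⟨v, hVc hv⟩) hv)
    (fun e2 => hv1 (eq_one_of_mem_X W.syl (h.le hv) (qmk_eq_one_iff.1 e2))) ?_ ?_ ?_ ?_ ?_ ?_ ?_⟩)
  · rw [← W.card_V h]
    exact (Nat.card_congr (qimEquiv hVc (Subgroup.disjoint_def.2 fun h1 h2 =>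
      eq_one_of_mem_X W.syl (h.le h2) h1)).toEquiv).symm
  · have h1 : 𝐂[b * v] ≤ M := W.cent_le (T.mul_mem hbT (h.le hv))
      (fun e2 => hv1 (W.eq_one_of_both h h' hd hv ((Subgroup.mul_mem_cancel_left _ hbV).1 (e2 ▸ one_mem _))))
      (W.mul_sq hbT (h.le hv) (W.sq_V h' hbV) (W.sq_V h hv)) (hX _ (W.inv_X (T.mul_mem hbT (h.le hv)))) hN
      fun V'' hV h4 => by
        exfalso
        rcases W.eq_or_eq h h' hd hV with rfl | rfl
        · exact hv1 (W.eq_one_of_AV h hv ((Subgroup.mul_mem_cancel_left _ hb).1 h4))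
        · rw [W.AV_eq hV h hd.symm] at h4
          exact hb1 (W.eq_one_of_both h hV hd ((Subgroup.mul_mem_cancel_right _ hv).1 h4) hbV)
    rintro y ⟨-, hy⟩
    have h2 : y ∈ 𝐂(im b (zpowers v)) := fun x hx => by
      obtain ⟨w, ⟨k, hk⟩, rfl⟩ := mem_qim.1 hx
      have : w = (⟨v, hVc hv⟩ : 𝐂[b]) ^ k := Subtype.ext hk.symm
      rw [this, map_zpow]
      exact (Commute.zpow_left (mem_cent1.1 hy).symm k)
    rw [← qim_cent ((cop_X W.syl W.ab hbT).of_le_left (zpowers_le.2 (h.le hv))) (zpowers_le.2 (hVc hv))] at h2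
    obtain ⟨x, hx, rfl⟩ := mem_qim.1 h2
    refine qmk_mem_qim (h1 (mem_cent1.2 ?_))
    rw [← mul_assoc, mem_cent1.1 x.2, mul_assoc, ← hx v (mem_zpowers v), mul_assoc]
  · rw [e1]
    exact (hK.cmp.norm_T (syl_im W.syl W.ab hbT) (ab_im W.ab)).trans
      (im_norm W.syl W.ab hbT ▸ qim_mono hN)
  · intro h1
    rw [im, im, ← qim_inf_M M, qim_le_qim_iff (X_le b) hK.le_cent inf_le_left] at h1
    exact hL (le_sup_right.trans (h1.trans (sup_le inf_le_right hXM)))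
  · refine Nat.odd_iff.2 ?_
    have h1 := ((isPRegular_mk hdc).2 (isPRegular_of_mem hD.odd hd1.1)).map (qmk 𝐂[b] (X b))
    have := isPRegular_iff.1 h1
    omega
  · exact qim_le_norm (hK.le_norm_of_odd W.syl W.ab hbT hD'.odd hD'.norm inf_le_right)
      (qmk_mem_qim (x := ⟨d, hdc⟩) ⟨hd1.1, hdc⟩)
  · exact qmk_mem_qim (x := ⟨d, hdc⟩) (hX D hD hd1.1)
  · rw [← map_mul, ← map_mul]
    exact congrArg _ (Subtype.ext hdv)

theorem null_X_of_bad (hX : ∀ D, Inv T D → D ≤ M) (hN : 𝐍(T) ≤ M) (hL : ¬ LV T ω V ≤ M) (hz : z ∈ T) :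
    X z ⊓ 𝐂(AV T ω V) ≤ RV T ω V := fun d hd1 => by
  obtain ⟨v, hv, a, ha, rfl⟩ := W.decomp_Om h hz (W.sq_T h h' hd hz)
  by_cases hv1 : v = 1
  · rw [hv1, one_mul] at hd1
    exact W.mem_RV_of h ha hd1.2 (X_le_cen _ _ hd1.1)
  refine W.mem_RV_of_bad h h' hd hX hN hL (W.inv_X hz) hd1 hv hv1 (mul_right_cancel (b := a) ?_)
  rw [mul_assoc, mem_cent1.1 (X_le _ hd1.1), mul_assoc, mul_assoc, hd1.2 a ha]

end Special

theorem false_of_ne_bot (h8 : 8 ∣ Nat.card (omegaOne 2 T)) (hS : Wst T ω S) (hne : S ≠ ⊥) : False := by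
  have hM : 𝐍(S) ≠ ⊤ := fun e => by
    have h1 := (W.eq_bot_or_top e).resolve_left hne
    have := odd_solv hS.odd
    rw [h1] at this
    exact W.ns (isSolvable_of_mulEquiv topEquiv)
  have hX : ∀ D, Inv T D → D ≤ 𝐍(S) := fun D hD => W.le_norm_S hS h8 hD
  have hX' : ∀ z ∈ T, z ≠ 1 → z * z = 1 → X z ≤ 𝐍(S) := fun z hz _ _ => hX _ (W.inv_X hz)
  have hN := W.norm_le_norm_S hS
  by_cases hsp : ∀ V, IsV T V → ∀ V', IsV T V' → ¬ Disjoint (AV T ω V) (AV T ω V')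
  · exact hM (W.eq_top_of_all h8 hX' hN fun V hV => W.LV_le_norm_S hS hV (hsp V hV))
  push Not at hsp
  obtain ⟨V, h, V', h', hd⟩ := hsp
  have hL : ¬ LV T ω V ≤ 𝐍(S) := fun h1 => hM (W.eq_top_of_special h h' hd hX' hN h1)
  have hL' : ¬ LV T ω V' ≤ 𝐍(S) := fun h1 => hM (W.eq_top_of_special h' h hd.symm hX' hN h1)
  refine hL fun g hg => W.norm_S_of hS (W.AV_le_Om h.le) (W.not_cyclic_AV h) fun e he _ => ?_
  have h1 : Th T ω e = X e := le_antisymm Th_le (W.le_Th_of_null (W.inv_X (AV_le he))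
    (W.null_of_forall (W.inv_X (AV_le he)) fun V'' hV => by
      rcases W.eq_or_eq h h' hd hV with rfl | rfl
      · exact W.null_X_of_bad hV h' hd hX hN hL (AV_le he)
      · exact W.null_X_of_bad hV h hd.symm hX hN hL' (AV_le he)) le_rfl)
  rw [h1]
  exact le_norm_X e (W.LV_le_cent1 h he hg)

section Bot

variable (hS : Wst T ω ⊥)
include hS

theorem LV_le_cent_X (h : IsV T V) (hb : b ∈ AV T ω V) (hb1 : b ≠ 1) : LV T ω V ≤ 𝐂(X b) := by
  have h1 : ⁅X b, V⁆ ≤ Th T ω b := by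
    have h2 : ⁅X b, V⁆ ≤ X b := le_normalizer_iff_commutator_le_left.1 (h.le.trans (W.inv_X (AV_le hb)).norm)
    refine le_Th.2 ⟨h2, fun V' h' => ?_⟩
    by_cases e : V' = V
    · rw [e, W.NV_X h hb]; exact h2
    · exact (commutator_mono le_rfl (W.orth h' h e)).trans le_sup_left
  have h2 : V ≤ 𝐂(X b) := le_cent_comm.1 (commutator_eq_bot_iff_le_centralizer.1
    (le_bot_iff.1 (h1.trans (Th_le_S hS (W.AV_le_Om h.le hb) hb1))))
  exact LV_le_iff.2 fun g hg v hv => conj_mem_of_mem_normalizer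
    (normalizer_le_normalizer_centralizer _ (le_norm_X b (cent_le_cent1 hb hg))) (h2 hv)

theorem norm_KV_le (h : IsV T V) (hb : b ∈ AV T ω V) (hb1 : b ≠ 1) : 𝐍(KV T ω V b) ≤ 𝐍(LV T ω V) := by
  have h1 : X b ≤ 𝐍(LV T ω V) := le_normalizer_of_le_centralizer (le_cent_comm.1 (W.LV_le_cent_X hS h hb hb1))
  have h2 : Y2 (KV T ω V b) = LV T ω V := le_antisymm (Y2_le_iff.2 fun g hg h2 => by
    refine le_of_coprime_card_relIndex (zpowers_le.2 hg) (sup_le h1 le_normalizer) ?_ (mem_zpowers g)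
    rw [relIndex_sup_of_le_normalizer h1]
    exact h2.isPGroup_zpowers.coprime_card fun h3 => odd_X b (h3.trans (relIndex_dvd_card _ _)))
    ((W.LV_le_Y2_self h.le).trans (Y2_mono le_sup_right))
  exact h2 ▸ norm_le_norm_Y2 _

theorem le_norm_LV (h : IsV T V) (hD : Inv T D) : D ≤ 𝐍(LV T ω V) := by
  have := (W.elem_AV (V := V) h.le).1
  refine le_of_forall_centralizer_le (AV_le.trans hD.norm) (W.cop hD AV_le).cop (W.not_cyclic_AV h)
    fun b hb hb1 => ?_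
  have h1 := W.inv_inf_cent1 hD (AV_le hb)
  exact ((W.KV_comp h hb hb1).le_norm_of_odd W.syl W.ab (AV_le hb) h1.odd h1.norm inf_le_right).trans
    (W.norm_KV_le hS h hb hb1)

theorem false_of_bot (h8 : 8 ∣ Nat.card (omegaOne 2 T)) : False := by
  by_cases hsp : ∀ V, IsV T V → ∀ V', IsV T V' → ¬ Disjoint (AV T ω V) (AV T ω V')
  swap
  · push Not at hsp
    obtain ⟨V, h, V', h', hd⟩ := hsp
    refine W.norm_LV_ne_top h (W.eq_top_of_special h h' hd (fun z hz _ _ => W.le_norm_LV hS h (W.inv_X hz))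
      (fun n hn => norm_of_conj_le ?_) le_normalizer)
    have := W.conj_LV_le h.le hn
    rwa [conj_smul_eq_of_mem_normalizer (W.norm_le_norm_V h h' hd hn)] at this
  by_cases hex : ∃ V, IsV T V
  · obtain ⟨V, h⟩ := hex
    let Λ : Subgroup G := ⨆ V, ⨆ _ : IsV T V, LV T ω V
    have h1 : ∀ V, IsV T V → LV T ω V ≤ Λ := fun V hV => le_iSup₂_of_le V hV le_rfl
    have h2 : ∀ g, (∀ V, IsV T V → MulAut.conj g • LV T ω V ≤ Λ) → g ∈ 𝐍(Λ) := fun g hg =>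
      norm_of_conj_le (conj_smul_le_iff_le_inv.2 (iSup₂_le fun V hV => conj_smul_le_iff_le_inv.1 (hg V hV)))
    have h3 := W.eq_top_of_all h8 (M := 𝐍(Λ)) (fun z hz _ _ g hg => h2 g fun V hV => by
        rw [conj_smul_eq_of_mem_normalizer (W.le_norm_LV hS hV (W.inv_X hz) hg)]
        exact h1 V hV)
      (fun n hn => h2 n fun V hV => (W.conj_LV_le hV.le hn).trans (h1 _ (hV.conj hn)))
      fun V hV => (h1 V hV).trans le_normalizer
    have h4 := (W.eq_bot_or_top h3).resolve_left fun e =>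
      W.V_ne_bot h (le_bot_iff.1 (e ▸ le_LV.trans (h1 V h)))
    refine W.norm_LV_ne_top h (top_le_iff.1 (h4 ▸ iSup₂_le fun V' h' => ?_))
    obtain ⟨b, hb, hb1⟩ := (Subgroup.bot_or_exists_ne_one _).resolve_left (mt disjoint_iff.2 (hsp V h V' h'))
    exact (W.LV_le_Y2 h'.le hb.2).trans ((W.KV_comp h hb.1 hb1).Y2_le.trans (W.norm_KV_le hS h hb.1 hb1))
  · have h1 := W.eq_top_of_all h8 (M := 𝐍(T)) (fun z hz h1 h2 =>
      ((le_Th.2 ⟨le_rfl, fun V hV => (hex ⟨V, hV⟩).elim⟩).trans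
        (Th_le_S hS (W.mem_Om.2 ⟨hz, h2⟩) h1)).trans bot_le) le_rfl fun V hV => (hex ⟨V, hV⟩).elim
    refine W.ns ?_
    rcases W.eq_bot_or_top h1 with e | e
    · have := odd_solv (W.syl.eq_bot_iff.1 e)
      exact isSolvable_of_mulEquiv topEquiv
    · exact IsPGroup.isSolvable' (isPGroup_top_iff.1 (e ▸ W.syl.isPGroup))

end Bot

end Ctx

/-- A simple group whose abelian Sylow `2`-subgroup carries an invariant nondegenerate alternating form has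
Sylow `2`-subgroups of order four. -/
theorem walter (G : Type u) [Group G] [Finite G] [IsSimpleGroup G] (hns : ¬ Group.IsSolvable G)
    {T : Subgroup G} (hT : IsSylowIn 2 T ⊤) (hab : T ≤ 𝐂(T)) {ω : G → G → ℂˣ} (hs : Symp T ω) :
    Nat.card T = 4 := by
  refine induction_on_card (P := fun G _ _ => IsSimpleGroup G → ¬ Group.IsSolvable G →
    ∀ (T : Subgroup G) (ω : G → G → ℂˣ), IsSylowIn 2 T ⊤ → T ≤ 𝐂(T) → Symp T ω → Nat.card T = 4)
    (fun G _ _ ih h1 hns T ω hT hab hs => ?_) G inferInstance hns T ω hT hab hs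
  by_cases h8 : 8 ∣ Nat.card (omegaOne 2 T)
  swap
  · exact rank_two hns hT hab h8
  have W : Ctx T ω := ⟨h1, hns, hT, hab, hs, fun K _ _ h2 h3 => ih K h3 h2⟩
  obtain ⟨S, hS⟩ := W.exists_Wst h8
  by_cases e : S = ⊥
  · exact (W.false_of_bot (e ▸ hS) h8).elim
  · exact (W.false_of_ne_bot h8 hS e).elim

end GAG
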